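/-
Dimensions of block algebras over the residue field.
-/
import Cfsg.Agent.Lib.BrauerPairs.Concrete
import Cfsg.Agent.Lib.Blocks.Subsections
import Mathlib.LinearAlgebra.Matrix.Rank
import Mathlib.LinearAlgebra.Trace
import Mathlib.LinearAlgebra.Projection

set_option linter.unusedSectionVars false
set_option linter.style.haveILetI false

namespace Cfsg.Agent.BlockAlg

open Cfsg MonoidAlgebra Cfsg.Agent.Blocks Cfsg.Agent.BrauerPairs Matrix
open scoped ComplexConjugate

universe u

/-! ## Lifting independence -/

section Lift

variable {R K : Type*} [CommRing R] [IsLocalRing R] [Field K]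

/-- Vectors with independent reductions are independent. -/
theorem linearIndependent_lift (i : R →+* K) {n m : Type*} [Fintype n] [Fintype m] [DecidableEq m]
    (v : m → n → R)
    (h : LinearIndependent (IsLocalRing.ResidueField R) fun j a => IsLocalRing.residue R (v j a)) :
    LinearIndependent K fun j a => i (v j a) := by
  classical
  let B : Matrix n m R := Matrix.of fun a j => v j a
  let Bk : Matrix n m (IsLocalRing.ResidueField R) := B.map (IsLocalRing.residue R)
  have hinj : Function.Injective Bk.mulVecLin := by
    rw [← LinearMap.ker_eq_bot, LinearMap.ker_eq_bot']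
    intro c hc
    funext j
    refine Fintype.linearIndependent_iff.1 h c ?_ j
    funext a
    have := congrFun hc a
    simpa [Bk, B, Matrix.mulVec, dotProduct, mul_comm] using this
  obtain ⟨g, hg⟩ := LinearMap.exists_leftInverse_of_injective _ (LinearMap.ker_eq_bot.2 hinj)
  let L : Matrix m n R := Matrix.of fun j a =>
    Function.surjInv IsLocalRing.residue_surjective (LinearMap.toMatrix' g j a)
  have hL : (L * B).map (IsLocalRing.residue R) = 1 := by
    rw [Matrix.map_mul]
    have e1 : L.map (IsLocalRing.residue R) = LinearMap.toMatrix' g := by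
      ext j a; simp [L, Function.surjInv_eq IsLocalRing.residue_surjective]
    rw [e1]
    have e2 : LinearMap.toMatrix' Bk.mulVecLin = Bk := LinearMap.toMatrix'_toLin' Bk
    show LinearMap.toMatrix' g * Bk = 1
    rw [← e2, ← LinearMap.toMatrix'_comp, hg, LinearMap.toMatrix'_id]
  have hdet : IsUnit (L * B).det := by
    have := RingHom.map_det (IsLocalRing.residue R) (L * B)
    rw [RingHom.mapMatrix_apply, hL, det_one] at this
    by_contra hu
    rw [(IsLocalRing.residue_eq_zero_iff _).2 ((IsLocalRing.mem_maximalIdeal _).2 hu)] at this
    exact zero_ne_one this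
  have hK : IsUnit ((L * B).map i).det := by
    rw [← RingHom.mapMatrix_apply, ← RingHom.map_det]; exact hdet.map i
  rw [Fintype.linearIndependent_iff]
  intro c hc
  have h0 : (B.map i) *ᵥ c = 0 := by
    funext a
    have := congrFun hc a
    simpa [B, Matrix.mulVec, dotProduct, mul_comm] using this
  have h1 : ((L * B).map i) *ᵥ c = 0 := by
    rw [Matrix.map_mul, ← Matrix.mulVec_mulVec, h0, Matrix.mulVec_zero]
  exact congrFun (Matrix.eq_zero_of_mulVec_eq_zero hK.ne_zero h1)

theorem rank_residue_le (i : R →+* K) {n : Type*} [Fintype n] [DecidableEq n] {E : Matrix n n R}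
    (hE : E * E = E) : (E.map (IsLocalRing.residue R)).rank ≤ (E.map i).rank := by
  classical
  let Ek' := E.map (IsLocalRing.residue R)
  let b := Module.finBasis (IsLocalRing.ResidueField R) (LinearMap.range Ek'.mulVecLin)
  let v : Fin Ek'.rank → n → R := fun j =>
    E *ᵥ fun a => Function.surjInv IsLocalRing.residue_surjective ((b j : n → _) a)
  have hfix : ∀ w ∈ LinearMap.range Ek'.mulVecLin, Ek' *ᵥ w = w := by
    rintro _ ⟨x, rfl⟩
    rw [mulVecLin_apply, Matrix.mulVec_mulVec, ← Matrix.map_mul, hE]
  have hv : (fun j a => IsLocalRing.residue R (v j a)) = fun j => ((b j : n → _)) := by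
    funext j
    conv_rhs => rw [← hfix _ (b j).2]
    funext a
    simp [v, Ek', Matrix.mulVec, dotProduct, Function.surjInv_eq IsLocalRing.residue_surjective]
  have hli := linearIndependent_lift i v (by
    rw [hv]
    exact b.linearIndependent.map' (Submodule.subtype _) (Submodule.ker_subtype _))
  have hmem : ∀ j, (fun a => i (v j a)) ∈ LinearMap.range (E.map i).mulVecLin := fun j =>
    ⟨fun a => i (Function.surjInv IsLocalRing.residue_surjective ((b j : n → _) a)), by
      funext a; simp [v, Matrix.mulVec, dotProduct]⟩
  have hle := Submodule.finrank_mono (Submodule.span_le.2 (Set.range_subset_iff.2 hmem))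
  rw [finrank_span_eq_card hli, Fintype.card_fin] at hle
  exact hle

theorem rank_add_rank_one_sub {F : Type*} [Field F] {n : Type*} [Fintype n] [DecidableEq n]
    {E : Matrix n n F} (hE : E * E = E) : E.rank + (1 - E).rank = Fintype.card n := by
  have hi : IsIdempotentElem E.mulVecLin := by
    show E.mulVecLin * E.mulVecLin = E.mulVecLin
    rw [Module.End.mul_eq_comp, ← Matrix.mulVecLin_mul, hE]
  have h := E.mulVecLin.finrank_range_add_finrank_ker
  rw [Module.finrank_pi, LinearMap.IsIdempotentElem.ker_eq_range_one_sub hi] at h
  have e : (1 - E).mulVecLin = 1 - E.mulVecLin := by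
    apply LinearMap.ext; intro x
    simp [Matrix.sub_mulVec]
  show Module.finrank F (LinearMap.range E.mulVecLin) +
    Module.finrank F (LinearMap.range (1 - E).mulVecLin) = _
  rw [e]; exact h

/-- An idempotent matrix over a local ring has the same rank over the residue field and over
a field containing the ring. -/
theorem rank_residue_eq (i : R →+* K) {n : Type*} [Fintype n] [DecidableEq n] {E : Matrix n n R}
    (hE : E * E = E) : (E.map (IsLocalRing.residue R)).rank = (E.map i).rank := by
  have hE' : (1 - E) * (1 - E) = 1 - E := by
    simp [sub_mul, mul_sub, hE]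
  have h1 := rank_residue_le i hE
  have h2 := rank_residue_le i hE'
  have h3 := rank_add_rank_one_sub (E := E.map (IsLocalRing.residue R))
    (by rw [← Matrix.map_mul, hE])
  have h4 := rank_add_rank_one_sub (E := E.map i) (by rw [← Matrix.map_mul, hE])
  rw [Matrix.map_sub _ (map_sub (IsLocalRing.residue R)),
    Matrix.map_one _ (map_zero _) (map_one _), Matrix.map_sub _ (map_sub i),
    Matrix.map_one _ (map_zero _) (map_one _)] at h2
  omega

end Lift

/-! ## The group algebra -/

variable {G : Type u} [Group G] [Fintype G] {M : Ideal AlgInt} [M.IsPrime]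

/-- The coefficients of an element of the group algebra. -/
noncomputable def coeffEquiv (k : Type*) [Field k] (G : Type*) [Group G] [Fintype G] :
    MonoidAlgebra k G ≃ₗ[k] (G → k) where
  toFun x g := x.coeff g
  map_add' x y := by ext g; simp
  map_smul' c x := by ext g; simp
  invFun f := gaOfFun f
  left_inv x := gaExt fun g => rfl
  right_inv f := rfl

noncomputable instance finiteDimensional_groupAlgebra {k : Type*} [Field k] :
    FiniteDimensional k (MonoidAlgebra k G) :=
  LinearEquiv.finiteDimensional (coeffEquiv k G).symm

theorem finrank_groupAlgebra (k : Type*) [Field k] :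
    Module.finrank k (MonoidAlgebra k G) = Nat.card G := by
  rw [(coeffEquiv k G).finrank_eq, Module.finrank_pi, Nat.card_eq_fintype_card]

/-- The dimension of a block algebra is the sum of the squares of the degrees. -/
theorem finrank_range_mulRight_Ek [DecidableEq G] {B : Set (IrrCharacter G)} (hB : IsPBlock M B)
    [DecidablePred (· ∈ B)] :
    Module.finrank (resField M) (LinearMap.range (LinearMap.mulRight (resField M) (Ek M B))) =
      ∑ χ ∈ Finset.univ.filter (· ∈ B), (charDegree (χ : G → ℂ)) ^ 2 := by
  set E := mulMat (blockEltR M B) with hEdef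
  have hE : E * E = E := by rw [hEdef, ← mulMat_mul, blockEltR_idem hB]
  have h1 : Module.finrank (resField M)
      (LinearMap.range (LinearMap.mulRight (resField M) (Ek M B))) =
      (E.map (IsLocalRing.residue (locRing M))).rank := by
    have hcomp : ∀ x : MonoidAlgebra (resField M) G,
        coeffEquiv (resField M) G (x * Ek M B) =
          (E.map (IsLocalRing.residue (locRing M))).mulVecLin (coeffEquiv (resField M) G x) := by
      intro x
      funext w
      rw [mulVecLin_apply]
      show (x * Ek M B).coeff w = _
      rw [coeff_mul_univ]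
      simp only [Matrix.mulVec, dotProduct, Matrix.map_apply, hEdef, mulMat, Matrix.of_apply, Ek,
        coeff_resG]
      exact Finset.sum_congr rfl fun v _ => mul_comm _ _
    rw [Matrix.rank, ← LinearEquiv.finrank_map_eq (coeffEquiv (resField M) G), ← LinearMap.range_comp,
      show (coeffEquiv (resField M) G).toLinearMap ∘ₗ LinearMap.mulRight (resField M) (Ek M B) =
        (E.map (IsLocalRing.residue (locRing M))).mulVecLin ∘ₗ
          (coeffEquiv (resField M) G).toLinearMap from LinearMap.ext fun x => hcomp x,
      LinearMap.range_comp, LinearEquiv.range, Submodule.map_top]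
  rw [h1, rank_residue_eq (locRing M).subtype hE]
  set EC := E.map (locRing M).subtype with hEC
  have hi : IsIdempotentElem EC.mulVecLin := by
    show EC.mulVecLin * EC.mulVecLin = EC.mulVecLin
    rw [Module.End.mul_eq_comp, ← Matrix.mulVecLin_mul, hEC, ← Matrix.map_mul, hE]
  have htr := (LinearMap.IsIdempotentElem.isProj_range _ hi).trace
  rw [← Matrix.toLin'_apply', Matrix.trace_toLin'_eq] at htr
  have hG : (Nat.card G : ℂ) ≠ 0 := Nat.cast_ne_zero.2 Nat.card_pos.ne'
  rw [← Nat.cast_inj (R := ℂ)]
  show ((Module.finrank ℂ (LinearMap.range EC.mulVecLin) : ℕ) : ℂ) = _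
  rw [← Matrix.toLin'_apply', ← htr]
  push_cast
  simp only [Matrix.trace, Matrix.diag, hEC, Matrix.map_apply, hEdef, mulMat, Matrix.of_apply,
    inv_mul_cancel, Subring.coe_subtype, coeff_blockEltR hB, blockCoeff_eq_sum, inv_one,
    Finset.sum_const, Finset.card_univ, nsmul_eq_mul, ← Nat.card_eq_fintype_card, map_one,
    conj_irr_one, irr_one_eq_charDegree]
  rw [mul_inv_cancel_left₀ hG]
  exact Finset.sum_congr rfl fun χ _ => by rw [Complex.conj_natCast, sq]

/-- Independent central elements of a block algebra are no more than the characters. -/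
theorem card_le_of_central_indep {B : Set (IrrCharacter G)} (hB : IsPBlock M B) {ι : Type*}
    [Fintype ι] (z : ι → MonoidAlgebra (resField M) G) (hz : ∀ j, IsClassElt (z j))
    (hze : ∀ j, z j * Ek M B = z j) (hli : LinearIndependent (resField M) z) :
    Fintype.card ι ≤ Nat.card B := by
  classical
  let w : ι → MonoidAlgebra (locRing M) G := fun j => liftR (z j) * blockEltR M B
  have hw : ∀ j, resG (w j) = z j := fun j => by
    simp only [w, map_mul, resG_liftR]; exact hze j
  have hwc : ∀ j, IsClassElt (w j) := fun j =>
    IsClassElt.mul (isClassElt_liftR (hz j)) (isClassElt_blockEltR B)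
  have hlift : LinearIndependent ℂ fun j g => ((w j).coeff g : ℂ) := by
    refine linearIndependent_lift (locRing M).subtype (fun j g => (w j).coeff g) ?_
    have h' := hli.map' (coeffEquiv (resField M) G).toLinearMap (LinearEquiv.ker _)
    have e : (⇑(coeffEquiv (resField M) G).toLinearMap ∘ z) =
        fun (j : ι) (g : G) => res M ((w j).coeff g) := funext fun j => funext fun g => by
      show (z j).coeff g = _
      rw [← hw j, coeff_resG]
    rw [e] at h'
    exact h'
  have hom : LinearIndependent ℂ fun j (χ : B) => omegaR (χ : IrrCharacter G) (w j) := by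
    rw [Fintype.linearIndependent_iff] at hlift ⊢
    intro c hc
    refine hlift c ?_
    let W : MonoidAlgebra ℂ G := ∑ j, c j • toC (w j)
    have hWc : IsClassElt W := IsClassElt.sum _ _ fun j _ => IsClassElt.smul (IsClassElt.toC (hwc j)) _
    have hW : W = 0 := by
      refine classElt_eq_zero hWc fun χ => ?_
      simp only [W, omega_sum, omega_smul]
      by_cases hχ : χ ∈ B
      · have := congrFun hc ⟨χ, hχ⟩
        simpa [omegaR] using this
      · refine Finset.sum_eq_zero fun j _ => ?_
        show c j * omegaR χ (w j) = 0
        rw [omegaR_mul χ (isClassElt_liftR (hz j)) (isClassElt_blockEltR B),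
          omegaR_blockEltR hB, if_neg hχ, mul_zero, mul_zero]
    funext g
    have := congrArg (fun y : MonoidAlgebra ℂ G => y.coeff g) hW
    simpa [W, coeff_toC, MonoidAlgebra.coeff_sum] using this
  have := hom.fintype_card_le_finrank
  rwa [Module.finrank_pi, ← Nat.card_eq_fintype_card (α := B)] at this

end Cfsg.Agent.BlockAlg
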