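/-
A block of rank one has a single simple module.
-/
import Cfsg.Agent.Lib.BlockAlg.RankLift
import Cfsg.Agent.Lib.BrauerPairs.CartanOne
import Cfsg.Agent.Lib.DefOne.Ring
import Mathlib.RingTheory.SimpleModule.IsAlgClosed
import Mathlib.RingTheory.Jacobson.Semiprimary
import Mathlib.RingTheory.Artinian.Module
import Mathlib.LinearAlgebra.Matrix.Charpoly.Coeff

set_option linter.unusedSectionVars false
set_option linter.style.haveILetI false

namespace Cfsg.Agent.BlockAlg

open Cfsg MonoidAlgebra Cfsg.Agent.Blocks Cfsg.Agent.BrauerPairs Matrix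

universe u

variable {G : Type u} [Group G] [Fintype G]

/-- The trace of a representation in characteristic `p` only sees the `p'`-part. -/
theorem trace_pPart {p : ℕ} (hp : p.Prime) {k : Type*} [Field k] [CharP k p] {d : ℕ}
    (ρ : G →* Matrix (Fin d) (Fin d) k) {g a u : G} (hgu : g = a * u) (hau : Commute a u)
    (ha : ∃ j, orderOf a = p ^ j) : (ρ g).trace = (ρ u).trace := by
  haveI := Fact.mk hp
  rcases Nat.eq_zero_or_pos d with rfl | hd
  · simp [Matrix.trace]
  haveI : Nonempty (Fin d) := ⟨⟨0, hd⟩⟩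
  haveI : CharP (Matrix (Fin d) (Fin d) k) p := Matrix.charP (n := Fin d) p
  obtain ⟨j, hj⟩ := ha
  have hnil : IsNilpotent (ρ a - 1) := ⟨p ^ j, by
    rw [sub_pow_char_pow_of_commute p j (Commute.one_right _), one_pow,
      ← map_pow, ← hj, pow_orderOf_eq_one, map_one, sub_self]⟩
  have hc : Commute (ρ a - 1) (ρ u) := (hau.map ρ).sub_left (Commute.one_left _)
  have h := (Matrix.isNilpotent_trace_of_isNilpotent (hc.isNilpotent_mul_right hnil)).eq_zero
  rw [sub_mul, one_mul, ← map_mul, ← hgu, Matrix.trace_sub, sub_eq_zero] at h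
  exact h

theorem sum_single_coeff {k : Type*} [Field k] (x : MonoidAlgebra k G) :
    ∑ g, x.coeff g • MonoidAlgebra.single g (1 : k) = x := by
  classical
  refine gaExt fun a => ?_
  rw [MonoidAlgebra.coeff_sum, Finset.sum_apply', Finset.sum_eq_single a]
  · simp
  · intro b _ hb; simp [Finsupp.single_apply, hb]
  · simp

variable {M : Ideal AlgInt} [M.IsPrime] {p : ℕ}

/-- A block of rank one has a single simple module. -/
theorem exists_surjective_rep (hM : IsPModular p M) {B : Set (IrrCharacter G)} (hB : IsPBlock M B)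
    (hl : blockRank p B = 1) :
    ∃ (f : ℕ) (F : MonoidAlgebra (resField M) G →ₐ[resField M]
        Matrix (Fin f) (Fin f) (resField M)), 0 < f ∧ Function.Surjective F ∧ F (Ek M B) = 1 ∧
      ∃ (J : Submodule (resField M) (MonoidAlgebra (resField M) G)) (n : ℕ), J ^ n = ⊥ ∧
        ∀ x, F x = 0 → x * Ek M B ∈ J := by
  classical
  set k := resField M
  haveI : IsAlgClosed k := Cfsg.Agent.DefOne.isAlgClosed_resField
  haveI : CharP k p := resField_charP hM
  let A := MonoidAlgebra k G
  haveI : IsArtinianRing A := IsArtinianRing.of_finite k A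
  let J : Ideal A := Ring.jacobson A
  haveI : IsSemisimpleRing (A ⧸ J) := IsSemiprimaryRing.isSemisimpleRing
  obtain ⟨r, d, hd, ⟨φ⟩⟩ := IsSemisimpleRing.exists_algEquiv_pi_matrix_of_isAlgClosed k (A ⧸ J)
  let q : A →ₐ[k] (Π i, Matrix (Fin (d i)) (Fin (d i)) k) :=
    φ.toAlgHom.comp (Ideal.Quotient.mkₐ k J)
  have hqs : Function.Surjective q := φ.surjective.comp (Ideal.Quotient.mkₐ_surjective k J)
  have hqk : ∀ x, q x = 0 → x ∈ J := fun x hx => by
    have : Ideal.Quotient.mkₐ k J x = 0 := φ.injective (by rw [map_zero]; exact hx)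
    exact Ideal.Quotient.eq_zero_iff_mem.1 this
  let F : ∀ i, A →ₐ[k] Matrix (Fin (d i)) (Fin (d i)) k := fun i => (Pi.evalAlgHom k _ i).comp q
  have hFq : ∀ i x, F i x = q x i := fun i x => rfl
  obtain ⟨nJ, hnJ⟩ : IsNilpotent J := IsSemiprimaryRing.isNilpotent
  -- the block idempotent is `0` or `1` at every component
  have hE := isClassElt_Ek (M := M) B
  have h01 : ∀ i, F i (Ek M B) = 0 ∨ F i (Ek M B) = 1 := by
    intro i
    haveI : NeZero (d i) := hd i
    have hcomm : ∀ X, Commute X (F i (Ek M B)) := fun X => by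
      obtain ⟨x, hx⟩ := hqs (Pi.single i X)
      have : F i x = X := by rw [hFq, hx, Pi.single_eq_same]
      rw [← this, commute_iff_eq, ← map_mul, ← map_mul, IsClassElt.comm hE x]
    obtain ⟨c, hc⟩ : ∃ c : k, Matrix.scalar (Fin (d i)) c = F i (Ek M B) :=
      Matrix.mem_range_scalar_of_commute_single fun a b _ => hcomm _
    have hcc : c * c = c := by
      have h := congrArg (fun X : Matrix (Fin (d i)) (Fin (d i)) k => X 0 0)
        ((map_mul (F i) (Ek M B) (Ek M B)).symm.trans (congrArg (F i) (Ek_idem hB)))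
      simpa [← hc] using h
    rcases eq_or_ne c 0 with h | h
    · left; rw [← hc, h]; simp
    · right; rw [← hc, mul_left_cancel₀ h (hcc.trans (mul_one c).symm)]; simp
  have hex : ∃ i, F i (Ek M B) = 1 := by
    by_contra hne
    push Not at hne
    have h0 : Ek M B ∈ J := hqk _ (funext fun i => (h01 i).resolve_right (hne i))
    have hp' : ∀ n : ℕ, Ek M B ∈ J ^ (n + 1) := fun n => by
      induction n with
      | zero => rwa [zero_add, Submodule.pow_one]
      | succ n ih => rw [← Ek_idem hB, Submodule.pow_succ]; exact Submodule.mul_mem_mul ih h0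
    have h := hp' nJ
    rw [Submodule.pow_succ, hnJ] at h
    exact Ek_ne_zero hB (by simpa using h)
  obtain ⟨i, hi⟩ := hex
  haveI : NeZero (d i) := hd i
  -- it is the only one
  have huniq : ∀ j, j ≠ i → F j (Ek M B) = 0 := by
    intro j hji
    refine (h01 j).resolve_right fun hj => ?_
    haveI : NeZero (d j) := hd j
    let ρ : ∀ l, G →* Matrix (Fin (d l)) (Fin (d l)) k := fun l =>
      (F l).toMonoidHom.comp (MonoidAlgebra.of k G)
    let t : ∀ l, G → k := fun l g => (ρ l g).trace
    have htF : ∀ l x, (F l x).trace = ∑ g, x.coeff g * t l g := by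
      intro l x
      conv_lhs => rw [← sum_single_coeff x]
      rw [map_sum, Matrix.trace_sum]
      exact Finset.sum_congr rfl fun g _ => by
        rw [map_smul, Matrix.trace_smul, smul_eq_mul]; rfl
    have hreg : ∀ g, ∃ u, ¬ p ∣ orderOf u ∧ ∀ l, t l g = t l u := by
      intro g
      obtain ⟨a, u, hgu, hau, ha, hu⟩ := exists_isPPart hM.1 g
      exact ⟨u, hu, fun l => trace_pPart hM.1 (ρ l) hgu.symm hau ha⟩
    have hblk : ∀ l, F l (Ek M B) = 1 → ∀ u, t l u = ∑ x, (Ek M B).coeff x * t l (x * u) := by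
      intro l hl' u
      show (F l (MonoidAlgebra.single u 1)).trace = _
      rw [← one_mul (F l (MonoidAlgebra.single u 1)), ← hl', ← map_mul]
      conv_lhs => rw [← sum_single_coeff (Ek M B)]
      rw [Finset.sum_mul, map_sum, Matrix.trace_sum]
      refine Finset.sum_congr rfl fun x _ => ?_
      rw [smul_mul_assoc, MonoidAlgebra.single_mul_single, one_mul, map_smul, Matrix.trace_smul,
        smul_eq_mul]
      rfl
    let s : k → locRing M := Function.surjInv res_surjective
    have hs : ∀ c, res M (s c) = c := Function.surjInv_eq res_surjective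
    let T : ∀ l, G → locRing M := fun l u =>
      ∑ x, (blockEltR M B).coeff x * s (t l (x * u))
    have hTres : ∀ l, F l (Ek M B) = 1 → ∀ u, res M (T l u) = t l u := by
      intro l hl' u
      rw [hblk l hl' u]
      simp [T, hs, Ek, coeff_resG]
    have hminor : ∀ a b, t i a * t j b = t i b * t j a := by
      have hT : ∀ l u, ((T l u : locRing M) : ℂ) = ∑ χ ∈ Finset.univ.filter (· ∈ B),
          (Nat.card G : ℂ)⁻¹ * (χ : G → ℂ) 1 *
            ∑ v, (χ : G → ℂ) (u * v⁻¹) * (s (t l v) : ℂ) := by
        intro l u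
        simp only [T, AddSubmonoidClass.coe_finset_sum, MulMemClass.coe_mul, coeff_blockEltR hB,
          blockCoeff_eq_sum, Finset.mul_sum, Finset.sum_mul]
        rw [Finset.sum_comm]
        refine Finset.sum_congr rfl fun χ _ => ?_
        refine Fintype.sum_equiv (Equiv.mulRight u) _ _ fun x => ?_
        simp only [Equiv.coe_mulRight, _root_.mul_inv_rev, mul_inv_cancel_left, ← irr_inv]
        ring
      have hcl : ∀ l v j, (s (t l (j⁻¹ * v * j)) : ℂ) = s (t l v) := fun l v j => by
        congr 2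
        show (ρ l (j⁻¹ * v * j)).trace = (ρ l v).trace
        rw [map_mul, map_mul, Matrix.trace_mul_cycle, ← map_mul, mul_inv_cancel, map_one, one_mul]
      have hconv : ∀ l u (χ : IrrCharacter G),
          (χ : G → ℂ) 1 * ∑ v, (χ : G → ℂ) (u * v⁻¹) * (s (t l v) : ℂ) =
            (χ : G → ℂ) u * ∑ v, (χ : G → ℂ) v⁻¹ * (s (t l v) : ℂ) := by
        intro l u χ
        have hG : (Nat.card G : ℂ) ≠ 0 := Nat.cast_ne_zero.2 Nat.card_pos.ne'
        refine mul_left_cancel₀ hG ?_
        have e : ∀ j : G, ∑ v, (χ : G → ℂ) (u * v⁻¹) * (s (t l v) : ℂ) =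
            ∑ v, (χ : G → ℂ) (j⁻¹ * v⁻¹ * j * u) * (s (t l v) : ℂ) := fun j => by
          refine (Fintype.sum_equiv (MulAut.conj j⁻¹).toEquiv _ _ fun v => ?_).symm
          simp only [MulEquiv.toEquiv_eq_coe, MulEquiv.coe_toEquiv, MulAut.conj_apply, inv_inv,
            hcl]
          congr 1
          rw [← irr_conj_invariant χ (j⁻¹ * v⁻¹ * j * u) u]
          congr 1
          group
        have e2 : (Nat.card G : ℂ) * ∑ v, (χ : G → ℂ) (u * v⁻¹) * (s (t l v) : ℂ) =
            ∑ v, (∑ j : G, (χ : G → ℂ) (j⁻¹ * v⁻¹ * j * u)) * (s (t l v) : ℂ) := by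
          simp only [Finset.sum_mul]
          rw [Finset.sum_comm]
          simp only [← e, Finset.sum_const, Finset.card_univ, nsmul_eq_mul,
            Nat.card_eq_fintype_card]
        rw [← mul_assoc, mul_comm (Nat.card G : ℂ), mul_assoc, e2]
        simp only [irr_sum_conj_mul, Finset.mul_sum]
        refine Finset.sum_congr rfl fun v _ => ?_
        have := irr_one_ne_zero χ
        field_simp
      have hline : ∀ l u, ¬ p ∣ orderOf u → ∀ χ ∈ B,
          ((T l u : locRing M) : ℂ) * (χ : G → ℂ) 1 =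
            ((T l 1 : locRing M) : ℂ) * (χ : G → ℂ) u := by
        intro l u hu χ hχ
        rw [hT, hT, Finset.sum_mul, Finset.sum_mul]
        refine Finset.sum_congr rfl fun ψ hψ => ?_
        have e1 := hconv l u ψ
        have e0 := hconv l 1 ψ
        have e3 := exists_proportional hl hM.1.ne_one (Finset.mem_filter.1 hψ).2 hχ hu
        linear_combination (Nat.card G : ℂ)⁻¹ * (χ : G → ℂ) 1 * e1 -
          (Nat.card G : ℂ)⁻¹ * (χ : G → ℂ) u * e0 +
          (Nat.card G : ℂ)⁻¹ * (∑ v, (ψ : G → ℂ) v⁻¹ * (s (t l v) : ℂ)) * e3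
      intro a b
      obtain ⟨a', ha', hae⟩ := hreg a
      obtain ⟨b', hb', hbe⟩ := hreg b
      obtain ⟨χ, hχ⟩ := isPBlock_nonempty hB
      rw [hae i, hae j, hbe i, hbe j, ← hTres i hi a', ← hTres j hj b', ← hTres i hi b',
        ← hTres j hj a', ← map_mul, ← map_mul]
      refine congrArg _ (Subtype.ext ?_)
      have h1 := irr_one_ne_zero χ
      refine mul_right_cancel₀ (mul_ne_zero h1 h1) ?_
      push_cast
      linear_combination ((T j b' : locRing M) : ℂ) * (χ : G → ℂ) 1 * hline i a' ha' χ hχ +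
        ((T i 1 : locRing M) : ℂ) * (χ : G → ℂ) a' * hline j b' hb' χ hχ -
        ((T j a' : locRing M) : ℂ) * (χ : G → ℂ) 1 * hline i b' hb' χ hχ -
        ((T i 1 : locRing M) : ℂ) * (χ : G → ℂ) b' * hline j a' ha' χ hχ
    obtain ⟨x, hx⟩ := hqs (Pi.single i (Matrix.single 0 0 1))
    obtain ⟨y, hy⟩ := hqs (Pi.single j (Matrix.single 0 0 1))
    have key : (F i x).trace * (F j y).trace = (F i y).trace * (F j x).trace := by
      simp only [htF]
      rw [Finset.sum_mul_sum, Finset.sum_mul_sum, Finset.sum_comm]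
      refine Finset.sum_congr rfl fun b _ => Finset.sum_congr rfl fun a _ => ?_
      linear_combination x.coeff a * y.coeff b * hminor a b
    simp only [hFq, hx, hy, Pi.single_eq_same, Pi.single_eq_of_ne hji,
      Pi.single_eq_of_ne hji.symm] at key
    simp [Matrix.trace_single_eq_same] at key
  refine ⟨d i, F i, Nat.pos_of_ne_zero (hd i).out, fun X => ?_, hi, ?_⟩
  · obtain ⟨x, hx⟩ := hqs (Pi.single i X)
    exact ⟨x, by rw [hFq, hx, Pi.single_eq_same]⟩
  · refine ⟨J.restrictScalars k, nJ + 1, ?_, fun x hx => hqk _ (funext fun j => ?_)⟩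
    · have hle : ∀ n : ℕ, (J.restrictScalars k) ^ (n + 1) ≤ (J ^ (n + 1)).restrictScalars k := by
        intro n
        induction n with
        | zero => simp [Submodule.pow_one]
        | succ n ih =>
          rw [pow_succ, Submodule.mul_le]
          intro a ha b hb
          show a * b ∈ J ^ (n + 1 + 1)
          rw [Submodule.pow_succ]
          exact Submodule.mul_mem_mul (ih ha) hb
      refine eq_bot_iff.2 ((hle nJ).trans ?_)
      intro a ha
      rw [Submodule.restrictScalars_mem, Submodule.pow_succ, hnJ] at ha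
      simpa using ha
    · show F j (x * Ek M B) = 0
      rw [map_mul]
      by_cases hji : j = i
      · subst hji; rw [hx, zero_mul]
      · rw [huniq j hji, mul_zero]

end Cfsg.Agent.BlockAlg
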