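/-
The simple modules of a block are at most as many as its regular rank.
-/
import Cfsg.Agent.Lib.BlockAlg.OneSimple

set_option linter.unusedSectionVars false
set_option linter.style.haveILetI false

namespace Cfsg.Agent.BlockAlg

open Cfsg MonoidAlgebra Cfsg.Agent.Blocks Cfsg.Agent.BrauerPairs Matrix

universe u

variable {G : Type u} [Group G] [Fintype G] {M : Ideal AlgInt} [M.IsPrime] {p : ℕ}

/-- Lifts to the complex numbers of the trace functions of the simple modules of a block lie in
the span of the regular parts of the characters of the block. -/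
theorem lift_mem_span (hB' : ∀ g : G, IsPRegular p g ↔ ¬ p ∣ orderOf g)
    {B : Set (IrrCharacter G)} (hB : IsPBlock M B) (s : G → locRing M)
    (hs : ∀ v j : G, s (j⁻¹ * v * j) = s v) :
    (fun u : G => if ¬ p ∣ orderOf u then
      ((∑ x, (blockEltR M B).coeff x * s (x * u) : locRing M) : ℂ) else 0) ∈
      Submodule.span ℂ ((fun χ : IrrCharacter G => pRegularPart p (χ : G → ℂ)) '' B) := by
  classical
  let w : IrrCharacter G → ℂ := fun χ =>
    (Nat.card G : ℂ)⁻¹ * ∑ v, (χ : G → ℂ) v⁻¹ * (s v : ℂ)
  have hT : ∀ u, ((∑ x, (blockEltR M B).coeff x * s (x * u) : locRing M) : ℂ) =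
      ∑ χ ∈ Finset.univ.filter (· ∈ B),
        (Nat.card G : ℂ)⁻¹ * (χ : G → ℂ) 1 * ∑ v, (χ : G → ℂ) (u * v⁻¹) * (s v : ℂ) := by
    intro u
    simp only [AddSubmonoidClass.coe_finset_sum, MulMemClass.coe_mul, coeff_blockEltR hB,
      blockCoeff_eq_sum, Finset.mul_sum, Finset.sum_mul]
    rw [Finset.sum_comm]
    refine Finset.sum_congr rfl fun χ _ => ?_
    refine Fintype.sum_equiv (Equiv.mulRight u) _ _ fun x => ?_
    simp only [Equiv.coe_mulRight, _root_.mul_inv_rev, mul_inv_cancel_left, ← irr_inv]
    ring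
  have hconv : ∀ u (χ : IrrCharacter G),
      (χ : G → ℂ) 1 * ∑ v, (χ : G → ℂ) (u * v⁻¹) * (s v : ℂ) =
        (χ : G → ℂ) u * ∑ v, (χ : G → ℂ) v⁻¹ * (s v : ℂ) := by
    intro u χ
    have hG : (Nat.card G : ℂ) ≠ 0 := Nat.cast_ne_zero.2 Nat.card_pos.ne'
    refine mul_left_cancel₀ hG ?_
    have e : ∀ j : G, ∑ v, (χ : G → ℂ) (u * v⁻¹) * (s v : ℂ) =
        ∑ v, (χ : G → ℂ) (j⁻¹ * v⁻¹ * j * u) * (s v : ℂ) := fun j => by
      refine (Fintype.sum_equiv (MulAut.conj j⁻¹).toEquiv _ _ fun v => ?_).symm
      simp only [MulEquiv.toEquiv_eq_coe, MulEquiv.coe_toEquiv, MulAut.conj_apply, inv_inv, hs]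
      congr 1
      rw [← irr_conj_invariant χ (j⁻¹ * v⁻¹ * j * u) u]
      congr 1
      group
    have e2 : (Nat.card G : ℂ) * ∑ v, (χ : G → ℂ) (u * v⁻¹) * (s v : ℂ) =
        ∑ v, (∑ j : G, (χ : G → ℂ) (j⁻¹ * v⁻¹ * j * u)) * (s v : ℂ) := by
      simp only [Finset.sum_mul]
      rw [Finset.sum_comm]
      simp only [← e, Finset.sum_const, Finset.card_univ, nsmul_eq_mul,
        Nat.card_eq_fintype_card]
    rw [← mul_assoc, mul_comm (Nat.card G : ℂ), mul_assoc, e2]
    simp only [irr_sum_conj_mul, Finset.mul_sum]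
    refine Finset.sum_congr rfl fun v _ => ?_
    have := irr_one_ne_zero χ
    field_simp
  have he : (fun u : G => if ¬ p ∣ orderOf u then
      ((∑ x, (blockEltR M B).coeff x * s (x * u) : locRing M) : ℂ) else 0) =
      ∑ χ ∈ Finset.univ.filter (· ∈ B), w χ • pRegularPart p (χ : G → ℂ) := by
    funext u
    rw [Finset.sum_apply]
    by_cases hu : p ∣ orderOf u
    · rw [if_neg (by simpa using hu)]
      symm
      refine Finset.sum_eq_zero fun χ _ => ?_
      simp [pRegularPart, hB', hu]
    · rw [if_pos hu, hT]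
      refine Finset.sum_congr rfl fun χ _ => ?_
      simp only [Pi.smul_apply, smul_eq_mul, w, pRegularPart, hB', hu, not_false_eq_true, if_true]
      rw [mul_assoc, hconv]
      ring
  rw [he]
  exact Submodule.sum_mem _ fun χ hχ => Submodule.smul_mem _ _
    (Submodule.subset_span ⟨χ, (Finset.mem_filter.1 hχ).2, rfl⟩)

/-- The simple modules of a block are at most as many as its regular rank. -/
theorem exists_simples (hM : IsPModular p M) {B : Set (IrrCharacter G)} (hB : IsPBlock M B) :
    ∃ (r : ℕ) (d : Fin r → ℕ) (q : MonoidAlgebra (resField M) G →ₐ[resField M]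
        (Π i, Matrix (Fin (d i)) (Fin (d i)) (resField M)))
      (J : Submodule (resField M) (MonoidAlgebra (resField M) G)) (n : ℕ) (S : Finset (Fin r)),
      (∀ i, 0 < d i) ∧ Function.Surjective q ∧ J ^ n = ⊥ ∧ (∀ x, q x = 0 → x ∈ J) ∧
        (∀ a, ∀ b ∈ J, a * b ∈ J) ∧ (∀ i ∈ S, q (Ek M B) i = 1) ∧
        (∀ i, i ∉ S → q (Ek M B) i = 0) ∧ S.card ≤ blockRank p B := by
  classical
  set k := resField M
  haveI : IsAlgClosed k := Cfsg.Agent.DefOne.isAlgClosed_resField
  haveI : CharP k p := resField_charP hM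
  let A := MonoidAlgebra k G
  haveI : IsArtinianRing A := IsArtinianRing.of_finite k A
  let J : Ideal A := Ring.jacobson A
  haveI : IsSemisimpleRing (A ⧸ J) := IsSemiprimaryRing.isSemisimpleRing
  obtain ⟨r, d, hd, ⟨φ⟩⟩ := IsSemisimpleRing.exists_algEquiv_pi_matrix_of_isAlgClosed k (A ⧸ J)
  let q : A →ₐ[k] (Π i, Matrix (Fin (d i)) (Fin (d i)) k) :=
    φ.toAlgHom.comp (Ideal.Quotient.mkₐ k J)
  have hqs : Function.Surjective q := φ.surjective.comp (Ideal.Quotient.mkₐ_surjective k J)
  have hqk : ∀ x, q x = 0 → x ∈ J := fun x hx => by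
    have : Ideal.Quotient.mkₐ k J x = 0 := φ.injective (by rw [map_zero]; exact hx)
    exact Ideal.Quotient.eq_zero_iff_mem.1 this
  obtain ⟨nJ, hnJ⟩ : IsNilpotent J := IsSemiprimaryRing.isNilpotent
  have hE := isClassElt_Ek (M := M) B
  have h01 : ∀ i, q (Ek M B) i = 0 ∨ q (Ek M B) i = 1 := by
    intro i
    haveI : NeZero (d i) := hd i
    have hcomm : ∀ X, Commute X (q (Ek M B) i) := fun X => by
      obtain ⟨x, hx⟩ := hqs (Pi.single i X)
      have : q x i = X := by rw [hx, Pi.single_eq_same]
      rw [← this, commute_iff_eq, ← Pi.mul_apply, ← Pi.mul_apply, ← map_mul, ← map_mul,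
        IsClassElt.comm hE x]
    obtain ⟨c, hc⟩ : ∃ c : k, Matrix.scalar (Fin (d i)) c = q (Ek M B) i :=
      Matrix.mem_range_scalar_of_commute_single fun a b _ => hcomm _
    have hcc : c * c = c := by
      have h := congrArg (fun X : Matrix (Fin (d i)) (Fin (d i)) k => X 0 0)
        (congrFun ((map_mul q (Ek M B) (Ek M B)).symm.trans (congrArg q (Ek_idem hB))) i)
      simpa [← hc] using h
    rcases eq_or_ne c 0 with h | h
    · left; rw [← hc, h]; simp
    · right; rw [← hc, mul_left_cancel₀ h (hcc.trans (mul_one c).symm)]; simp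
  let S : Finset (Fin r) := Finset.univ.filter fun i => q (Ek M B) i = 1
  refine ⟨r, d, q, J.restrictScalars k, nJ + 1, S, fun i => Nat.pos_of_ne_zero (hd i).out, hqs,
    ?_, fun x hx => hqk x hx, fun a b hb => J.mul_mem_left a hb,
    fun i hi => (Finset.mem_filter.1 hi).2, fun i hi => (h01 i).resolve_right fun h =>
      hi (Finset.mem_filter.2 ⟨Finset.mem_univ _, h⟩), ?_⟩
  · have hle : ∀ n : ℕ, (J.restrictScalars k) ^ (n + 1) ≤ (J ^ (n + 1)).restrictScalars k := by
      intro n
      induction n with
      | zero => simp [Submodule.pow_one]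
      | succ n ih =>
        rw [pow_succ, Submodule.mul_le]
        intro a ha b hb
        show a * b ∈ J ^ (n + 1 + 1)
        rw [Submodule.pow_succ]
        exact Submodule.mul_mem_mul (ih ha) hb
    refine eq_bot_iff.2 ((hle nJ).trans ?_)
    intro a ha
    rw [Submodule.restrictScalars_mem, Submodule.pow_succ, hnJ] at ha
    simpa using ha
  · let ρ : ∀ l, G →* Matrix (Fin (d l)) (Fin (d l)) k := fun l =>
      (((Pi.evalAlgHom k _ l).comp q).toMonoidHom).comp (MonoidAlgebra.of k G)
    let t : ∀ l, G → k := fun l g => (ρ l g).trace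
    have hρ : ∀ l g, ρ l g = q (MonoidAlgebra.single g 1) l := fun l g => rfl
    have htF : ∀ l x, (q x l).trace = ∑ g, x.coeff g * t l g := by
      intro l x
      conv_lhs => rw [← sum_single_coeff x]
      rw [map_sum, Finset.sum_apply, Matrix.trace_sum]
      exact Finset.sum_congr rfl fun g _ => by
        rw [map_smul, Pi.smul_apply, Matrix.trace_smul, smul_eq_mul]; rfl
    let sec : k → locRing M := Function.surjInv res_surjective
    have hsec : ∀ c, res M (sec c) = c := Function.surjInv_eq res_surjective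
    let T : Fin r → G → locRing M := fun l u =>
      ∑ x, (blockEltR M B).coeff x * sec (t l (x * u))
    have hTres : ∀ l ∈ S, ∀ u, res M (T l u) = t l u := by
      intro l hl u
      have : t l u = ∑ x, (Ek M B).coeff x * t l (x * u) := by
        calc t l u = (q (Ek M B * MonoidAlgebra.single u 1) l).trace := by
              rw [map_mul, Pi.mul_apply, (Finset.mem_filter.1 hl).2, one_mul]; rfl
          _ = _ := by
              conv_lhs => rw [← sum_single_coeff (Ek M B)]
              rw [Finset.sum_mul, map_sum, Finset.sum_apply, Matrix.trace_sum]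
              refine Finset.sum_congr rfl fun x _ => ?_
              rw [smul_mul_assoc, MonoidAlgebra.single_mul_single, one_mul, map_smul, Pi.smul_apply,
                Matrix.trace_smul, smul_eq_mul]
              rfl
      rw [this]
      simp [T, hsec, Ek, coeff_resG]
    let Rg := {u : G // ¬ p ∣ orderOf u}
    have hli : LinearIndependent k fun (l : S) (u : Rg) => t l u := by
      rw [Fintype.linearIndependent_iff]
      intro c hc
      have hall : ∀ g, ∑ l : S, c l * t l g = 0 := fun g => by
        obtain ⟨a, u, hgu, hau, ha, hu⟩ := exists_isPPart hM.1 g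
        have := congrFun hc ⟨u, hu⟩
        simp only [Finset.sum_apply, Pi.smul_apply, smul_eq_mul, Pi.zero_apply] at this
        rw [← this]
        exact Finset.sum_congr rfl fun l _ => by
          congr 1; exact trace_pPart hM.1 (ρ l) hgu.symm hau ha
      intro l
      haveI : NeZero (d l) := hd l
      obtain ⟨x, hx⟩ := hqs (Pi.single (l : Fin r) (Matrix.single 0 0 1))
      have h0 : ∑ l' : S, c l' * (q x l').trace = 0 := by
        have e : ∀ l' : S, c l' * (q x l').trace = ∑ g, c l' * (x.coeff g * t l' g) := fun l' =>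
          (congrArg (c l' * ·) (htF l' x)).trans (Finset.mul_sum _ _ _)
        rw [Finset.sum_congr rfl fun l' _ => e l', Finset.sum_comm]
        refine Finset.sum_eq_zero fun g _ => ?_
        calc ∑ l' : S, c l' * (x.coeff g * t l' g) = x.coeff g * ∑ l' : S, c l' * t l' g := by
              rw [Finset.mul_sum]; exact Finset.sum_congr rfl fun _ _ => by ring
          _ = 0 := by rw [hall, mul_zero]
      rw [Finset.sum_eq_single l] at h0
      · rw [hx, Pi.single_eq_same, Matrix.trace_single_eq_same, mul_one] at h0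
        exact h0
      · intro l' _ hl'
        rw [hx, Pi.single_eq_of_ne (fun h => hl' (Subtype.ext h))]
        simp
      · simp
    have hlift : LinearIndependent ℂ fun (l : S) (u : Rg) => ((T l u : locRing M) : ℂ) := by
      refine linearIndependent_lift (locRing M).subtype (fun (l : S) (u : Rg) => T l u) ?_
      have : (fun (l : S) (u : Rg) => IsLocalRing.residue (locRing M) (T l u)) =
          fun (l : S) (u : Rg) => t l u := funext fun l => funext fun u => hTres l l.2 u
      exact this ▸ hli
    have hB' : ∀ g : G, IsPRegular p g ↔ ¬ p ∣ orderOf g := fun g => Iff.rfl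
    have hcl : ∀ l (v j : G), sec (t l (j⁻¹ * v * j)) = sec (t l v) := fun l v j => by
      congr 1
      show (ρ l (j⁻¹ * v * j)).trace = (ρ l v).trace
      rw [map_mul, map_mul, Matrix.trace_mul_cycle, ← map_mul, mul_inv_cancel, map_one, one_mul]
    let W := Submodule.span ℂ ((fun χ : IrrCharacter G => pRegularPart p (χ : G → ℂ)) '' B)
    let Φ : S → W := fun l => ⟨_, lift_mem_span hB' hB (fun v => sec (t l v)) (hcl l)⟩
    have hΦ : LinearIndependent ℂ Φ := by
      refine LinearIndependent.of_comp
        ((LinearMap.funLeft ℂ ℂ (Subtype.val : Rg → G)).comp W.subtype) ?_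
      convert hlift using 1
      funext l u
      simp only [Function.comp_apply, LinearMap.coe_comp, Submodule.coe_subtype, Φ,
        LinearMap.funLeft_apply]
      rw [if_pos u.2]
    have := hΦ.fintype_card_le_finrank
    rwa [Fintype.card_coe] at this

end Cfsg.Agent.BlockAlg
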