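/-
The corner of an algebra with a single simple module.
-/
import Mathlib.LinearAlgebra.Matrix.ToLin
import Mathlib.LinearAlgebra.FiniteDimensional.Basic
import Mathlib.LinearAlgebra.Dimension.Constructions
import Mathlib.LinearAlgebra.Dimension.FreeAndStrongRankCondition
import Mathlib.Algebra.Algebra.Operations
import Mathlib.Algebra.Ring.GeomSum
import Mathlib.Tactic.Module
import Mathlib.Tactic.LinearCombination
import Mathlib.Tactic.NoncommRing

set_option linter.unusedSectionVars false
set_option linter.style.haveILetI false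

namespace Cfsg.Agent.BlockAlg

/-- Lifting an idempotent along a nilpotent error. -/
theorem exists_idem_lift {R : Type*} [Ring R] {y : R} (h : IsNilpotent (y * y - y)) :
    ∃ n : ℕ, 0 < n ∧
      (1 - (1 - y ^ n) ^ n) * (1 - (1 - y ^ n) ^ n) = 1 - (1 - y ^ n) ^ n := by
  obtain ⟨n₀, hn₀⟩ := h
  refine ⟨n₀ + 1, Nat.succ_pos _, ?_⟩
  set n := n₀ + 1 with hn
  set g := ∑ i ∈ Finset.range n, y ^ i
  set h' := ∑ i ∈ Finset.range n, (1 - y ^ n) ^ i
  have hc : Commute (1 - y) g :=
    (Commute.one_left g).sub_left (Commute.sum_right _ _ _ fun i _ => Commute.self_pow y i)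
  have hcy : Commute y (1 - y) := (Commute.one_right y).sub_right (Commute.refl y)
  have hg : 1 - y ^ n = (1 - y) * g := by rw [hc.eq]; exact (geom_sum_mul_neg y n).symm
  have hh : 1 - (1 - y ^ n) ^ n = h' * y ^ n := by
    have := geom_sum_mul_neg (1 - y ^ n) n
    rw [sub_sub_cancel] at this
    exact this.symm
  have h0 : y ^ n * (1 - y) ^ n = 0 := by
    rw [← hcy.mul_pow, show y * (1 - y) = -(y * y - y) by rw [mul_sub, mul_one, neg_sub], neg_pow,
      hn, pow_succ (y * y - y), hn₀, zero_mul, mul_zero]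
  have : (1 - (1 - y ^ n) ^ n) * (1 - y ^ n) ^ n = 0 := by
    rw [hh, hg, hc.mul_pow, mul_assoc, ← mul_assoc (y ^ n), h0, zero_mul, mul_zero]
  rw [mul_sub, mul_one, this, sub_zero]

/-- The linear map underlying the Kronecker modules. -/
def kronPi {k : Type*} [Field k] (n : ℕ) (N : (Fin n → k) →ₗ[k] (Fin n → k)) (c : k × k × k) :
    Module.End k ((Fin n → k) × (Fin n → k)) :=
  LinearMap.prod (c.1 • LinearMap.fst k _ _ + c.2.1 • LinearMap.snd k _ _ +
    c.2.2 • N ∘ₗ LinearMap.snd k _ _) (c.1 • LinearMap.snd k _ _)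

theorem kronPi_apply {k : Type*} [Field k] (n : ℕ) (N : (Fin n → k) →ₗ[k] (Fin n → k))
    (c : k × k × k) (w : (Fin n → k) × (Fin n → k)) :
    kronPi n N c w = (c.1 • w.1 + c.2.1 • w.2 + c.2.2 • N w.2, c.1 • w.2) := rfl

/-- The shift. -/
def shiftLin (k : Type*) [Field k] (n : ℕ) : (Fin n → k) →ₗ[k] (Fin n → k) where
  toFun w i := if h : (i : ℕ) + 1 < n then w ⟨i + 1, h⟩ else 0
  map_add' a b := by funext i; by_cases h : (i : ℕ) + 1 < n <;> simp [h]
  map_smul' c a := by funext i; by_cases h : (i : ℕ) + 1 < n <;> simp [h]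

/-- An endomorphism commuting with the shift is injective if it does not kill the first vector. -/
theorem exists_injective_of_commute_shift {k : Type*} [Field k] {n : ℕ} (hn : 0 < n) {ι : Type*}
    [Fintype ι] (α : ι → (Fin n → k) →ₗ[k] (Fin n → k))
    (hc : ∀ j w, α j (shiftLin k n w) = shiftLin k n (α j w)) (hsum : ∀ w, ∑ j, α j w = w) :
    ∃ j, Function.Injective (α j) := by
  classical
  let e₀ : Fin n → k := Pi.single ⟨0, hn⟩ 1
  have hker : ∀ w, shiftLin k n w = 0 → w = w ⟨0, hn⟩ • e₀ := by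
    intro w hw
    funext i
    rcases i with ⟨i, hi⟩
    rcases Nat.eq_zero_or_pos i with rfl | hpos
    · simp [e₀]
    · have := congrFun hw ⟨i - 1, by omega⟩
      simp only [shiftLin, LinearMap.coe_mk, AddHom.coe_mk, Pi.zero_apply] at this
      rw [dif_pos (by omega)] at this
      simp only [Nat.sub_add_cancel hpos] at this
      simp [e₀, this, Fin.ext_iff, hpos.ne']
  have he0 : shiftLin k n e₀ = 0 := by
    funext i
    simp only [shiftLin, LinearMap.coe_mk, AddHom.coe_mk, Pi.zero_apply]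
    split_ifs
    · simp [e₀, Fin.ext_iff]
    · rfl
  obtain ⟨j, hj⟩ : ∃ j, α j e₀ ≠ 0 := by
    by_contra h
    push Not at h
    have := hsum e₀
    simp only [h, Finset.sum_const_zero] at this
    have := congrFun this ⟨0, hn⟩
    simp [e₀] at this
  refine ⟨j, (injective_iff_map_eq_zero _).2 fun w hw => ?_⟩
  suffices ∀ m : ℕ, ∀ w, (shiftLin k n ^ m) w = 0 → α j w = 0 → w = 0 by
    refine this n w ?_ hw
    have hall : ∀ m (w : Fin n → k) (i : Fin n), n ≤ (i : ℕ) + m → (shiftLin k n ^ m) w i = 0 := by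
      intro m
      induction m with
      | zero => intro w i h; omega
      | succ m ih =>
        intro w i h
        rw [pow_succ', Module.End.mul_apply]
        simp only [shiftLin, LinearMap.coe_mk, AddHom.coe_mk]
        split_ifs with h'
        · exact ih w ⟨i + 1, h'⟩ (by simp; omega)
        · rfl
    exact funext fun i => hall n w i (by omega)
  intro m
  induction m with
  | zero => intro w h _; simpa using h
  | succ m ih =>
    intro w h h0
    rw [pow_succ, Module.End.mul_apply] at h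
    have hSw := ih _ h (by rw [hc, h0, map_zero])
    rw [hker w hSw] at h0 ⊢
    rw [map_smul, smul_eq_zero] at h0
    rw [h0.resolve_right hj, zero_smul]

/-- An algebra with a single simple module whose modules are sums of bounded pieces. -/
structure CornerData (k : Type*) [Field k] (R : Type*) [Ring R] [Algebra k R] (f : ℕ) where
  e : R
  e_idem : e * e = e
  e_comm : ∀ b, e * b = b * e
  F : R →ₐ[k] Matrix (Fin f) (Fin f) k
  F_surj : Function.Surjective F
  F_e : F e = 1
  J : Submodule k R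
  nJ : ℕ
  J_pow : J ^ nJ = ⊥
  ker_le : ∀ x, F x = 0 → x * e ∈ J

namespace CornerData

variable {k : Type*} [Field k] {R : Type*} [Ring R] [Algebra k R] {f : ℕ}
  (D : CornerData k R f)

theorem isNilpotent_of_mem {x : R} (hx : x ∈ D.J) : IsNilpotent x :=
  ⟨D.nJ, by simpa [D.J_pow] using Submodule.pow_mem_pow D.J hx D.nJ⟩

theorem exists_frame (hf : 0 < f) :
    ∃ (z : R) (u v : Fin f → R), z * z = z ∧ z * D.e = z ∧
      D.F z = Matrix.single ⟨0, hf⟩ ⟨0, hf⟩ 1 ∧
      (∀ l, u l * z = u l ∧ u l * D.e = u l ∧ D.F (u l) = Matrix.single l ⟨0, hf⟩ 1) ∧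
      (∀ l, z * v l = v l ∧ v l * D.e = v l ∧ D.F (v l) = Matrix.single ⟨0, hf⟩ l 1) ∧
      ∑ l, u l * v l = D.e := by
  classical
  set o : Fin f := ⟨0, hf⟩
  obtain ⟨x, hx⟩ := D.F_surj (Matrix.single o o 1)
  set y := x * D.e with hy
  have hFy : D.F y = Matrix.single o o 1 := by rw [hy, map_mul, D.F_e, mul_one, hx]
  have hye : y * D.e = y := by rw [hy, mul_assoc, D.e_idem]
  obtain ⟨n, hn0, hz⟩ := exists_idem_lift (y := y) (by
    refine D.isNilpotent_of_mem ?_
    have h1 : (y * y - y) * D.e = y * y - y := by rw [sub_mul, mul_assoc, hye]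
    rw [← h1]
    exact D.ker_le _ (by rw [map_sub, map_mul, hFy, Matrix.single_mul_single_same, one_mul,
      sub_self]))
  set z := 1 - (1 - y ^ n) ^ n with hzdef
  have hFz : D.F z = Matrix.single o o 1 := by
    have hE : IsIdempotentElem (Matrix.single o o (1 : k)) := by
      simp [IsIdempotentElem, Matrix.single_mul_single_same]
    obtain ⟨m, rfl⟩ := Nat.exists_eq_succ_of_ne_zero hn0.ne'
    rw [hzdef, map_sub, map_pow, map_sub, map_pow, map_one, hFy, hE.pow_succ_eq,
      hE.one_sub.pow_succ_eq, sub_sub_cancel]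
  have hze : z * D.e = z := by
    have hye' : y ^ n * D.e = y ^ n := by
      obtain ⟨m, rfl⟩ := Nat.exists_eq_succ_of_ne_zero hn0.ne'
      rw [pow_succ, mul_assoc, hye]
    have := geom_sum_mul_neg (1 - y ^ n) n
    rw [sub_sub_cancel] at this
    rw [hzdef, ← this, mul_assoc, hye']
  choose a ha using fun l : Fin f => D.F_surj (Matrix.single l o 1)
  choose b hb using fun l : Fin f => D.F_surj (Matrix.single o l 1)
  let u : Fin f → R := fun l => a l * D.e * z
  let v₀ : Fin f → R := fun l => z * b l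
  have hFu : ∀ l, D.F (u l) = Matrix.single l o 1 := fun l => by
    simp only [u, map_mul, ha, D.F_e, hFz, mul_one, Matrix.single_mul_single_same]
  have hFv : ∀ l, D.F (v₀ l) = Matrix.single o l 1 := fun l => by
    simp only [v₀, map_mul, hb, hFz, Matrix.single_mul_single_same, one_mul]
  set m := D.e - ∑ l, u l * v₀ l with hm
  have hFm : D.F m = 0 := by
    rw [hm, map_sub, map_sum, D.F_e]
    simp only [map_mul, hFu, hFv, Matrix.single_mul_single_same, mul_one]
    rw [Matrix.sum_single_one, sub_self]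
  have hue : ∀ l, u l * D.e = u l := fun l => by simp only [u, mul_assoc, hze]
  have hme : m * D.e = m := by
    rw [hm, sub_mul, D.e_idem, Finset.sum_mul]
    congr 1
    refine Finset.sum_congr rfl fun l _ => ?_
    rw [mul_assoc, ← D.e_comm, ← mul_assoc, hue]
  obtain ⟨q, hq⟩ := D.isNilpotent_of_mem (hme ▸ D.ker_le m hFm)
  let W := ∑ i ∈ Finset.range (q + 1), m ^ i
  have hW : (1 - m) * W = 1 := by
    rw [mul_neg_geom_sum, pow_succ, hq, zero_mul, sub_zero]
  have hFW : D.F W = 1 := by
    simp only [W, map_sum, map_pow, hFm]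
    rw [Finset.sum_range_succ']
    simp
  refine ⟨z, u, fun l => v₀ l * W * D.e, hz, hze, hFz, fun l => ⟨?_, hue l, hFu l⟩,
    fun l => ⟨?_, ?_, ?_⟩, ?_⟩
  · simp only [u, mul_assoc, hz]
  · simp only [v₀, ← mul_assoc, hz]
  · rw [mul_assoc, D.e_idem]
  · rw [map_mul, map_mul, hFW, D.F_e, mul_one, mul_one, hFv]
  · have hS : ∑ l, u l * v₀ l = D.e * (1 - m) := by
      rw [mul_sub, mul_one, D.e_comm m, hme, hm, sub_sub_cancel]
    calc ∑ l, u l * (v₀ l * W * D.e) = (∑ l, u l * v₀ l) * W * D.e := by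
          simp only [Finset.sum_mul, mul_assoc]
      _ = D.e := by rw [hS, mul_assoc D.e, hW, mul_one, D.e_idem]

end CornerData

/-- Generators of a matrix decomposition of an algebra with a single simple module. -/
structure Frame {k : Type*} [Field k] {R : Type*} [Ring R] [Algebra k R] {f : ℕ}
    (D : CornerData k R f) where
  o : Fin f
  z : R
  u : Fin f → R
  v : Fin f → R
  hz : z * z = z
  hze : z * D.e = z
  hFz : D.F z = Matrix.single o o 1
  hu : ∀ l, u l * z = u l ∧ u l * D.e = u l ∧ D.F (u l) = Matrix.single l o 1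
  hv : ∀ l, z * v l = v l ∧ v l * D.e = v l ∧ D.F (v l) = Matrix.single o l 1
  huv : ∑ l, u l * v l = D.e
  hP : ∀ l m, v l * u m = if l = m then z else 0

namespace Frame

variable {k : Type*} [Field k] {R : Type*} [Ring R] [Algebra k R] {f : ℕ}
  {D : CornerData k R f} (φ : Frame D)

/-- The corner. -/
def A : Submodule k R := LinearMap.range (LinearMap.mulLeft k φ.z ∘ₗ LinearMap.mulRight k φ.z)

/-- The radical of the corner. -/
def N : Submodule k R := φ.A ⊓ LinearMap.ker D.F.toLinearMap

/-- The scalar part. -/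
def eps : R →ₗ[k] k where
  toFun a := D.F a φ.o φ.o
  map_add' a b := by rw [map_add]; rfl
  map_smul' c a := by rw [map_smul]; rfl

theorem memA {a : R} : a ∈ φ.A ↔ φ.z * a * φ.z = a := by
  constructor
  · rintro ⟨b, rfl⟩
    show φ.z * (φ.z * (b * φ.z)) * φ.z = φ.z * (b * φ.z)
    simp only [← mul_assoc, φ.hz]
    simp only [mul_assoc, φ.hz]
  · exact fun h => ⟨a, by show φ.z * (a * φ.z) = a; rw [← mul_assoc, h]⟩

theorem zA : φ.z ∈ φ.A := φ.memA.2 (by rw [φ.hz, φ.hz])

theorem mulA {a b : R} (ha : a ∈ φ.A) (hb : b ∈ φ.A) : a * b ∈ φ.A := φ.memA.2 (by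
  rw [← φ.memA.1 ha, ← φ.memA.1 hb]; simp only [← mul_assoc, φ.hz]; simp only [mul_assoc, φ.hz])

theorem left_id {a : R} (h : a ∈ φ.A) : φ.z * a = a := by
  rw [← φ.memA.1 h]; simp only [← mul_assoc, φ.hz]

theorem right_id {a : R} (h : a ∈ φ.A) : a * φ.z = a := by
  rw [← φ.memA.1 h]; simp only [mul_assoc, φ.hz]

theorem sandwich (b : R) (l m : Fin f) : φ.v l * b * φ.u m ∈ φ.A := φ.memA.2 (by
  rw [← mul_assoc, ← mul_assoc, (φ.hv l).1]; simp only [mul_assoc, (φ.hu m).1])

theorem memN {a : R} : a ∈ φ.N ↔ a ∈ φ.A ∧ D.F a = 0 := Iff.rfl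

theorem FA {a : R} (h : a ∈ φ.A) : D.F a = φ.eps a • Matrix.single φ.o φ.o 1 := by
  conv_lhs => rw [← φ.memA.1 h, map_mul, map_mul, φ.hFz]
  rw [Matrix.single_mul_mul_single]
  simp [eps, Matrix.smul_single]

theorem subN {a : R} (h : a ∈ φ.A) : a - φ.eps a • φ.z ∈ φ.N :=
  φ.memN.2 ⟨sub_mem h (φ.A.smul_mem _ φ.zA), by rw [map_sub, map_smul, φ.FA h, φ.hFz, sub_self]⟩

theorem N_le_J : φ.N ≤ D.J := fun a ha => by
  have hae : a * D.e = a := by rw [← φ.right_id (φ.memN.1 ha).1, mul_assoc, φ.hze]
  rw [← hae]; exact D.ker_le a (φ.memN.1 ha).2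

theorem N_mul_le : φ.N * φ.N ≤ φ.N := Submodule.mul_le.2 fun a ha b hb =>
  φ.memN.2 ⟨φ.mulA (φ.memN.1 ha).1 (φ.memN.1 hb).1, by rw [map_mul, (φ.memN.1 ha).2, zero_mul]⟩

theorem N_pow_eq_bot : φ.N ^ (D.nJ + 1) = ⊥ := by
  refine eq_bot_iff.2 ((pow_le_pow_left' φ.N_le_J _).trans ?_)
  rw [pow_succ, D.J_pow, Submodule.bot_mul]

end Frame

theorem exists_frame_exact {k : Type*} [Field k] {R : Type*} [Ring R] [Algebra k R] {f : ℕ}
    (hf : 0 < f) (D : CornerData k R f) : Nonempty (Frame D) := by
  classical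
  obtain ⟨z, u, v, hz, hze, hFz, hu, hv, huv⟩ := D.exists_frame hf
  set o : Fin f := ⟨0, hf⟩
  let Az : Submodule k R := LinearMap.range (LinearMap.mulLeft k z ∘ₗ LinearMap.mulRight k z)
  have memA : ∀ {a : R}, a ∈ Az ↔ z * a * z = a := by
    intro a
    constructor
    · rintro ⟨b, rfl⟩
      show z * (z * (b * z)) * z = z * (b * z)
      simp only [← mul_assoc, hz]
      simp only [mul_assoc, hz]
    · exact fun h => ⟨a, by show z * (a * z) = a; rw [← mul_assoc, h]⟩
  have hAl : ∀ {a}, a ∈ Az → z * a = a := fun {a} h => by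
    rw [← memA.1 h]; simp only [← mul_assoc, hz]
  have hAr : ∀ {a}, a ∈ Az → a * z = a := fun {a} h => by
    rw [← memA.1 h]; simp only [mul_assoc, hz]
  have hsand : ∀ b l m, v l * b * u m ∈ Az := fun b l m => memA.2 (by
    rw [← mul_assoc, ← mul_assoc, (hv l).1]; simp only [mul_assoc, (hu m).1])
  let eps : R →ₗ[k] k :=
    { toFun := fun a => D.F a o o
      map_add' := fun a b => by rw [map_add]; rfl
      map_smul' := fun c a => by rw [map_smul]; rfl }
  have hFA : ∀ {a}, a ∈ Az → D.F a = eps a • Matrix.single o o 1 := fun {a} h => by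
    conv_lhs => rw [← memA.1 h, map_mul, map_mul, hFz]
    rw [Matrix.single_mul_mul_single]
    simp [eps, Matrix.smul_single]
  let Nz : Submodule k R := Az ⊓ LinearMap.ker D.F.toLinearMap
  have memN : ∀ {a}, a ∈ Nz ↔ a ∈ Az ∧ D.F a = 0 := Iff.rfl
  have hzA : z ∈ Az := memA.2 (by rw [hz, hz])
  have hsub : ∀ {a}, a ∈ Az → a - eps a • z ∈ Nz := fun {a} h =>
    memN.2 ⟨sub_mem h (Az.smul_mem _ hzA), by rw [map_sub, map_smul, hFA h, hFz, sub_self]⟩
  have hNJ : Nz ≤ D.J := fun a ha => by
    have hae : a * D.e = a := by rw [← hAr (memN.1 ha).1, mul_assoc, hze]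
    rw [← hae]; exact D.ker_le a (memN.1 ha).2
  have hmulA : ∀ {a b}, a ∈ Az → b ∈ Az → a * b ∈ Az := fun {a b} ha hb => memA.2 (by
    rw [← mul_assoc, hAl ha, mul_assoc, hAr hb])
  have hNN : Nz * Nz ≤ Nz := Submodule.mul_le.2 fun a ha b hb =>
    memN.2 ⟨hmulA (memN.1 ha).1 (memN.1 hb).1, by rw [map_mul, (memN.1 ha).2, zero_mul]⟩
  let Dm : Fin f → Fin f → R := fun l m => (if l = m then z else 0) - v l * u m
  have hDN : ∀ l m, Dm l m ∈ Nz := fun l m => by
    refine memN.2 ⟨sub_mem ?_ (by simpa using hsand 1 l m), ?_⟩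
    · split_ifs
      · exact hzA
      · exact zero_mem _
    · simp only [Dm, map_sub, map_mul, (hu m).2.2, (hv l).2.2, apply_ite D.F, map_zero, hFz]
      by_cases h : l = m
      · subst h; rw [if_pos rfl, Matrix.single_mul_single_same, one_mul, sub_self]
      · rw [if_neg h, Matrix.single_mul_single_of_ne (h := h), sub_zero]
  have hPP : ∀ l m, ∑ j, v l * u j * (v j * u m) = v l * u m := fun l m => by
    calc ∑ j, v l * u j * (v j * u m) = v l * ((∑ j, u j * v j) * u m) := by
          simp only [Finset.sum_mul, Finset.mul_sum, mul_assoc]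
      _ = _ := by rw [huv, D.e_comm, (hu m).2.1]
  have hDD : ∀ l m, Dm l m = ∑ j, Dm l j * Dm j m := by
    intro l m
    simp only [Dm, sub_mul, mul_sub, Finset.sum_sub_distrib, hPP, ite_mul, mul_ite, zero_mul,
      mul_zero, Finset.sum_ite_eq, Finset.sum_ite_eq', Finset.mem_univ, if_true, hz]
    rw [show z * (v l * u m) = v l * u m by rw [← mul_assoc, (hv l).1],
      show v l * u m * z = v l * u m by rw [mul_assoc, (hu m).1], sub_self, sub_zero]
  have hP : ∀ l m, v l * u m = if l = m then z else 0 := by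
    intro l m
    have : ∀ j l m, Dm l m ∈ Nz ^ (j + 1) := by
      intro j
      induction j with
      | zero => intro l m; rw [zero_add, pow_one]; exact hDN l m
      | succ j ih =>
        intro l m
        rw [hDD, pow_succ]
        exact Submodule.sum_mem _ fun i _ => Submodule.mul_mem_mul (ih l i) (hDN i m)
    have h0 : Dm l m ∈ D.J ^ (D.nJ + 1) := pow_le_pow_left' hNJ _ (this D.nJ l m)
    rw [pow_succ, D.J_pow, Submodule.bot_mul, Submodule.mem_bot, sub_eq_zero] at h0
    exact h0.symm
  exact ⟨⟨o, z, u, v, hz, hze, hFz, hu, hv, huv, hP⟩⟩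

/-- Modules of bounded type force a radical with one generator. -/
theorem rad_le_one_of_bounded {k : Type*} [Field k] {R : Type*} [Ring R] [Algebra k R]
    [FiniteDimensional k R] {f : ℕ} (hf : 0 < f) {D : CornerData k R f} (φ : Frame D) {bd : ℕ}
    (hbd : ∀ n : ℕ, ∀ ρ : R →ₐ[k] Module.End k (Fin f → (Fin n → k) × (Fin n → k)), ρ D.e = 1 →
      ∃ (q : ℕ) (θ : Fin q → Module.End k (Fin f → (Fin n → k) × (Fin n → k))),
        (∀ j b, Commute (θ j) (ρ b)) ∧ (∀ j, Module.finrank k (LinearMap.range (θ j)) ≤ bd) ∧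
          ∑ j, θ j = 1) :
    Module.finrank k (φ.N.map ((k ∙ φ.z) ⊔ φ.N * φ.N).mkQ) ≤ 1 := by
  classical
  obtain ⟨o, z, u, v, hz, hze, hFz, hu, hv, huv, hP⟩ := φ
  let Az : Submodule k R := LinearMap.range (LinearMap.mulLeft k z ∘ₗ LinearMap.mulRight k z)
  have memA : ∀ {a : R}, a ∈ Az ↔ z * a * z = a := by
    intro a
    constructor
    · rintro ⟨b, rfl⟩
      show z * (z * (b * z)) * z = z * (b * z)
      simp only [← mul_assoc, hz]
      simp only [mul_assoc, hz]
    · exact fun h => ⟨a, by show z * (a * z) = a; rw [← mul_assoc, h]⟩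
  have hAl : ∀ {a}, a ∈ Az → z * a = a := fun {a} h => by
    rw [← memA.1 h]; simp only [← mul_assoc, hz]
  have hAr : ∀ {a}, a ∈ Az → a * z = a := fun {a} h => by
    rw [← memA.1 h]; simp only [mul_assoc, hz]
  have hsand : ∀ b l m, v l * b * u m ∈ Az := fun b l m => memA.2 (by
    rw [← mul_assoc, ← mul_assoc, (hv l).1]; simp only [mul_assoc, (hu m).1])
  let eps : R →ₗ[k] k :=
    { toFun := fun a => D.F a o o
      map_add' := fun a b => by rw [map_add]; rfl
      map_smul' := fun c a => by rw [map_smul]; rfl }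
  have hFA : ∀ {a}, a ∈ Az → D.F a = eps a • Matrix.single o o 1 := fun {a} h => by
    conv_lhs => rw [← memA.1 h, map_mul, map_mul, hFz]
    rw [Matrix.single_mul_mul_single]
    simp [eps, Matrix.smul_single]
  let Nz : Submodule k R := Az ⊓ LinearMap.ker D.F.toLinearMap
  have memN : ∀ {a}, a ∈ Nz ↔ a ∈ Az ∧ D.F a = 0 := Iff.rfl
  have hzA : z ∈ Az := memA.2 (by rw [hz, hz])
  have hsub : ∀ {a}, a ∈ Az → a - eps a • z ∈ Nz := fun {a} h =>
    memN.2 ⟨sub_mem h (Az.smul_mem _ hzA), by rw [map_sub, map_smul, hFA h, hFz, sub_self]⟩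
  have hNJ : Nz ≤ D.J := fun a ha => by
    have hae : a * D.e = a := by rw [← hAr (memN.1 ha).1, mul_assoc, hze]
    rw [← hae]; exact D.ker_le a (memN.1 ha).2
  have hmulA : ∀ {a b}, a ∈ Az → b ∈ Az → a * b ∈ Az := fun {a b} ha hb => memA.2 (by
    rw [← mul_assoc, hAl ha, mul_assoc, hAr hb])
  have hNN : Nz * Nz ≤ Nz := Submodule.mul_le.2 fun a ha b hb =>
    memN.2 ⟨hmulA (memN.1 ha).1 (memN.1 hb).1, by rw [map_mul, (memN.1 ha).2, zero_mul]⟩
  let L : Submodule k R := (k ∙ z) ⊔ Nz * Nz
  let im : Submodule k (R ⧸ L) := Nz.map L.mkQ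
  show Module.finrank k im ≤ 1
  by_contra hgt
  push Not at hgt
  obtain ⟨w, hw⟩ := exists_linearIndependent_of_le_finrank (R := k) (M := im)
    (n := 2) (by omega)
  choose a ha haw using fun j => (w j).2
  have hwi : LinearIndependent k fun j => L.mkQ (a j) := by
    simp only [haw]; exact hw.map' im.subtype im.ker_subtype
  obtain ⟨g, hg⟩ := LinearMap.exists_leftInverse_of_injective
    (Fintype.linearCombination k fun j => L.mkQ (a j))
    (LinearMap.ker_eq_bot'.2 fun c hc => funext (Fintype.linearIndependent_iff.1 hwi c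
      (by simpa [Fintype.linearCombination_apply] using hc)))
  let δ : Fin 2 → R →ₗ[k] k := fun j => LinearMap.proj j ∘ₗ g ∘ₗ L.mkQ
  have hδa : ∀ i j, δ i (a j) = if i = j then 1 else 0 := fun i j => by
    have := congrFun (LinearMap.congr_fun hg (Pi.single j (1 : k))) i
    simpa [δ, Fintype.linearCombination_apply_single, Pi.single_apply] using this
  have hδL : ∀ i x, x ∈ L → δ i x = 0 := fun i x hx => by
    simp [δ, (Submodule.Quotient.mk_eq_zero L).2 hx]
  have hδz : ∀ i, δ i z = 0 := fun i =>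
    hδL i z (Submodule.mem_sup_left (Submodule.mem_span_singleton_self z))
  let cof : R →ₗ[k] k × k × k := eps.prod ((δ 0).prod (δ 1))
  have hepsA : ∀ {a b}, a ∈ Az → b ∈ Az → eps (a * b) = eps a * eps b := fun {a b} ha hb => by
    show D.F (a * b) o o = _
    rw [map_mul, hFA ha, hFA hb]
    simp [Matrix.single_mul_single_same]
  have hder : ∀ i {a b}, a ∈ Az → b ∈ Az →
      δ i (a * b) = eps a * δ i b + eps b * δ i a := by
    intro i a b ha hb
    have hmem : (a - eps a • z) * (b - eps b • z) ∈ L :=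
      Submodule.mem_sup_right (Submodule.mul_mem_mul (hsub ha) (hsub hb))
    have h := hδL i _ hmem
    simp only [sub_mul, mul_sub, smul_mul_assoc, mul_smul_comm, hAl hb, hAr ha, hz, map_sub,
      map_smul, hδz, smul_zero, sub_zero, smul_eq_mul] at h
    linear_combination h
  set n := bd + 1
  let S := shiftLin k n
  have hmul : ∀ {a b}, a ∈ Az → b ∈ Az →
      kronPi n S (cof (a * b)) = kronPi n S (cof a) * kronPi n S (cof b) := by
    intro a b ha hb
    refine LinearMap.ext fun w => ?_
    simp only [Module.End.mul_apply, kronPi_apply, cof, LinearMap.prod_apply, Function.prod,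
      hepsA ha hb, hder 0 ha hb, hder 1 ha hb, map_smul]
    refine Prod.ext ?_ ?_
    · module
    · simp only [mul_smul]
  have hkadd : ∀ c c', kronPi n S (c + c') = kronPi n S c + kronPi n S c' := fun c c' => by
    refine LinearMap.ext fun w => Prod.ext ?_ ?_
    · simp [kronPi]; module
    · simp [kronPi]; module
  have hksmul : ∀ (r : k) c, kronPi n S (r • c) = r • kronPi n S c := fun r c => by
    refine LinearMap.ext fun w => Prod.ext ?_ ?_
    · simp [kronPi]; module
    · simp [kronPi]; module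
  let π : R →ₗ[k] Module.End k ((Fin n → k) × (Fin n → k)) :=
    { toFun := fun a => kronPi n S (cof a)
      map_add' := fun a b => by rw [map_add, hkadd]
      map_smul' := fun r a => by rw [map_smul, hksmul]; rfl }
  have hπz : π z = 1 := by
    have : eps z = 1 := by show D.F z o o = 1; rw [hFz]; simp
    refine LinearMap.ext fun w => Prod.ext ?_ ?_ <;> simp [π, kronPi, cof, this, hδz]
  let ρl : R →ₗ[k] Module.End k (Fin f → (Fin n → k) × (Fin n → k)) :=
    { toFun := fun b => LinearMap.pi fun l =>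
        ∑ m, π (v l * b * u m) ∘ₗ LinearMap.proj m
      map_add' := fun b c => by
        refine LinearMap.ext fun w => funext fun l => ?_
        simp [mul_add, add_mul, Finset.sum_add_distrib]
      map_smul' := fun r b => by
        refine LinearMap.ext fun w => funext fun l => ?_
        simp [Finset.smul_sum] }
  have hρ : ∀ b w l, ρl b w l = ∑ m, π (v l * b * u m) (w m) := fun b w l => by
    simp [ρl]
  have hone : ∀ b, (∀ l m, v l * b * u m = if l = m then z else 0) → ρl b = 1 := by
    intro b hb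
    refine LinearMap.ext fun w => funext fun l => ?_
    rw [hρ]
    rw [Finset.sum_eq_single l]
    · rw [hb, if_pos rfl, hπz]; rfl
    · intro m _ hm; rw [hb, if_neg (Ne.symm hm), map_zero]; rfl
    · simp
  let ρ : R →ₐ[k] Module.End k (Fin f → (Fin n → k) × (Fin n → k)) :=
    AlgHom.ofLinearMap ρl (hone 1 fun l m => by rw [mul_one]; exact hP l m) (fun b c => by
      refine LinearMap.ext fun w => funext fun l => ?_
      rw [Module.End.mul_apply, hρ, hρ]
      simp only [hρ, map_sum]
      rw [Finset.sum_comm]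
      refine Finset.sum_congr rfl fun m _ => ?_
      have e : v l * (b * c) * u m = ∑ j, v l * b * u j * (v j * c * u m) := by
        calc v l * (b * c) * u m = v l * b * D.e * (c * u m) := by
              rw [mul_assoc (v l * b) D.e, ← mul_assoc D.e, D.e_comm c, mul_assoc c,
                D.e_comm, (hu m).2.1]
              simp only [mul_assoc]
          _ = _ := by rw [← huv]; simp only [Finset.mul_sum, Finset.sum_mul, mul_assoc]
      rw [e, map_sum, LinearMap.sum_apply]
      refine Finset.sum_congr rfl fun j _ => ?_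
      show kronPi n S (cof _) (w m) = _
      rw [hmul (hsand b l j) (hsand c j m)]
      rfl)
  obtain ⟨q, θ, hθ, hrk, hsum⟩ := hbd n ρ (hone D.e fun l m => by
    rw [(hv l).2.1]; exact hP l m)
  have helem : ∀ x ∈ Az, ∀ l m w, ρ (u l * x * v m) w = Pi.single l (π x (w m)) := by
    intro x hx l m w
    funext l'
    show ρl _ w l' = _
    rw [hρ, Finset.sum_eq_single m]
    · rw [show v l' * (u l * x * v m) * u m = v l' * u l * x * (v m * u m) by
        simp only [mul_assoc], hP, hP, if_pos rfl]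
      by_cases h : l' = l
      · subst h; rw [if_pos rfl, hAl hx, hAr hx, Pi.single_eq_same]
      · rw [if_neg h, zero_mul, zero_mul, map_zero, Pi.single_eq_of_ne h]; rfl
    · intro m' _ hm'
      rw [show v l' * (u l * x * v m) * u m' = v l' * u l * x * (v m * u m') by
        simp only [mul_assoc], hP m m', if_neg (Ne.symm hm'), mul_zero, map_zero]
      rfl
    · simp
  let θ₀ : Fin q → Module.End k ((Fin n → k) × (Fin n → k)) := fun j =>
    LinearMap.proj o ∘ₗ θ j ∘ₗ LinearMap.single k (fun _ => (Fin n → k) × (Fin n → k)) o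
  have hdiag : ∀ j x, x ∈ Az → ∀ l m w,
      θ j (Pi.single l (π x (w m))) = Pi.single l (π x (θ j w m)) := by
    intro j x hx l m w
    have := LinearMap.congr_fun (hθ j (u l * x * v m)).eq w
    rw [Module.End.mul_apply, Module.End.mul_apply, helem x hx, helem x hx] at this
    exact this
  have hθcomm : ∀ j x, x ∈ Az → ∀ w, θ₀ j (π x w) = π x (θ₀ j w) := by
    intro j x hx w
    have := hdiag j x hx o o (Pi.single o w)
    rw [Pi.single_eq_same] at this
    show θ j (Pi.single o (π x w)) o = π x (θ j (Pi.single o w) o)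
    rw [this, Pi.single_eq_same]
  have hθd : ∀ j w l, θ j w l = θ₀ j (w l) := by
    intro j w l
    have := congrFun (hdiag j z hzA o l w) o
    rw [hπz, Pi.single_eq_same] at this
    exact this.symm
  have ha0 : ∀ i, π (a i) = kronPi n S (0, if 0 = i then 1 else 0, if 1 = i then 1 else 0) := by
    intro i
    show kronPi n S (cof (a i)) = _
    have : eps (a i) = 0 := by show D.F (a i) o o = 0; rw [(memN.1 (ha i)).2]; rfl
    simp [cof, this, hδa]
  let α : Fin q → (Fin n → k) →ₗ[k] (Fin n → k) := fun j =>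
    LinearMap.fst k _ _ ∘ₗ θ₀ j ∘ₗ LinearMap.inl k _ _
  have h12 : ∀ j w2, θ₀ j (w2, 0) = ((θ₀ j (0, w2)).2, 0) := by
    intro j w2
    have := hθcomm j (a 0) (memN.1 (ha 0)).1 (0, w2)
    rw [ha0] at this
    simpa [kronPi] using this
  have hS : ∀ j w2, θ₀ j (S w2, 0) = (S (θ₀ j (0, w2)).2, 0) := by
    intro j w2
    have := hθcomm j (a 1) (memN.1 (ha 1)).1 (0, w2)
    rw [ha0] at this
    simpa [kronPi] using this
  have hα : ∀ j w, (θ₀ j (0, w)).2 = α j w := fun j w => by
    show _ = (θ₀ j (w, 0)).1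
    rw [h12]
  have hαS : ∀ j w, α j (S w) = S (α j w) := fun j w => by
    rw [← hα j w]
    show (θ₀ j (S w, 0)).1 = _
    rw [hS]
  have hαsum : ∀ w, ∑ j, α j w = w := fun w => by
    have h := congrFun (LinearMap.congr_fun hsum
      (Pi.single o ((w, 0) : (Fin n → k) × (Fin n → k)))) o
    rw [LinearMap.sum_apply, Finset.sum_apply] at h
    simp only [Module.End.one_apply, Pi.single_eq_same] at h
    have h' := congrArg Prod.fst h
    rw [Prod.fst_sum] at h'
    exact h'
  obtain ⟨j, hj⟩ := exists_injective_of_commute_shift (Nat.succ_pos bd) α hαS hαsum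
  have hinj0 : Function.Injective (θ₀ j) := by
    refine (injective_iff_map_eq_zero _).2 fun w hw => ?_
    obtain ⟨w1, w2⟩ := w
    have hsplit : θ₀ j (w1, w2) = θ₀ j (w1, 0) + θ₀ j (0, w2) := by
      rw [← map_add]; simp
    rw [hsplit, h12] at hw
    have h2 := congrArg Prod.snd hw
    simp only [Prod.snd_add, zero_add, Prod.snd_zero, hα] at h2
    obtain rfl := hj (h2.trans (map_zero (α j)).symm)
    rw [Prod.mk_zero_zero, map_zero, add_zero] at hw
    have h1 := congrArg Prod.fst hw
    simp only [Prod.fst_zero, hα] at h1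
    obtain rfl := hj (h1.trans (map_zero (α j)).symm)
    rfl
  have hinj : Function.Injective (θ j) := fun w w' hww => funext fun l => hinj0 (by
    rw [← hθd, ← hθd, hww])
  have h1 := hrk j
  rw [LinearMap.finrank_range_of_inj hinj, Module.finrank_pi_fintype] at h1
  simp only [Module.finrank_prod, Module.finrank_pi, Fintype.card_fin, Finset.sum_const,
    Finset.card_univ, smul_eq_mul] at h1
  have : n ≤ f * (n + n) := (Nat.le_add_right n n).trans (Nat.le_mul_of_pos_left _ hf)
  omega

/-- A radical with one generator forces a commutative corner. -/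
theorem comm_of_rad_le_one {k : Type*} [Field k] {R : Type*} [Ring R] [Algebra k R]
    [FiniteDimensional k R] {f : ℕ} {D : CornerData k R f} (φ : Frame D)
    (hd1 : Module.finrank k (φ.N.map ((k ∙ φ.z) ⊔ φ.N * φ.N).mkQ) ≤ 1) :
    ∀ a ∈ φ.A, ∀ b ∈ φ.A, a * b = b * a := by
  classical
  obtain ⟨o, z, u, v, hz, hze, hFz, hu, hv, huv, hP⟩ := φ
  let Az : Submodule k R := LinearMap.range (LinearMap.mulLeft k z ∘ₗ LinearMap.mulRight k z)
  have memA : ∀ {a : R}, a ∈ Az ↔ z * a * z = a := by
    intro a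
    constructor
    · rintro ⟨b, rfl⟩
      show z * (z * (b * z)) * z = z * (b * z)
      simp only [← mul_assoc, hz]
      simp only [mul_assoc, hz]
    · exact fun h => ⟨a, by show z * (a * z) = a; rw [← mul_assoc, h]⟩
  have hAl : ∀ {a}, a ∈ Az → z * a = a := fun {a} h => by
    rw [← memA.1 h]; simp only [← mul_assoc, hz]
  have hAr : ∀ {a}, a ∈ Az → a * z = a := fun {a} h => by
    rw [← memA.1 h]; simp only [mul_assoc, hz]
  have hsand : ∀ b l m, v l * b * u m ∈ Az := fun b l m => memA.2 (by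
    rw [← mul_assoc, ← mul_assoc, (hv l).1]; simp only [mul_assoc, (hu m).1])
  let eps : R →ₗ[k] k :=
    { toFun := fun a => D.F a o o
      map_add' := fun a b => by rw [map_add]; rfl
      map_smul' := fun c a => by rw [map_smul]; rfl }
  have hFA : ∀ {a}, a ∈ Az → D.F a = eps a • Matrix.single o o 1 := fun {a} h => by
    conv_lhs => rw [← memA.1 h, map_mul, map_mul, hFz]
    rw [Matrix.single_mul_mul_single]
    simp [eps, Matrix.smul_single]
  let Nz : Submodule k R := Az ⊓ LinearMap.ker D.F.toLinearMap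
  have memN : ∀ {a}, a ∈ Nz ↔ a ∈ Az ∧ D.F a = 0 := Iff.rfl
  have hzA : z ∈ Az := memA.2 (by rw [hz, hz])
  have hsub : ∀ {a}, a ∈ Az → a - eps a • z ∈ Nz := fun {a} h =>
    memN.2 ⟨sub_mem h (Az.smul_mem _ hzA), by rw [map_sub, map_smul, hFA h, hFz, sub_self]⟩
  have hNJ : Nz ≤ D.J := fun a ha => by
    have hae : a * D.e = a := by rw [← hAr (memN.1 ha).1, mul_assoc, hze]
    rw [← hae]; exact D.ker_le a (memN.1 ha).2
  have hmulA : ∀ {a b}, a ∈ Az → b ∈ Az → a * b ∈ Az := fun {a b} ha hb => memA.2 (by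
    rw [← mul_assoc, hAl ha, mul_assoc, hAr hb])
  have hNN : Nz * Nz ≤ Nz := Submodule.mul_le.2 fun a ha b hb =>
    memN.2 ⟨hmulA (memN.1 ha).1 (memN.1 hb).1, by rw [map_mul, (memN.1 ha).2, zero_mul]⟩
  show ∀ a ∈ Az, ∀ b ∈ Az, a * b = b * a
  let L : Submodule k R := (k ∙ z) ⊔ Nz * Nz
  let im : Submodule k (R ⧸ L) := Nz.map L.mkQ
  have hdim : Module.finrank k im ≤ 1 := hd1
  obtain ⟨⟨w0, hw0⟩, hw⟩ := finrank_le_one_iff.1 hdim
  obtain ⟨x, hxN, rfl⟩ := hw0
  have hN1 : Nz ≤ (k ∙ x) ⊔ Nz * Nz := by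
    intro a ha
    obtain ⟨c, hc⟩ := hw ⟨L.mkQ a, a, ha, rfl⟩
    have hc' : a - c • x ∈ L := by
      rw [← Submodule.Quotient.eq]
      exact (congrArg Subtype.val hc).symm
    obtain ⟨_, hcz, r, hr, hsum⟩ := Submodule.mem_sup.1 hc'
    obtain ⟨d, rfl⟩ := Submodule.mem_span_singleton.1 hcz
    have hF := congrArg D.F hsum
    rw [map_add, map_smul, map_sub, map_smul, (memN.1 (hNN hr)).2, (memN.1 ha).2,
      (memN.1 hxN).2, hFz, smul_zero, sub_zero, add_zero] at hF
    have hd : d = 0 := by simpa using congrArg (fun X : Matrix (Fin f) (Fin f) k => X o o) hF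
    rw [hd, zero_smul, zero_add] at hsum
    refine Submodule.mem_sup.2 ⟨c • x, Submodule.mem_span_singleton.2 ⟨c, rfl⟩, r, hr, ?_⟩
    rw [hsum]; abel
  have hstep : ∀ j : ℕ, Nz ^ (j + 1) ≤ (k ∙ x ^ (j + 1)) ⊔ Nz ^ (j + 2) := by
    intro j
    induction j with
    | zero => rwa [zero_add, pow_one, pow_one, pow_two]
    | succ j ih =>
      rw [pow_succ _ (j + 1)]
      refine (mul_le_mul' ih (le_refl Nz)).trans ?_
      rw [Submodule.sup_mul]
      refine sup_le ?_ (le_sup_of_le_right (by rw [← pow_succ]))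
      refine (mul_le_mul' (le_refl (k ∙ x ^ (j + 1))) hN1).trans ?_
      rw [Submodule.mul_sup, Submodule.span_mul_span, Set.singleton_mul_singleton, ← pow_succ]
      refine sup_le le_sup_left (le_sup_of_le_right ?_)
      rw [show Nz ^ (j + 1 + 2) = Nz ^ (j + 1) * (Nz * Nz) by rw [← pow_two, ← pow_add]]
      refine mul_le_mul' ?_ le_rfl
      rw [Submodule.span_singleton_le_iff_mem]
      exact Submodule.pow_mem_pow Nz hxN _
  let Φ : Submodule k R := Submodule.span k (Set.range fun i : ℕ => x ^ (i + 1))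
  have hΦ : ∀ j, Nz ≤ Φ ⊔ Nz ^ (j + 1) := by
    intro j
    induction j with
    | zero => rw [zero_add, pow_one]; exact le_sup_right
    | succ j ih =>
      refine ih.trans (sup_le le_sup_left ((hstep j).trans (sup_le ?_ le_sup_right)))
      rw [Submodule.span_singleton_le_iff_mem]
      exact Submodule.mem_sup_left (Submodule.subset_span ⟨j, rfl⟩)
  have hNΦ : Nz ≤ Φ := by
    refine (hΦ D.nJ).trans (sup_le le_rfl ?_)
    rw [pow_succ]
    refine (mul_le_mul' (pow_le_pow_left' hNJ _) (le_refl Nz)).trans ?_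
    rw [D.J_pow, Submodule.bot_mul]; exact bot_le
  have hΦc : ∀ a ∈ Φ, ∀ b ∈ Φ, a * b = b * a := by
    intro a ha b hb
    induction ha using Submodule.span_induction with
    | mem a ha =>
      obtain ⟨i, rfl⟩ := ha
      induction hb using Submodule.span_induction with
      | mem b hb => obtain ⟨i', rfl⟩ := hb; exact ((Commute.refl x).pow_pow _ _).eq
      | zero => simp
      | add _ _ _ _ h1 h2 => rw [mul_add, add_mul, h1, h2]
      | smul c _ _ h => rw [mul_smul_comm, smul_mul_assoc, h]
    | zero => simp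
    | add _ _ _ _ h1 h2 => rw [mul_add, add_mul, h1, h2]
    | smul c _ _ h => rw [mul_smul_comm, smul_mul_assoc, h]
  intro a ha b hb
  have h := hΦc _ (hNΦ (hsub ha)) _ (hNΦ (hsub hb))
  simp only [sub_mul, mul_sub, smul_mul_assoc, mul_smul_comm, hAl ha, hAl hb, hAr ha, hAr hb,
    hz, smul_smul, mul_comm (eps a) (eps b)] at h
  rw [← sub_eq_zero] at h
  rw [← sub_eq_zero, ← h]
  module

/-- A commutative corner gives centre and dimensions. -/
theorem dims_of_comm {k : Type*} [Field k] {R : Type*} [Ring R] [Algebra k R]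
    [FiniteDimensional k R] {f : ℕ} {D : CornerData k R f} (φ : Frame D)
    (hcm : ∀ a ∈ φ.A, ∀ b ∈ φ.A, a * b = b * a) :
    ∃ (c : Fin (Module.finrank k φ.A) → R), (∀ j b, b * c j = c j * b) ∧
      (∀ j, c j * D.e = c j) ∧ LinearIndependent k c ∧
      Module.finrank k (LinearMap.range (LinearMap.mulRight k φ.z)) =
        f * Module.finrank k φ.A ∧
      Module.finrank k (LinearMap.range (LinearMap.mulRight k D.e)) =
        f * Module.finrank k (LinearMap.range (LinearMap.mulRight k φ.z)) := by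
  classical
  obtain ⟨o, z, u, v, hz, hze, hFz, hu, hv, huv, hP⟩ := φ
  let Az : Submodule k R := LinearMap.range (LinearMap.mulLeft k z ∘ₗ LinearMap.mulRight k z)
  have memA : ∀ {a : R}, a ∈ Az ↔ z * a * z = a := by
    intro a
    constructor
    · rintro ⟨b, rfl⟩
      show z * (z * (b * z)) * z = z * (b * z)
      simp only [← mul_assoc, hz]
      simp only [mul_assoc, hz]
    · exact fun h => ⟨a, by show z * (a * z) = a; rw [← mul_assoc, h]⟩
  have hAl : ∀ {a}, a ∈ Az → z * a = a := fun {a} h => by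
    rw [← memA.1 h]; simp only [← mul_assoc, hz]
  have hAr : ∀ {a}, a ∈ Az → a * z = a := fun {a} h => by
    rw [← memA.1 h]; simp only [mul_assoc, hz]
  have hsand : ∀ b l m, v l * b * u m ∈ Az := fun b l m => memA.2 (by
    rw [← mul_assoc, ← mul_assoc, (hv l).1]; simp only [mul_assoc, (hu m).1])
  let eps : R →ₗ[k] k :=
    { toFun := fun a => D.F a o o
      map_add' := fun a b => by rw [map_add]; rfl
      map_smul' := fun c a => by rw [map_smul]; rfl }
  have hFA : ∀ {a}, a ∈ Az → D.F a = eps a • Matrix.single o o 1 := fun {a} h => by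
    conv_lhs => rw [← memA.1 h, map_mul, map_mul, hFz]
    rw [Matrix.single_mul_mul_single]
    simp [eps, Matrix.smul_single]
  let Nz : Submodule k R := Az ⊓ LinearMap.ker D.F.toLinearMap
  have memN : ∀ {a}, a ∈ Nz ↔ a ∈ Az ∧ D.F a = 0 := Iff.rfl
  have hzA : z ∈ Az := memA.2 (by rw [hz, hz])
  have hsub : ∀ {a}, a ∈ Az → a - eps a • z ∈ Nz := fun {a} h =>
    memN.2 ⟨sub_mem h (Az.smul_mem _ hzA), by rw [map_sub, map_smul, hFA h, hFz, sub_self]⟩
  have hNJ : Nz ≤ D.J := fun a ha => by
    have hae : a * D.e = a := by rw [← hAr (memN.1 ha).1, mul_assoc, hze]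
    rw [← hae]; exact D.ker_le a (memN.1 ha).2
  have hmulA : ∀ {a b}, a ∈ Az → b ∈ Az → a * b ∈ Az := fun {a b} ha hb => memA.2 (by
    rw [← mul_assoc, hAl ha, mul_assoc, hAr hb])
  have hNN : Nz * Nz ≤ Nz := Submodule.mul_le.2 fun a ha b hb =>
    memN.2 ⟨hmulA (memN.1 ha).1 (memN.1 hb).1, by rw [map_mul, (memN.1 ha).2, zero_mul]⟩
  have hcomm : ∀ a ∈ Az, ∀ b ∈ Az, a * b = b * a := hcm
  -- the dimensions
  let N := Module.finrank k Az
  let bA := Module.finBasis k Az
  let c : Az →ₗ[k] R :=
    { toFun := fun a => ∑ l, u l * (a : R) * v l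
      map_add' := fun a b => by simp [mul_add, add_mul, Finset.sum_add_distrib]
      map_smul' := fun r a => by simp [Finset.smul_sum] }
  have hcinj : LinearMap.ker c = ⊥ := by
    refine LinearMap.ker_eq_bot'.2 fun a ha => Subtype.ext ?_
    have h : v o * c a * u o = 0 := by rw [ha, mul_zero, zero_mul]
    rw [Submodule.coe_zero, ← h]
    simp only [c, LinearMap.coe_mk, AddHom.coe_mk, Finset.mul_sum, Finset.sum_mul]
    rw [Finset.sum_eq_single o]
    · rw [show v o * (u o * (a : R) * v o) * u o = v o * u o * (a : R) * (v o * u o) by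
        simp only [mul_assoc], hP, if_pos rfl, hAl a.2, hAr a.2]
    · intro l _ hl
      rw [show v o * (u l * (a : R) * v l) * u o = v o * u l * (a : R) * (v l * u o) by
        simp only [mul_assoc], hP, if_neg (Ne.symm hl), zero_mul, zero_mul]
    · simp
  refine ⟨fun j => c (bA j), fun j b => ?_, fun j => ?_,
    bA.linearIndependent.map' c hcinj, ?_, ?_⟩
  · set a := bA j
    calc b * c a = ∑ j, b * D.e * (u j * (a : R) * v j) := by
          simp only [c, LinearMap.coe_mk, AddHom.coe_mk, Finset.mul_sum]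
          refine Finset.sum_congr rfl fun j _ => ?_
          rw [mul_assoc b, ← mul_assoc D.e, ← mul_assoc D.e, D.e_comm, (hu j).2.1]
      _ = ∑ j, ∑ l, u l * ((v l * b * u j) * (a : R)) * v j := by
          refine Finset.sum_congr rfl fun j _ => ?_
          rw [← D.e_comm, ← huv]
          simp only [Finset.sum_mul, mul_assoc]
      _ = ∑ j, ∑ l, u l * ((a : R) * (v l * b * u j)) * v j := by
          simp only [hcomm _ (hsand b _ _) _ a.2]
      _ = ∑ l, u l * (a : R) * v l * b * (∑ j, u j * v j) := by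
          rw [Finset.sum_comm]
          simp only [Finset.mul_sum, mul_assoc]
      _ = c a * b := by
          rw [huv]
          simp only [c, LinearMap.coe_mk, AddHom.coe_mk, Finset.sum_mul]
          refine Finset.sum_congr rfl fun l _ => ?_
          rw [mul_assoc (u l * (a : R) * v l), ← D.e_comm, ← mul_assoc, mul_assoc (u l * (a : R)),
            (hv l).2.1]
  · simp only [c, LinearMap.coe_mk, AddHom.coe_mk, Finset.sum_mul, mul_assoc, (hv _).2.1]
  · let ψ : (Fin f → Az) →ₗ[k] LinearMap.range (LinearMap.mulRight k z) :=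
      { toFun := fun w => ⟨∑ l, u l * (w l : R), ⟨∑ l, u l * (w l : R), by
          simp only [LinearMap.mulRight_apply, Finset.sum_mul, mul_assoc, hAr (w _).2]⟩⟩
        map_add' := fun a b => Subtype.ext (by simp [mul_add, Finset.sum_add_distrib])
        map_smul' := fun r a => Subtype.ext (by simp [Finset.smul_sum]) }
    have hψ : Function.Bijective ψ := by
      refine ⟨(injective_iff_map_eq_zero _).2 fun w hw => funext fun m => Subtype.ext ?_, ?_⟩
      · have h := congrArg (fun y : R => v m * y) (congrArg Subtype.val hw)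
        simp only [ψ, LinearMap.coe_mk, AddHom.coe_mk, Submodule.coe_zero, mul_zero,
          Finset.mul_sum, ← mul_assoc, hP, ite_mul, zero_mul, Finset.sum_ite_eq,
          Finset.mem_univ, if_true, hAl (w m).2] at h
        exact h
      · rintro ⟨_, b, rfl⟩
        refine ⟨fun l => ⟨v l * (b * z), memA.2 ?_⟩, Subtype.ext ?_⟩
        · rw [← mul_assoc z, (hv l).1]; simp only [mul_assoc, hz]
        · show ∑ l, u l * (v l * (b * z)) = b * z
          calc ∑ l, u l * (v l * (b * z)) = (∑ l, u l * v l) * (b * z) := by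
                simp only [Finset.sum_mul, mul_assoc]
            _ = b * z := by rw [huv, D.e_comm, mul_assoc, hze]
    rw [← (LinearEquiv.ofBijective ψ hψ).finrank_eq, Module.finrank_pi_fintype]
    rw [Finset.sum_const, Finset.card_univ, Fintype.card_fin, smul_eq_mul]
    rfl
  · let ψ : (Fin f → LinearMap.range (LinearMap.mulRight k z)) →ₗ[k]
        LinearMap.range (LinearMap.mulRight k D.e) :=
      { toFun := fun w => ⟨∑ l, (w l : R) * v l, ⟨∑ l, (w l : R) * v l, by
          simp only [LinearMap.mulRight_apply, Finset.sum_mul, mul_assoc, (hv _).2.1]⟩⟩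
        map_add' := fun a b => Subtype.ext (by simp [add_mul, Finset.sum_add_distrib])
        map_smul' := fun r a => Subtype.ext (by simp [Finset.smul_sum]) }
    have hψ : Function.Bijective ψ := by
      refine ⟨(injective_iff_map_eq_zero _).2 fun w hw => funext fun m => Subtype.ext ?_, ?_⟩
      · have h := congrArg (fun y : R => y * u m) (congrArg Subtype.val hw)
        simp only [ψ, LinearMap.coe_mk, AddHom.coe_mk, Submodule.coe_zero, zero_mul,
          Finset.sum_mul, mul_assoc, hP, mul_ite, mul_zero, Finset.sum_ite_eq',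
          Finset.mem_univ, if_true] at h
        obtain ⟨b, hb⟩ := (w m).2
        rw [← hb] at h ⊢
        simpa [mul_assoc, hz] using h
      · rintro ⟨_, b, rfl⟩
        refine ⟨fun l => ⟨b * u l, ⟨b * u l, ?_⟩⟩, Subtype.ext ?_⟩
        · simp only [LinearMap.mulRight_apply, mul_assoc, (hu l).1]
        · show ∑ l, b * u l * v l = b * D.e
          rw [← huv, Finset.mul_sum]
          simp only [mul_assoc]
    rw [← (LinearEquiv.ofBijective ψ hψ).finrank_eq, Module.finrank_pi_fintype]
    simp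

/-- The structure of an algebra with a single simple module of bounded type. -/
theorem corner_commutative {k : Type*} [Field k] {R : Type*} [Ring R] [Algebra k R]
    [FiniteDimensional k R] {f : ℕ} (hf : 0 < f) (D : CornerData k R f) {bd : ℕ}
    (hbd : ∀ n : ℕ, ∀ ρ : R →ₐ[k] Module.End k (Fin f → (Fin n → k) × (Fin n → k)), ρ D.e = 1 →
      ∃ (q : ℕ) (θ : Fin q → Module.End k (Fin f → (Fin n → k) × (Fin n → k))),
        (∀ j b, Commute (θ j) (ρ b)) ∧ (∀ j, Module.finrank k (LinearMap.range (θ j)) ≤ bd) ∧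
          ∑ j, θ j = 1) :
    ∃ (N : ℕ) (z : R) (c : Fin N → R), (∀ j b, b * c j = c j * b) ∧ (∀ j, c j * D.e = c j) ∧
      LinearIndependent k c ∧ z * z = z ∧
      Module.finrank k (LinearMap.range (LinearMap.mulRight k z)) = f * N ∧
      Module.finrank k (LinearMap.range (LinearMap.mulRight k D.e)) =
        f * Module.finrank k (LinearMap.range (LinearMap.mulRight k z)) := by
  obtain ⟨φ⟩ := exists_frame_exact hf D
  obtain ⟨c, h1, h2, h3, h4, h5⟩ :=
    dims_of_comm φ (comm_of_rad_le_one φ (rad_le_one_of_bounded hf φ hbd))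
  exact ⟨_, φ.z, c, h1, h2, h3, φ.hz, h4, h5⟩

end Cfsg.Agent.BlockAlg
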