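/-
Relative projectivity with respect to a cyclic subgroup and to a Sylow subgroup.
-/
import Cfsg.Agent.Lib.BlockAlg.RankLift
import Mathlib.GroupTheory.PGroup
import Mathlib.Data.ZMod.Basic
import Mathlib.LinearAlgebra.Dual.Lemmas
import Mathlib.Algebra.CharP.Algebra

set_option linter.unusedSectionVars false
set_option linter.style.haveILetI false

namespace Cfsg.Agent.BlockAlg

open MonoidAlgebra Cfsg.Agent.Blocks

/-- An endomorphism commuting with a nilpotent one splits into bounded pieces. -/
theorem exists_pieces {k : Type*} [Field k] {V : Type*} [AddCommGroup V] [Module k V]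
    [FiniteDimensional k V] (η : Module.End k V) {m : ℕ} (hη : η ^ m = 0) (Q : Module.End k V)
    (hQ : Q * Q = Q) (hQη : Commute Q η) :
    ∃ (q : ℕ) (π : Fin q → Module.End k V), (∀ j, Commute (π j) η) ∧
      (∀ j, Module.finrank k (LinearMap.range (π j)) ≤ m) ∧ ∑ j, π j = Q := by
  classical
  induction hn : Module.finrank k (LinearMap.range Q) using Nat.strong_induction_on generalizing Q with
  | _ N ih =>
    by_cases hQ0 : Q = 0
    · exact ⟨0, Fin.elim0, fun j => j.elim0, fun j => j.elim0, by simp [hQ0]⟩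
    have hex : ∃ i, η ^ i * Q = 0 := ⟨m, by rw [hη, zero_mul]⟩
    set m' := Nat.find hex with hm'
    have hm'0 : η ^ m' * Q = 0 := Nat.find_spec hex
    have hm'm : m' ≤ m := Nat.find_min' hex (by rw [hη, zero_mul])
    have hpos : 0 < m' := by
      rcases Nat.eq_zero_or_pos m' with h | h
      · rw [h, pow_zero, one_mul] at hm'0; exact absurd hm'0 hQ0
      · exact h
    have hne : η ^ (m' - 1) * Q ≠ 0 := Nat.find_min hex (by omega)
    obtain ⟨x0, hx0⟩ : ∃ x0, (η ^ (m' - 1) * Q) x0 ≠ 0 := by
      by_contra h; push Not at h; exact hne (LinearMap.ext h)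
    set x := Q x0 with hx
    have hQx : Q x = x := by rw [hx, ← Module.End.mul_apply, hQ]
    obtain ⟨φ, hφ⟩ : ∃ φ : V →ₗ[k] k, φ ((η ^ (m' - 1)) x) ≠ 0 := by
      by_contra h; push Not at h
      exact hx0 ((Module.forall_dual_apply_eq_zero_iff k _).1 h)
    have hkill : ∀ i, m' ≤ i → ∀ v, (η ^ i) (Q v) = 0 := fun i hi v => by
      obtain ⟨j, rfl⟩ := Nat.exists_eq_add_of_le hi
      rw [add_comm, pow_add, Module.End.mul_apply,
        show (η ^ m') (Q v) = 0 from LinearMap.congr_fun hm'0 v, map_zero]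
    have hQpow : ∀ (i : ℕ) v, Q ((η ^ i) v) = (η ^ i) (Q v) := fun i v =>
      LinearMap.congr_fun (hQη.pow_right i).eq v
    let A : V →ₗ[k] (Fin m' → k) := LinearMap.pi fun j : Fin m' => φ ∘ₗ (η ^ (j : ℕ)) ∘ₗ Q
    let C : (Fin m' → k) →ₗ[k] V :=
      Fintype.linearCombination k fun j : Fin m' => (η ^ (j : ℕ)) x
    let X := A ∘ₗ C
    have hXinj : Function.Injective X := by
      refine (injective_iff_map_eq_zero _).2 fun c hc => ?_
      by_contra hc0
      obtain ⟨i, hi, hmin⟩ := Finset.exists_min_image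
        (Finset.univ.filter fun i => c i ≠ 0) (fun i : Fin m' => (i : ℕ))
        (by
          obtain ⟨i, hi⟩ := Function.ne_iff.1 hc0
          exact ⟨i, Finset.mem_filter.2 ⟨Finset.mem_univ _, hi⟩⟩)
      have h := congrFun hc ⟨m' - 1 - i, by omega⟩
      simp only [X, A, C, LinearMap.comp_apply, LinearMap.pi_apply,
        Fintype.linearCombination_apply, map_sum, map_smul, hQpow, hQx, Pi.zero_apply,
        ← Module.End.mul_apply, ← pow_add] at h
      rw [Finset.sum_eq_single i] at h
      · rw [show m' - 1 - (i : ℕ) + (i : ℕ) = m' - 1 by omega, smul_eq_mul] at h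
        exact (mul_ne_zero (Finset.mem_filter.1 hi).2 hφ) h
      · intro j _ hji
        by_cases hcj : c j = 0
        · rw [hcj, zero_smul]
        · have hij : (i : ℕ) < j :=
            lt_of_le_of_ne (hmin j (Finset.mem_filter.2 ⟨Finset.mem_univ _, hcj⟩))
              fun h => hji (Fin.ext h.symm)
          rw [← hQx, hkill _ (by omega), map_zero, smul_zero]
      · simp
    let e := LinearEquiv.ofInjectiveEndo X hXinj
    let π : Module.End k V := C ∘ₗ e.symm.toLinearMap ∘ₗ A
    have hAπ : ∀ v, A (π v) = A v := fun v => by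
      show X (e.symm (A v)) = A v
      exact e.apply_symm_apply _
    have hAinj : ∀ {c c' : Fin m' → k}, A (C c) = A (C c') → C c = C c' := fun h => by
      rw [hXinj h]
    have hCQ : ∀ c, Q (C c) = C c := fun c => by
      simp only [C, Fintype.linearCombination_apply, map_sum, map_smul, hQpow, hQx]
    have hAQ : ∀ v, A (Q v) = A v := fun v => funext fun j => by
      simp only [A, LinearMap.pi_apply, LinearMap.comp_apply]
      rw [← Module.End.mul_apply Q Q, hQ]
    have hππ : π * π = π := LinearMap.ext fun v => by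
      show C (e.symm (A (π v))) = π v
      rw [hAπ]; rfl
    have hπQ : π * Q = π := LinearMap.ext fun v => by
      show C (e.symm (A (Q v))) = π v
      rw [hAQ]; rfl
    have hQπ : Q * π = π := LinearMap.ext fun v => hCQ _
    have hπx : π x = x := by
      have hx' : x = C (Pi.single ⟨0, hpos⟩ 1) := by
        simp [C, Fintype.linearCombination_apply_single]
      have : A (π x) = A x := hAπ x
      rw [hx'] at this ⊢
      exact hAinj this
    have hπη : Commute π η := LinearMap.ext fun v => by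
      show π (η v) = η (π v)
      obtain ⟨c', hc'⟩ : ∃ c', C c' = η (π v) := by
        let c := e.symm (A v)
        refine ⟨fun j => if h : 0 < (j : ℕ) then c ⟨j - 1, by omega⟩ else 0, ?_⟩
        show C _ = η (C c)
        obtain ⟨m'', hm''⟩ := Nat.exists_eq_succ_of_ne_zero hpos.ne'
        simp only [C, Fintype.linearCombination_apply, map_sum, map_smul, ← Module.End.mul_apply,
          ← pow_succ']
        rw [← Equiv.sum_comp (finCongr hm''.symm), ← Equiv.sum_comp (finCongr hm''.symm),
          Fin.sum_univ_succ, Fin.sum_univ_castSucc]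
        have hlast : (η ^ (m'' + 1)) x = 0 := by
          rw [← hQx]; exact hkill _ (by omega) _
        simp [hlast]
        exact Finset.sum_congr rfl fun i _ => rfl
      rw [← hc']
      refine hAinj ?_
      show A (π (η v)) = A (C c')
      rw [hAπ, hc']
      funext j
      simp only [A, LinearMap.pi_apply, LinearMap.comp_apply]
      have hsh : ∀ w, (η ^ (j : ℕ)) (Q (η w)) = (η ^ ((j : ℕ) + 1)) (Q w) := fun w => by
        rw [pow_succ, Module.End.mul_apply]
        exact congrArg _ (LinearMap.congr_fun hQη.eq w)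
      rw [hsh, hsh]
      by_cases hj : (j : ℕ) + 1 < m'
      · exact (congrFun (hAπ v) ⟨(j : ℕ) + 1, hj⟩).symm
      · rw [hkill _ (by omega), hkill _ (by omega)]
    have hQ' : (Q - π) * (Q - π) = Q - π := by
      rw [sub_mul, mul_sub, mul_sub, hQ, hQπ, hπQ, hππ]; abel
    have hlt : Module.finrank k (LinearMap.range (Q - π)) < N := by
      rw [← hn]
      refine Submodule.finrank_lt_finrank_of_lt (lt_of_le_of_ne ?_ fun h => ?_)
      · rintro _ ⟨w, rfl⟩
        refine ⟨w - π w, ?_⟩
        rw [map_sub, ← Module.End.mul_apply, hQπ]; rfl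
      · have hxr : x ∈ LinearMap.range (Q - π) := h ▸ ⟨x0, rfl⟩
        obtain ⟨w, hw⟩ := hxr
        have := congrArg π hw
        rw [hπx, ← Module.End.mul_apply, mul_sub, hπQ, hππ, sub_self] at this
        exact hx0 (by
          rw [Module.End.mul_apply, ← hx, ← this]; simp)
    obtain ⟨q, πs, h1, h2, h3⟩ := ih _ hlt (Q - π) hQ' (hQη.sub_left hπη) rfl
    refine ⟨q + 1, Fin.cons π πs, ?_, ?_, ?_⟩
    · exact Fin.cases (by simpa using hπη) (fun j => by simpa using h1 j)
    · refine Fin.cases ?_ (fun j => by rw [Fin.cons_succ]; exact h2 j)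
      rw [Fin.cons_zero]
      refine (Submodule.finrank_mono (LinearMap.range_comp_le_range _ C)).trans ?_
      refine (LinearMap.finrank_range_le C).trans ?_
      simpa using hm'm
    · rw [Fin.sum_univ_succ]
      simp [h3]

theorem finrank_range_sum_le {k : Type*} [Field k] {V : Type*} [AddCommGroup V] [Module k V]
    [FiniteDimensional k V] {ι : Type*} (s : Finset ι) (f : ι → Module.End k V) {b : ℕ}
    (h : ∀ i ∈ s, Module.finrank k (LinearMap.range (f i)) ≤ b) :
    Module.finrank k (LinearMap.range (∑ i ∈ s, f i)) ≤ s.card * b := by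
  classical
  induction s using Finset.induction_on with
  | empty =>
    rw [Finset.sum_empty, show LinearMap.range (0 : Module.End k V) = ⊥ from LinearMap.range_zero,
      finrank_bot]
    exact Nat.zero_le _
  | @insert a s ha ih =>
    rw [Finset.sum_insert ha, Finset.card_insert_of_notMem ha]
    refine (Submodule.finrank_mono (LinearMap.range_add_le _ _)).trans ?_
    refine (Submodule.finrank_add_le_finrank_add_finrank _ _).trans ?_
    have h1 := ih fun i hi => h i (Finset.mem_insert_of_mem hi)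
    have h2 := h a (Finset.mem_insert_self a s)
    rw [add_mul, one_mul]
    omega

variable {G : Type*} [Group G] [Fintype G] {k : Type*} [Field k] {p : ℕ} [Fact p.Prime] [CharP k p]

theorem sum_coeff_single' (b : MonoidAlgebra k G) :
    ∑ g, b.coeff g • MonoidAlgebra.single g (1 : k) = b := by
  classical
  refine gaExt fun a => ?_
  rw [MonoidAlgebra.coeff_sum, Finset.sum_apply', Finset.sum_eq_single a]
  · simp
  · intro b _ hb; simp [Finsupp.single_apply, hb]
  · simp

theorem classSum_mul_single (s g : G) :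
    classSum k s * MonoidAlgebra.single g (1 : k) = MonoidAlgebra.single g 1 * classSum k s :=
  IsClassElt.comm (isClassElt_gaOfFun fun x h => by
    classical
    simp only [Set.indicator, Set.mem_setOf_eq, Pi.one_apply]
    exact if_congr (isConj_conj_iff s x h) rfl rfl) _

/-- The class sum as a relative trace. -/
theorem sum_quotient_conj {P : Subgroup G} {s : G}
    (hP : P ≤ Subgroup.centralizer ({s} : Set G)) [Fintype (G ⧸ P)] :
    ∑ q : G ⧸ P, MonoidAlgebra.single (q.out * s * q.out⁻¹) (1 : k) =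
      P.relIndex (Subgroup.centralizer ({s} : Set G)) • classSum k s := by
  classical
  set C := Subgroup.centralizer ({s} : Set G)
  refine gaExt fun x => ?_
  rw [MonoidAlgebra.coeff_sum, Finset.sum_apply', MonoidAlgebra.coeff_smul, Finsupp.smul_apply,
    coeff_classSum]
  simp only [MonoidAlgebra.coeff_single, Finsupp.single_apply]
  rw [Finset.sum_boole]
  by_cases hx : IsConj s x
  · rw [if_pos hx, nsmul_one]
    congr 1
    obtain ⟨g0, rfl⟩ := isConj_iff.1 hx
    have hmem : ∀ g : G, g * s * g⁻¹ = g0 * s * g0⁻¹ ↔ g0⁻¹ * g ∈ C := fun g => by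
      rw [Subgroup.mem_centralizer_singleton_iff]
      constructor
      · intro h
        calc g0⁻¹ * g * s = g0⁻¹ * (g * s * g⁻¹) * g := by group
          _ = s * (g0⁻¹ * g) := by rw [h]; group
      · intro h
        calc g * s * g⁻¹ = g0 * (g0⁻¹ * g * s) * g⁻¹ := by group
          _ = g0 * s * g0⁻¹ := by rw [h]; group
    let T := {q : G ⧸ P // q.out * s * q.out⁻¹ = g0 * s * g0⁻¹}
    rw [← Fintype.card_subtype, ← Nat.card_eq_fintype_card]
    show Nat.card T = (P.subgroupOf C).index
    rw [Subgroup.index]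
    symm
    refine Nat.card_eq_of_bijective (Quotient.lift (fun c : C => (⟨QuotientGroup.mk (g0 * c), ?_⟩ : T)) ?_)
      ⟨?_, ?_⟩
    · rw [hmem]
      obtain ⟨w, hw⟩ := QuotientGroup.mk_out_eq_mul P (g0 * (c : G))
      rw [hw, ← mul_assoc, ← mul_assoc, inv_mul_cancel, one_mul]
      exact mul_mem c.2 (hP w.2)
    · intro c c' hcc
      refine Subtype.ext (QuotientGroup.eq.2 ?_)
      have := Subgroup.mem_subgroupOf.1 (QuotientGroup.leftRel_apply.1 hcc)
      simpa [mul_assoc] using this
    · intro a b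
      refine Quotient.inductionOn₂ a b fun c c' h => Quotient.sound ?_
      have := QuotientGroup.eq.1 (congrArg Subtype.val h)
      exact QuotientGroup.leftRel_apply.2 (Subgroup.mem_subgroupOf.2 (by simpa [mul_assoc] using this))
    · rintro ⟨q, hq⟩
      exact ⟨Quotient.mk'' ⟨g0⁻¹ * q.out, (hmem _).1 hq⟩, Subtype.ext (by simp)⟩
  · rw [if_neg hx, smul_zero, Finset.card_eq_zero.2, Nat.cast_zero]
    exact Finset.filter_eq_empty_iff.2 fun q _ h => hx (isConj_iff.2 ⟨_, h⟩)

/-- Modules for a block with cyclic defect group are sums of bounded pieces. -/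
theorem exists_bounded_pieces {P : Subgroup G} (hPp : IsPGroup p P) (hcyc : IsCyclic P) {s : G}
    (hPs : P ≤ Subgroup.centralizer ({s} : Set G))
    (hidx : ¬ p ∣ P.relIndex (Subgroup.centralizer ({s} : Set G))) {e : MonoidAlgebra k G} {c : k}
    (hc : c ≠ 0) (hK : IsNilpotent ((classSum k s - c • 1) * e)) {V : Type*} [AddCommGroup V]
    [Module k V] [FiniteDimensional k V] (ρ : MonoidAlgebra k G →ₐ[k] Module.End k V)
    (he : ρ e = 1) :
    ∃ (q : ℕ) (θ : Fin q → Module.End k V), (∀ j b, Commute (θ j) (ρ b)) ∧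
      (∀ j, Module.finrank k (LinearMap.range (θ j)) ≤ Nat.card G) ∧ ∑ j, θ j = 1 := by
  classical
  rcases subsingleton_or_nontrivial V with hV | hV
  · exact ⟨0, Fin.elim0, fun j => j.elim0, fun j => j.elim0,
      LinearMap.ext fun v => Subsingleton.elim _ _⟩
  set C := Subgroup.centralizer ({s} : Set G)
  let r : G → Module.End k V := fun g => ρ (MonoidAlgebra.single g 1)
  have hr : ∀ g h, r (g * h) = r g * r h := fun g h => by
    simp only [r, ← map_mul, MonoidAlgebra.single_mul_single, mul_one]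
  have hr1 : r 1 = 1 := by simp only [r, ← MonoidAlgebra.one_def, map_one]
  obtain ⟨⟨y, hyP⟩, hy⟩ := IsCyclic.exists_generator (α := P)
  obtain ⟨a, ha⟩ := IsPGroup.iff_card.1 hPp
  have hry : (r y - 1) ^ p ^ a = 0 := by
    haveI : CharP (Module.End k V) p := charP_of_injective_algebraMap
      (FaithfulSMul.algebraMap_injective k (Module.End k V)) p
    rw [sub_pow_char_pow_of_commute p a (Commute.one_right _), one_pow]
    have hpow : ∀ n : ℕ, r y ^ n = r (y ^ n) := fun n => by
      induction n with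
      | zero => rw [pow_zero, pow_zero, hr1]
      | succ n ih => rw [pow_succ, pow_succ, hr, ih]
    have h := congrArg Subtype.val (pow_card_eq_one' (x := (⟨y, hyP⟩ : P)))
    rw [ha] at h
    rw [hpow, show y ^ p ^ a = 1 by simpa using h, hr1, sub_self]
  obtain ⟨q, π, hπc, hπr, hπs⟩ :=
    exists_pieces (r y - 1) hry 1 (one_mul 1) (Commute.one_left _)
  have hπP : ∀ j, ∀ u ∈ P, Commute (π j) (r u) := by
    intro j u hu
    obtain ⟨i, hi⟩ := (Subgroup.mem_zpowers_iff.1 (hy ⟨u, hu⟩))
    have hcy : Commute (π j) (r y) := by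
      simpa using (hπc j).add_right (Commute.one_right (π j))
    have hnat : ∀ n : ℕ, Commute (π j) (r (y ^ n)) := fun n => by
      induction n with
      | zero => rw [pow_zero, hr1]; exact Commute.one_right _
      | succ n ih => rw [pow_succ, hr]; exact ih.mul_right hcy
    obtain ⟨n, hn⟩ : ∃ n : ℕ, y ^ n = u := by
      obtain ⟨n, hn⟩ := (mem_powers_iff_mem_zpowers.2 (hy ⟨u, hu⟩))
      exact ⟨n, by simpa using congrArg Subtype.val hn⟩
    exact hn ▸ hnat n
  have hρK : IsUnit (ρ (classSum k s)) := by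
    have hn := hK.map ρ
    rw [map_mul, he, mul_one, map_sub, map_smul, map_one] at hn
    have h1 : ρ (classSum k s) = c • 1 + (ρ (classSum k s) - c • 1) := by abel
    rw [h1]
    exact hn.isUnit_add_left_of_commute
      (by rw [← Algebra.algebraMap_eq_smul_one]; exact (isUnit_iff_ne_zero.2 hc).map _)
      (Commute.smul_right (Commute.one_right _) c)
  obtain ⟨w, hw⟩ := hρK
  have hwc : ∀ g, Commute (↑w⁻¹ : Module.End k V) (r g) := fun g => by
    refine Commute.units_inv_left ?_
    rw [hw]
    show ρ _ * ρ _ = ρ _ * ρ _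
    rw [← map_mul, ← map_mul, classSum_mul_single]
  have hrs : ∀ u ∈ P, Commute (r s) (r u) := fun u hu => by
    show r s * r u = r u * r s
    rw [← hr, ← hr, Subgroup.mem_centralizer_singleton_iff.1 (hPs hu)]
  let f : Fin q → G ⧸ P → Module.End k V := fun j =>
    Quotient.lift (fun g => r g * (r s * π j) * r g⁻¹) (fun g g' hgg => by
      obtain ⟨u, hu, rfl⟩ : ∃ u ∈ P, g' = g * u :=
        ⟨g⁻¹ * g', QuotientGroup.leftRel_apply.1 hgg, by group⟩
      rw [hr, _root_.mul_inv_rev, hr]
      calc r g * (r s * π j) * r g⁻¹ = r g * (r s * π j) * (r u * r u⁻¹) * r g⁻¹ := by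
            rw [← hr, mul_inv_cancel, hr1, mul_one]
        _ = r g * ((r s * π j) * r u) * r u⁻¹ * r g⁻¹ := by simp only [mul_assoc]
        _ = r g * (r u * (r s * π j)) * r u⁻¹ * r g⁻¹ := by
            rw [((hrs u hu).mul_left (hπP j u hu)).eq]
        _ = _ := by simp only [mul_assoc])
  set ci : k := ((P.relIndex C : ℕ) : k)⁻¹
  let θ : Fin q → Module.End k V := fun j => (ci • ∑ x : G ⧸ P, f j x) * ↑w⁻¹
  have hfg : ∀ j g x, r g * f j x = f j (g • x) * r g := by
    intro j g x
    refine Quotient.inductionOn x fun h => ?_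
    show r g * (r h * (r s * π j) * r h⁻¹) = r (g * h) * (r s * π j) * r (g * h)⁻¹ * r g
    rw [mul_assoc (r (g * h) * (r s * π j)), ← hr (g * h)⁻¹ g,
      show (g * h)⁻¹ * g = h⁻¹ by group, hr g h]
    simp only [mul_assoc]
  refine ⟨q, θ, fun j b => ?_, fun j => ?_, ?_⟩
  · have hcomm : ∀ g, Commute (θ j) (r g) := fun g => by
      refine Commute.mul_left (Commute.smul_left ?_ ci) (hwc g)
      show (∑ x, f j x) * r g = r g * ∑ x, f j x
      rw [Finset.sum_mul, Finset.mul_sum]
      simp only [hfg]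
      exact (Equiv.sum_comp (MulAction.toPerm g) fun x => f j x * r g).symm
    rw [← sum_coeff_single' b, map_sum]
    refine Commute.sum_right _ _ _ fun g _ => ?_
    rw [map_smul]
    exact (hcomm g).smul_right _
  · refine (Submodule.finrank_mono (LinearMap.range_comp_le_range _ _)).trans ?_
    refine (Submodule.finrank_mono
      (show LinearMap.range (ci • ∑ x : G ⧸ P, f j x) ≤ LinearMap.range (∑ x : G ⧸ P, f j x) from ?_)).trans
      ((finrank_range_sum_le _ _ (b := Nat.card P) fun x _ => ?_).trans ?_)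
    · rintro _ ⟨v, rfl⟩
      exact ⟨ci • v, by simp⟩
    · refine Quotient.inductionOn x fun g => ?_
      show Module.finrank k (LinearMap.range (r g * (r s * π j) * r g⁻¹)) ≤ _
      rw [← mul_assoc (r g)]
      refine (Submodule.finrank_mono (LinearMap.range_comp_le_range _ _)).trans ?_
      show Module.finrank k (LinearMap.range ((r g * r s).comp (π j))) ≤ _
      rw [LinearMap.range_comp]
      exact (Submodule.finrank_map_le _ _).trans ((hπr j).trans ha.ge)
    · rw [Finset.card_univ, ← Nat.card_eq_fintype_card, ← Subgroup.index, Subgroup.index_mul_card]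
  · have hsum : ∀ x : G ⧸ P, ∑ j, f j x = ρ (MonoidAlgebra.single (x.out * s * x.out⁻¹) 1) := by
      intro x
      have : ∀ j, f j x = r x.out * (r s * π j) * r x.out⁻¹ := fun j => by
        conv_lhs => rw [← x.out_eq]
        rfl
      simp only [this, ← Finset.sum_mul, ← Finset.mul_sum, hπs, mul_one, ← hr]
      rfl
    rw [show (∑ j, θ j) = (ci • ∑ x : G ⧸ P, ∑ j, f j x) * ↑w⁻¹ by
      simp only [θ, ← Finset.sum_mul, ← Finset.smul_sum]; rw [Finset.sum_comm]]
    have hidx0 : ((P.relIndex C : ℕ) : k) ≠ 0 := fun h => hidx ((CharP.cast_eq_zero_iff k p _).1 h)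
    simp only [hsum, ← map_sum]
    rw [sum_quotient_conj hPs, map_nsmul, ← Nat.cast_smul_eq_nsmul k, smul_smul,
      inv_mul_cancel₀ hidx0, one_smul, ← hw, Units.mul_inv]

/-- A summand of the group algebra is free over a `p`-subgroup. -/
theorem card_dvd_finrank {Q : Subgroup G} (hQ : IsPGroup p Q) {z : MonoidAlgebra k G}
    (hz : z * z = z) :
    Nat.card Q ∣ Module.finrank k (LinearMap.range (LinearMap.mulRight k z)) := by
  classical
  let sg : G → MonoidAlgebra k G := fun g => MonoidAlgebra.single g 1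
  have hsg : ∀ g h, sg (g * h) = sg g * sg h := fun g h => by
    simp [sg, MonoidAlgebra.single_mul_single]
  have hsg1 : sg 1 = 1 := by simp [sg, MonoidAlgebra.one_def]
  let R0 : Submodule k (MonoidAlgebra k G) :=
    Submodule.span k (Set.range fun x : Q × MonoidAlgebra k G => (sg (x.1 : G) - 1) * x.2)
  have hR0z : ∀ (z : MonoidAlgebra k G), ∀ x ∈ R0, x * z ∈ R0 := by
    intro z x hx
    induction hx using Submodule.span_induction with
    | mem y hy =>
      obtain ⟨⟨u, b⟩, rfl⟩ := hy
      exact Submodule.subset_span ⟨(u, b * z), (mul_assoc _ _ _).symm⟩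
    | zero => simp
    | add _ _ _ _ h1 h2 => rw [add_mul]; exact add_mem h1 h2
    | smul c _ _ h => rw [smul_mul_assoc]; exact R0.smul_mem c h
  -- the number of cosets bounds the coinvariants
  have htop : Module.finrank k (MonoidAlgebra k G ⧸ R0) ≤ Q.index := by
    haveI : Fintype (G ⧸ Q) := Fintype.ofFinite _
    have hspan : (⊤ : Submodule k (MonoidAlgebra k G ⧸ R0)) ≤
        Submodule.span k (Set.range fun c : G ⧸ Q => R0.mkQ (sg c.out⁻¹)) := by
      rintro x -
      obtain ⟨b, rfl⟩ := R0.mkQ_surjective x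
      rw [← sum_coeff_single' b, map_sum]
      refine Submodule.sum_mem _ fun g _ => ?_
      rw [map_smul]
      refine Submodule.smul_mem _ _ (Submodule.subset_span ⟨QuotientGroup.mk g⁻¹, ?_⟩)
      obtain ⟨u, hu⟩ := QuotientGroup.mk_out_eq_mul Q g⁻¹
      refine (Submodule.Quotient.eq R0).2 (Submodule.subset_span ⟨((u⁻¹ : Q), sg g), ?_⟩)
      show (sg ((u : G)⁻¹) - 1) * sg g = sg (QuotientGroup.mk g⁻¹ : G ⧸ Q).out⁻¹ - sg g
      rw [hu, _root_.mul_inv_rev, inv_inv, sub_mul, one_mul, hsg]
    have := (Submodule.finrank_mono hspan).trans (finrank_range_le_card _)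
    rwa [finrank_top, ← Nat.card_eq_fintype_card, ← Subgroup.index] at this
  -- one summand
  have key : ∀ z : MonoidAlgebra k G, z * z = z →
      Module.finrank k (LinearMap.range (LinearMap.mulRight k z)) ≤
        Module.finrank k ((LinearMap.range (LinearMap.mulRight k z)).map R0.mkQ) * Nat.card Q := by
    intro z hz
    set U := LinearMap.range (LinearMap.mulRight k z) with hU
    have hUz : ∀ {x}, x ∈ U → x * z = x := fun {x} hx => by
      obtain ⟨b, rfl⟩ := hx; rw [LinearMap.mulRight_apply, mul_assoc, hz]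
    have hUl : ∀ (a : MonoidAlgebra k G) {x}, x ∈ U → a * x ∈ U := fun a {x} hx => by
      obtain ⟨b, rfl⟩ := hx; exact ⟨a * b, by simp [mul_assoc]⟩
    let W := U.map R0.mkQ
    let bW := Module.finBasis k W
    choose u hu hub using fun l => (bW l).2
    let Ψ : (Fin (Module.finrank k W) × Q → k) →ₗ[k] MonoidAlgebra k G :=
      Fintype.linearCombination k fun x => sg (x.2 : G) * u x.1
    set T := LinearMap.range Ψ with hT
    have hTU : T ≤ U := by
      rw [hT]
      rintro _ ⟨c, rfl⟩
      simp only [Ψ, Fintype.linearCombination_apply]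
      exact Submodule.sum_mem _ fun x _ => U.smul_mem _ (hUl _ (hu _))
    have hTq : ∀ (v : Q), ∀ x ∈ T, sg (v : G) * x ∈ T := by
      rintro v _ ⟨c, rfl⟩
      simp only [Ψ, Fintype.linearCombination_apply, Finset.mul_sum, mul_smul_comm]
      refine Submodule.sum_mem _ fun x _ => Submodule.smul_mem _ _ ⟨Pi.single (x.1, v * x.2) 1, ?_⟩
      rw [Fintype.linearCombination_apply_single, one_smul, Subgroup.coe_mul, hsg, mul_assoc]
    suffices hUT : U ≤ T by
      refine (Submodule.finrank_mono hUT).trans ((LinearMap.finrank_range_le Ψ).trans ?_)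
      rw [Module.finrank_pi, Fintype.card_prod, Fintype.card_fin, Nat.card_eq_fintype_card]
    -- modulo the coinvariant kernel everything is in `T`
    have hmod : ∀ x ∈ U, ∃ t ∈ T, ∃ r ∈ R0, x = t + r * z := by
      intro x hx
      have hw : R0.mkQ x ∈ W := ⟨x, hx, rfl⟩
      let c := bW.repr ⟨_, hw⟩
      refine ⟨∑ l, c l • u l, Submodule.sum_mem _ fun l _ => Submodule.smul_mem _ _
        ⟨Pi.single (l, 1) 1, ?_⟩, x - ∑ l, c l • u l, ?_, ?_⟩
      · simp [Ψ, Fintype.linearCombination_apply_single, hsg1]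
      · rw [← Submodule.Quotient.mk_eq_zero, ← Submodule.mkQ_apply, map_sub, map_sum, sub_eq_zero]
        have := congrArg Subtype.val (bW.sum_repr ⟨_, hw⟩)
        simp only [AddSubmonoidClass.coe_finset_sum, SetLike.val_smul] at this
        simp only [map_smul, hub]
        exact this.symm
      · rw [sub_mul, hUz hx, Finset.sum_mul]
        simp only [smul_mul_assoc, hUz (hu _)]
        abel
    intro x hx
    by_contra hxT
    obtain ⟨φ, hφx, hφT⟩ := Submodule.exists_le_ker_of_notMem hxT
    -- functionals on `U` killing `T`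
    let act : Q → (U →ₗ[k] k) → (U →ₗ[k] k) := fun v ψ =>
      { toFun := fun y => ψ ⟨sg ((v⁻¹ : Q) : G) * y, hUl _ y.2⟩
        map_add' := fun y y' => by rw [← map_add]; congr 1; exact Subtype.ext (mul_add _ _ _)
        map_smul' := fun a y => by
          rw [RingHom.id_apply, ← map_smul]; congr 1; exact Subtype.ext (mul_smul_comm _ _ _) }
    have hact1 : ∀ ψ, act 1 ψ = ψ := fun ψ => LinearMap.ext fun y => by
      show ψ _ = ψ y
      congr 1
      exact Subtype.ext (by simp [hsg1])
    have hactmul : ∀ v v' ψ, act (v * v') ψ = act v (act v' ψ) := fun v v' ψ => LinearMap.ext fun y => by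
      show ψ _ = ψ _
      congr 1
      refine Subtype.ext ?_
      show sg (((v * v')⁻¹ : Q) : G) * _ = sg ((v'⁻¹ : Q) : G) * (sg ((v⁻¹ : Q) : G) * _)
      rw [← mul_assoc, ← hsg, ← Subgroup.coe_mul, ← mul_inv_rev]
    let ψ₀ : U →ₗ[k] k := φ ∘ₗ U.subtype
    let gen : (Q → ZMod p) →+ (U →ₗ[k] k) :=
      { toFun := fun c => ∑ v, ZMod.castHom (dvd_refl p) k (c v) • act v ψ₀
        map_zero' := by simp
        map_add' := fun a b => by simp [add_smul, Finset.sum_add_distrib] }
    let S := gen.range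
    have hSact : ∀ v, ∀ ψ ∈ S, act v ψ ∈ S := by
      rintro v _ ⟨c, rfl⟩
      refine ⟨fun v' => c (v⁻¹ * v'), ?_⟩
      show ∑ v', _ = act v (∑ v', _)
      have : ∀ (f : Q → (U →ₗ[k] k)), act v (∑ v', f v') = ∑ v', act v (f v') := fun f =>
        LinearMap.ext fun y => by simp [act]
      rw [this]
      refine Fintype.sum_equiv (Equiv.mulLeft v⁻¹) _ _ fun v' => ?_
      refine LinearMap.ext fun y => ?_
      simp only [Equiv.coe_mulLeft, LinearMap.smul_apply]
      show _ = ZMod.castHom (dvd_refl p) k (c (v⁻¹ * v')) • act v (act (v⁻¹ * v') ψ₀) y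
      rw [← hactmul, mul_inv_cancel_left]
    letI : MulAction Q S :=
      { smul := fun v ψ => ⟨act v ψ.1, hSact v _ ψ.2⟩
        one_smul := fun ψ => Subtype.ext (hact1 _)
        mul_smul := fun v v' ψ => Subtype.ext (hactmul v v' _) }
    have hψ₀S : ψ₀ ∈ S := ⟨Pi.single 1 1, by
      show ∑ v, _ = ψ₀
      rw [Finset.sum_eq_single 1]
      · simp [hact1]
      · intro v _ hv; simp [Pi.single_eq_of_ne hv]
      · simp⟩
    have hne : (⟨ψ₀, hψ₀S⟩ : S) ≠ 0 := fun h => hφx (by
      have := LinearMap.congr_fun (congrArg Subtype.val h) ⟨x, hx⟩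
      simpa [ψ₀] using this)
    have hcard : p ∣ Nat.card S := by
      obtain ⟨i, hi, hie⟩ := (Nat.dvd_prime_pow Fact.out).1
        ((AddSubgroup.card_range_dvd gen).trans (by
          rw [Nat.card_fun, Nat.card_zmod] : Nat.card (Q → ZMod p) ∣ p ^ Nat.card Q))
      rcases Nat.eq_zero_or_pos i with rfl | hpos
      · rw [pow_zero] at hie
        haveI : Subsingleton S := (Nat.card_eq_one_iff_unique.1 hie).1
        exact absurd (Subsingleton.elim _ _) hne
      · exact hie ▸ dvd_pow_self p hpos.ne'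
    have h0fix : (0 : S) ∈ MulAction.fixedPoints Q S := fun v => Subtype.ext
      (LinearMap.ext fun y => rfl)
    obtain ⟨⟨ψ, hψS⟩, hψfix, hψne⟩ :=
      hQ.exists_fixed_point_of_prime_dvd_card_of_fixed_point S hcard h0fix
    refine hψne (Subtype.ext (LinearMap.ext fun y => ?_))
    -- the fixed functional kills `T` and the coinvariant kernel
    have hψT : ∀ t (ht : t ∈ T), ψ ⟨t, hTU ht⟩ = 0 := by
      intro t ht
      obtain ⟨c, rfl⟩ := hψS
      show (∑ v, _ : U →ₗ[k] k) _ = 0
      rw [LinearMap.sum_apply]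
      refine Finset.sum_eq_zero fun v _ => ?_
      rw [LinearMap.smul_apply]
      show _ • φ (sg ((v⁻¹ : Q) : G) * t) = 0
      rw [LinearMap.mem_ker.1 (hφT (hTq _ t ht)), smul_zero]
    have hψR : ∀ r ∈ R0, ψ ⟨r * z, ⟨r, rfl⟩⟩ = 0 := by
      intro r hr
      induction hr using Submodule.span_induction with
      | mem y hy =>
        obtain ⟨⟨v, b⟩, rfl⟩ := hy
        have h := LinearMap.congr_fun (congrArg Subtype.val (hψfix v⁻¹))
          (⟨b * z, ⟨b, rfl⟩⟩ : U)
        change ψ ⟨sg (((v⁻¹)⁻¹ : Q) : G) * (b * z), _⟩ = ψ ⟨b * z, _⟩ at h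
        rw [show (⟨(sg (v : G) - 1) * b * z, ⟨_, rfl⟩⟩ : U) =
          ⟨sg (((v⁻¹)⁻¹ : Q) : G) * (b * z), hUl _ ⟨b, rfl⟩⟩ - ⟨b * z, ⟨b, rfl⟩⟩ from Subtype.ext (by
            simp [sub_mul, mul_assoc]), map_sub, h, sub_self]
      | zero => rw [show (⟨(0 : MonoidAlgebra k G) * z, ⟨0, rfl⟩⟩ : U) = 0 from
          Subtype.ext (zero_mul z), map_zero]
      | add a b _ _ h1 h2 =>
        rw [show (⟨(a + b) * z, ⟨a + b, rfl⟩⟩ : U) = ⟨a * z, ⟨a, rfl⟩⟩ + ⟨b * z, ⟨b, rfl⟩⟩ from
          Subtype.ext (add_mul a b z), map_add, h1, h2, add_zero]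
      | smul c a _ h =>
        rw [show (⟨(c • a) * z, ⟨c • a, rfl⟩⟩ : U) = c • ⟨a * z, ⟨a, rfl⟩⟩ from
          Subtype.ext (smul_mul_assoc c a z), map_smul, h, smul_zero]
    obtain ⟨y, hy⟩ := y
    obtain ⟨t, ht, r, hr, rfl⟩ := hmod y hy
    show 0 = ψ ⟨t + r * z, hy⟩
    rw [show (⟨t + r * z, hy⟩ : U) = ⟨t, hTU ht⟩ + ⟨r * z, ⟨r, rfl⟩⟩ from rfl, map_add, hψT t ht,
      hψR r hr, add_zero]
  have hz' : (1 - z) * (1 - z) = 1 - z := by simp [sub_mul, mul_sub, hz]
  set U := LinearMap.range (LinearMap.mulRight k z) with hU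
  set U' := LinearMap.range (LinearMap.mulRight k (1 - z)) with hU'
  have hdim : Module.finrank k U + Module.finrank k U' = Nat.card G := by
    rw [← finrank_groupAlgebra k, ← Submodule.finrank_sup_add_finrank_inf_eq]
    have h1 : U ⊔ U' = ⊤ := top_le_iff.1 fun x _ => Submodule.mem_sup.2
      ⟨x * z, ⟨x, rfl⟩, x * (1 - z), ⟨x, rfl⟩, by rw [← mul_add, add_sub_cancel, mul_one]⟩
    have h2 : U ⊓ U' = ⊥ := eq_bot_iff.2 fun x hx => by
      obtain ⟨⟨a, ha⟩, ⟨b, hb⟩⟩ := hx
      rw [LinearMap.mulRight_apply] at ha hb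
      have : x * z = x := by rw [← ha, mul_assoc, hz]
      rw [Submodule.mem_bot, ← this, ← hb, mul_assoc, sub_mul, one_mul, hz, sub_self, mul_zero]
    rw [h1, h2, finrank_top, finrank_bot, add_zero]
  have hle : Module.finrank k (U.map R0.mkQ) + Module.finrank k (U'.map R0.mkQ) ≤ Q.index := by
    refine le_trans ?_ ((Submodule.finrank_le (U.map R0.mkQ ⊔ U'.map R0.mkQ)).trans htop)
    rw [← Submodule.finrank_sup_add_finrank_inf_eq]
    have h2 : U.map R0.mkQ ⊓ U'.map R0.mkQ = ⊥ := eq_bot_iff.2 fun x hx => by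
      obtain ⟨⟨a, ha, rfl⟩, ⟨b, hb, hab⟩⟩ := hx
      rw [Submodule.mem_bot, Submodule.mkQ_apply, Submodule.Quotient.mk_eq_zero]
      have h := hR0z z _ ((Submodule.Quotient.eq R0).1 hab)
      obtain ⟨a0, rfl⟩ := ha
      obtain ⟨b0, rfl⟩ := hb
      simp only [LinearMap.mulRight_apply, sub_mul, mul_assoc, hz, one_mul, sub_self, mul_zero,
        zero_sub, neg_mem_iff] at h
      exact h
    rw [h2, finrank_bot, add_zero]
  have k1 : Module.finrank k U ≤ Module.finrank k (U.map R0.mkQ) * Nat.card Q := key z hz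
  have k2 : Module.finrank k U' ≤ Module.finrank k (U'.map R0.mkQ) * Nat.card Q :=
    key (1 - z) hz'
  have hQG := Q.index_mul_card
  refine ⟨Module.finrank k (U.map R0.mkQ), ?_⟩
  have := Nat.mul_le_mul_right (Nat.card Q) hle
  rw [add_mul] at this
  rw [mul_comm]
  omega

end Cfsg.Agent.BlockAlg
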