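/-
A block with cyclic defect group and one Brauer character has as many characters as elements
in the defect group.
-/
import Cfsg.Agent.Lib.BlockAlg.OneSimple
import Cfsg.Agent.Lib.BlockAlg.Corner
import Cfsg.Agent.Lib.BlockAlg.Pieces
import Cfsg.Agent.Lib.BrauerPairs.Bridge
import Cfsg.Agent.Lib.Blocks.SubsectionRow

set_option linter.unusedSectionVars false
set_option linter.style.haveILetI false

namespace Cfsg.Agent.BlockAlg

open Cfsg MonoidAlgebra Cfsg.Agent.Blocks Cfsg.Agent.BrauerPairs

universe u

variable {G : Type u} [Group G] [Fintype G] {p : ℕ} [Fact p.Prime] {M : Ideal AlgInt} [M.IsPrime]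

theorem not_dvd_relIndex_of_isSylowIn {P K : Subgroup G} (h : IsSylowIn p P K) :
    ¬ p ∣ P.relIndex K := by
  have hS : IsPGroup p (P.subgroupOf K) := h.pgroup.comap_of_injective _ Subtype.val_injective
  obtain ⟨S, hS'⟩ := hS.exists_le_sylow
  have hmap : (S : Subgroup K).map K.subtype = P := by
    refine h.max _ ?_ (Subgroup.map_subtype_le _) (S.2.map _)
    intro x hx
    exact ⟨⟨x, h.le hx⟩, hS' (Subgroup.mem_subgroupOf.2 hx), rfl⟩
  have hSP : (S : Subgroup K) = P.subgroupOf K := by
    rw [← hmap, Subgroup.subgroupOf, Subgroup.comap_map_eq_self_of_injective Subtype.val_injective]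
  rw [Subgroup.relIndex, ← hSP]
  exact S.not_dvd_index

/-- A block of rank one with commutative corner has at least as many characters as the
defect group has elements. -/
theorem card_defect_le_of_comm (hM : IsPModular p M) {B : Set (IrrCharacter G)} (hB : IsPBlock M B)
    (hl : blockRank p B = 1) {P : Subgroup G} (hPD : IsDefectGroup p M B P) {f : ℕ} (hf : 0 < f)
    {D : CornerData (resField M) (MonoidAlgebra (resField M) G) f} (hDe : D.e = Ek M B)
    (φc : Frame D) (hcm : ∀ a ∈ φc.A, ∀ b ∈ φc.A, a * b = b * a) :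
    Nat.card P ≤ Nat.card B := by
  classical
  haveI : CharP (resField M) p := resField_charP hM
  obtain ⟨c, hcc, hce, hcli, hdimU, hdimB⟩ := dims_of_comm φc hcm
  rw [hDe] at hdimB hce
  set z := φc.z
  have hz : z * z = z := φc.hz
  obtain ⟨N, hN'⟩ : ∃ N, Module.finrank (resField M) φc.A = N := ⟨_, rfl⟩
  revert c
  rw [hN'] at hdimU ⊢
  intro c hcc hce hcli
  -- at most the number of characters
  have hNk : N ≤ Nat.card B := by
    have h := card_le_of_central_indep hB c (fun j g x => ?_) hce hcli
    · simpa using h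
    · have h1 := hcc j (MonoidAlgebra.single x 1)
      have h2 := congrArg (fun y : MonoidAlgebra (resField M) G => y.coeff (x * g)) h1
      simp only [coeff_mul_univ] at h2
      rw [Finset.sum_eq_single x (fun b _ hb => by simp [hb, Ne.symm hb]) (by simp),
        Finset.sum_eq_single (x * g * x⁻¹) (fun b _ hb => ?_) (by simp)] at h2
      · simpa [mul_assoc] using h2.symm
      · rw [MonoidAlgebra.coeff_single, Finsupp.single_apply, if_neg, mul_zero]
        intro e
        have : b * x = x * g := by conv_lhs => rw [e, mul_inv_cancel_left]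
        exact hb (eq_mul_inv_of_mul_eq this)
  -- the sum of the squares of the degrees
  have hS : f * (f * N) = ∑ χ ∈ Finset.univ.filter (· ∈ B), charDegree (χ : G → ℂ) ^ 2 := by
    rw [← hdimU, ← hdimB]
    exact finrank_range_mulRight_Ek hB
  obtain ⟨φ, d, -, hd, hdsum⟩ := exists_cartan_rank_one hM hB hl
  obtain ⟨χ₀, hχ₀, h0⟩ := exists_heightZero hM hB
  rw [finsum_mem_eq_finite_toFinset_sum _ (Set.toFinite B),
    show (Set.toFinite B).toFinset = Finset.univ.filter (· ∈ B) from by ext; simp] at hdsum
  have hone : IsPRegular p (1 : G) := by simp [IsPRegular, hM.1.ne_one]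
  have hdeg : ∀ χ ∈ B, charDegree (χ : G → ℂ) * d χ₀ = d χ * charDegree (χ₀ : G → ℂ) := by
    intro χ hχ
    have e1 := hd χ hχ 1 hone
    have e2 := hd χ₀ hχ₀ 1 hone
    rw [irr_one_eq_charDegree] at e1 e2
    rw [← Nat.cast_inj (R := ℂ)]
    push_cast
    rw [e1, e2]; ring
  have hid : (f * (f * N)) * d χ₀ ^ 2 = p ^ blockDefect p B * charDegree (χ₀ : G → ℂ) ^ 2 := by
    rw [hS, ← hdsum, Finset.sum_mul, Finset.sum_mul]
    refine Finset.sum_congr rfl fun χ hχ => ?_
    rw [← mul_pow, hdeg χ (Finset.mem_filter.1 hχ).2, mul_pow]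
  have hd0 : d χ₀ ≠ 0 := fun h => by
    have := hd χ₀ hχ₀ 1 hone
    rw [h] at this
    exact irr_one_ne_zero χ₀ (by simpa using this)
  have hdeg0 := degExp_eq_add_height hM hB hχ₀
  rw [h0] at hdeg0
  have hdle := blockDefect_le (p := p) B
  set a := (Nat.card G).factorization p
  -- divisibility from projectivity
  obtain ⟨Q⟩ := (inferInstance : Nonempty (Sylow p G))
  have hQ : Nat.card (Q : Subgroup G) = p ^ a := Q.card_eq_multiplicity
  have hdvd : p ^ a ∣ f * N := by
    rw [← hQ, ← hdimU]
    exact card_dvd_finrank Q.2 hz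
  rcases Nat.eq_zero_or_pos N with rfl | hN
  · exfalso
    have hpos : 0 < p ^ blockDefect p B * charDegree (χ₀ : G → ℂ) ^ 2 :=
      Nat.mul_pos (pow_pos hM.1.pos _) (pow_pos (charDegree_pos χ₀) _)
    simp at hid
    rcases hid with h | h
    · exact hM.1.ne_zero h.1
    · exact (charDegree_pos χ₀).ne' h
  have hfN : f * N ≠ 0 := (Nat.mul_pos hf hN).ne'
  have hv1 : a ≤ (f * N).factorization p := (hM.1.pow_dvd_iff_le_factorization hfN).1 hdvd
  rw [Nat.factorization_mul hf.ne' hN.ne', Finsupp.add_apply] at hv1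
  have hv2 := congrArg (fun m : ℕ => m.factorization p) hid
  simp only [Nat.factorization_mul (Nat.mul_ne_zero hf.ne' hfN) (pow_ne_zero 2 hd0),
    Nat.factorization_mul hf.ne' hfN, Nat.factorization_mul hf.ne' hN.ne',
    Nat.factorization_mul (pow_ne_zero _ hM.1.ne_zero) (pow_ne_zero 2 (charDegree_pos χ₀).ne'),
    Nat.factorization_pow, hM.1.factorization_pow, Finsupp.add_apply, Finsupp.smul_apply,
    Finsupp.single_eq_same, smul_eq_mul] at hv2
  have hvN : blockDefect p B ≤ N.factorization p := by
    omega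
  rw [card_defectGroup hM hB hPD]
  refine le_trans ?_ hNk
  exact Nat.le_of_dvd hN ((hM.1.pow_dvd_iff_le_factorization hN.ne').2 hvN)

/-- A block of rank one with cyclic defect group has at least as many characters as the
defect group has elements. -/
theorem card_defect_le_card (hM : IsPModular p M) {B : Set (IrrCharacter G)} (hB : IsPBlock M B)
    (hl : blockRank p B = 1) {P : Subgroup G} (hPD : IsDefectGroup p M B P) (hcyc : IsCyclic P) :
    Nat.card P ≤ Nat.card B := by
  classical
  haveI : CharP (resField M) p := resField_charP hM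
  obtain ⟨t, -, -, hlam, hsyl⟩ := (isDefectGroup_iff hB P).1 hPD
  rw [top_inf_eq] at hsyl
  have hcl : InZ (⊤ : Subgroup G) (classSum (resField M) t) :=
    isClassElt_iff_inZ_top.2 (isClassElt_gaOfFun fun x h => by
      simp only [Set.indicator, Pi.one_apply]
      exact if_congr (isConj_conj_iff t x h) rfl rfl)
  have hK := lam_spec (isBlk_Ek hB) hcl
  rw [← classSumIn_top] at hK
  rw [classSumIn_top] at hlam hK
  obtain ⟨f, F, hf, hFs, hFe, J, n, hJ, hker⟩ := exists_surjective_rep hM hB hl
  let D : CornerData (resField M) (MonoidAlgebra (resField M) G) f :=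
    { e := Ek M B
      e_idem := Ek_idem hB
      e_comm := fun b => IsClassElt.comm (isClassElt_Ek B) b
      F := F
      F_surj := hFs
      F_e := hFe
      J := J
      nJ := n
      J_pow := hJ
      ker_le := hker }
  obtain ⟨φ⟩ := exists_frame_exact hf D
  exact card_defect_le_of_comm hM hB hl hPD hf rfl φ (comm_of_rad_le_one φ
    (rad_le_one_of_bounded hf φ (bd := Nat.card G) fun m ρ hρ => exists_bounded_pieces hsyl.pgroup
      hcyc hsyl.le (not_dvd_relIndex_of_isSylowIn hsyl) hlam hK ρ hρ))

end Cfsg.Agent.BlockAlg
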