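/-
Local symmetric algebras whose commutator space has codimension at most four are commutative.
-/
import Cfsg.Agent.Lib.BlockAlg.Corner
import Mathlib.LinearAlgebra.Dual.Lemmas

set_option linter.unusedSectionVars false
set_option linter.style.haveILetI false

namespace Cfsg.Agent.BlockAlg

variable {k : Type*} [Field k] {R : Type*} [Ring R] [Algebra k R] [FiniteDimensional k R]

theorem finrank_map_mkQ_add {V : Type*} [AddCommGroup V] [Module k V] [FiniteDimensional k V]
    (A C : Submodule k V) :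
    Module.finrank k (A.map C.mkQ) + Module.finrank k (A ⊓ C : Submodule k V) =
      Module.finrank k A := by
  have h := LinearMap.finrank_range_add_finrank_ker (C.mkQ ∘ₗ A.subtype)
  rw [LinearMap.range_comp, Submodule.range_subtype] at h
  have e : Module.finrank k (LinearMap.ker (C.mkQ ∘ₗ A.subtype)) =
      Module.finrank k (A ⊓ C : Submodule k V) := by
    rw [LinearMap.ker_comp, Submodule.ker_mkQ, ← Submodule.map_comap_subtype,
      Submodule.finrank_map_subtype_eq]
  rw [e] at h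
  exact h

/-- The eight relations of a small local algebra force vanishing. -/
theorem relations_vanish {V : Type*} [AddCommGroup V] [Module k V] {α β γ : k} {X1 X2 Y1 Y2 : V}
    (e1 : γ • X2 = (γ - 1) • X1) (e2 : (γ - 1) • Y2 = γ • Y1) (e3 : α • X1 = α • X2)
    (e4 : α • Y2 = γ • X1) (e5 : (γ - 1) • X2 = α • Y1) (e6 : β • X2 = (γ - 1) • Y1)
    (e7 : γ • Y2 = β • X1) (e8 : β • Y1 = β • Y2) : X1 = 0 ∧ Y1 = 0 := by
  rcases eq_or_ne α 0 with hα | hα
  · subst hα
    simp only [zero_smul] at e4 e5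
    rcases eq_or_ne β 0 with hβ | hβ
    · subst hβ
      simp only [zero_smul] at e6 e7
      refine ⟨?_, ?_⟩
      · rw [sub_smul, one_smul, ← e4, zero_sub] at e1
        rcases eq_or_ne γ 0 with hγ | hγ
        · rw [hγ, zero_smul, eq_comm, neg_eq_zero] at e1; exact e1
        · exact (smul_eq_zero.1 e4.symm).resolve_left hγ
      · rcases eq_or_ne (γ - 1) 0 with hγ | hγ
        · rw [hγ, zero_smul, sub_eq_zero.1 hγ, one_smul] at e2; exact e2.symm
        · exact (smul_eq_zero.1 e6.symm).resolve_left hγ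
    · have hY : Y1 = Y2 := smul_right_injective V hβ e8
      rw [← hY, sub_smul, one_smul, sub_eq_self] at e2
      rw [← hY, e2, smul_zero] at e7
      exact ⟨(smul_eq_zero.1 e7.symm).resolve_left hβ, e2⟩
  · have hX : X1 = X2 := smul_right_injective V hα e3
    rw [← hX, sub_smul, one_smul, eq_comm, sub_eq_self] at e1
    rw [← hX, e1, smul_zero] at e5
    exact ⟨e1, (smul_eq_zero.1 e5.symm).resolve_left hα⟩

namespace Frame

variable {f : ℕ} {D : CornerData k R f} (φ : Frame D)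

/-- The commutator space of the corner. -/
def comm : Submodule k R :=
  Submodule.span k {x | ∃ a ∈ φ.A, ∃ b ∈ φ.A, a * b - b * a = x}

end Frame

/-- A symmetric corner with small commutator quotient is commutative. -/
theorem comm_of_small {f : ℕ} {D : CornerData k R f} (φ : Frame D) (τ : R →ₗ[k] k)
    (hτ : ∀ x y, τ (x * y) = τ (y * x)) (hnd : ∀ a, (∀ x, τ (x * a) = 0) → a = 0)
    (hW : Module.finrank k (φ.A.map φ.comm.mkQ) ≤ 4) :
    ∀ a ∈ φ.A, ∀ b ∈ φ.A, a * b = b * a := by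
  classical
  set N := φ.N with hN
  set C := φ.comm with hCdef
  have hCN : C ≤ N * N := Submodule.span_le.2 (by
    rintro _ ⟨a, ha, b, hb, rfl⟩
    have e : a * b - b * a = (a - φ.eps a • φ.z) * (b - φ.eps b • φ.z) -
        (b - φ.eps b • φ.z) * (a - φ.eps a • φ.z) := by
      simp only [sub_mul, mul_sub, smul_mul_assoc, mul_smul_comm, φ.left_id ha, φ.left_id hb,
        φ.right_id ha, φ.right_id hb, φ.hz]
      module
    rw [SetLike.mem_coe, e]
    exact sub_mem (Submodule.mul_mem_mul (φ.subN ha) (φ.subN hb))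
      (Submodule.mul_mem_mul (φ.subN hb) (φ.subN ha)))
  have hNA : N ≤ φ.A := inf_le_left
  have hNNA : N * N ≤ φ.A := φ.N_mul_le.trans hNA
  have hτC : ∀ x ∈ C, τ x = 0 := fun x hx => by
    induction hx using Submodule.span_induction with
    | mem y hy => obtain ⟨a, -, b, -, rfl⟩ := hy; rw [map_sub, hτ, sub_self]
    | zero => simp
    | add _ _ _ _ h1 h2 => rw [map_add, h1, h2, add_zero]
    | smul c _ _ h => rw [map_smul, h, smul_zero]
  have hτA : ∀ a ∈ φ.A, ∀ x, τ (x * a) = τ (φ.z * x * φ.z * a) := fun a ha x => by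
    conv_lhs => rw [← φ.memA.1 ha, hτ]
    rw [show φ.z * a * φ.z * x = φ.z * (a * (φ.z * x)) by simp only [mul_assoc], hτ,
      show a * (φ.z * x) * φ.z = a * (φ.z * x * φ.z) by simp only [mul_assoc], hτ]
  have hideal : ∀ I : Submodule k R, I ≤ C → (∀ y ∈ φ.A, ∀ s ∈ I, y * s ∈ I) → I = ⊥ := by
    intro I hI hAI
    refine (Submodule.eq_bot_iff _).2 fun s hs => hnd s fun x => ?_
    rw [hτA s (hNNA (hCN (hI hs)))]
    exact hτC _ (hI (hAI _ (φ.memA.2 (by simp only [← mul_assoc, φ.hz]; simp only [mul_assoc, φ.hz]))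
      s hs))
  have hNpow : ∀ j, 1 ≤ j → ∀ y ∈ φ.A, ∀ s ∈ N ^ j, y * s ∈ N ^ j := by
    intro j hj y hy s hs
    obtain ⟨i, rfl⟩ := Nat.exists_eq_add_of_le hj
    rw [pow_add, pow_one] at hs ⊢
    induction hs using Submodule.mul_induction_on' with
    | mem_mul_mem m hm n hn =>
      rw [← mul_assoc]
      exact Submodule.mul_mem_mul (φ.memN.2 ⟨φ.mulA hy (φ.memN.1 hm).1, by
        rw [map_mul, (φ.memN.1 hm).2, mul_zero]⟩) hn
    | add _ _ _ _ h1 h2 => rw [mul_add]; exact add_mem h1 h2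
  have hN3 : N ^ 3 = ⊥ → ∀ a ∈ φ.A, ∀ b ∈ φ.A, a * b = b * a := by
    intro h3 a ha b hb
    have hs : a * b - b * a ∈ C := Submodule.subset_span ⟨a, ha, b, hb, rfl⟩
    rw [← sub_eq_zero]
    refine hnd _ fun x => ?_
    rw [hτA _ (hNNA (hCN hs))]
    set y := φ.z * x * φ.z with hy
    have hyA : y ∈ φ.A := φ.memA.2 (by
      simp only [hy, ← mul_assoc, φ.hz]; simp only [mul_assoc, φ.hz])
    have h0 : (y - φ.eps y • φ.z) * (a * b - b * a) = 0 := by
      have := Submodule.mul_mem_mul (φ.subN hyA) (hCN hs)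
      rw [← hN, ← mul_assoc, ← pow_two, ← pow_succ, h3, Submodule.mem_bot] at this
      exact this
    rw [sub_mul, sub_eq_zero, smul_mul_assoc, φ.left_id (hNNA (hCN hs))] at h0
    rw [h0, map_smul, hτC _ hs, smul_zero]
  have hle3 : N ^ 3 ≤ C → N ^ 3 = ⊥ := fun h => hideal _ h (hNpow 3 (by omega))
  -- dimensions
  set L := (k ∙ φ.z) ⊔ N * N with hL
  have hzN : ∀ c : k, c • φ.z ∈ N → c = 0 := fun c hc => by
    have := (φ.memN.1 hc).2
    rw [map_smul, φ.hFz] at this
    simpa using congrArg (fun X : Matrix (Fin f) (Fin f) k => X φ.o φ.o) this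
  have hNL : N ⊓ L = N * N := by
    refine le_antisymm (fun x hx => ?_) (le_inf φ.N_mul_le le_sup_right)
    obtain ⟨_, hc, r, hr, rfl⟩ := Submodule.mem_sup.1 hx.2
    obtain ⟨c, rfl⟩ := Submodule.mem_span_singleton.1 hc
    have : c • φ.z ∈ N := by
      have := sub_mem hx.1 (φ.N_mul_le hr); rwa [add_sub_cancel_right] at this
    rw [hzN c this, zero_smul, zero_add]; exact hr
  have hd : Module.finrank k (N.map L.mkQ) + Module.finrank k (N * N : Submodule k R) =
      Module.finrank k N := by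
    rw [← hNL]; exact finrank_map_mkQ_add N L
  have hWC : Module.finrank k (φ.A.map C.mkQ) + Module.finrank k C = Module.finrank k φ.A := by
    have := finrank_map_mkQ_add φ.A C
    rwa [inf_eq_right.2 (hCN.trans hNNA)] at this
  have hA1 : Module.finrank k N < Module.finrank k φ.A :=
    Submodule.finrank_lt_finrank_of_lt (lt_of_le_of_ne hNA fun h => by
      have := hzN 1 (by rw [one_smul, h]; exact φ.zA)
      exact one_ne_zero this)
  rcases Nat.lt_or_ge (Module.finrank k (N.map L.mkQ)) 2 with h2 | h2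
  · refine comm_of_rad_le_one φ ?_
    rw [← hN]
    exact Nat.le_of_lt_succ h2
  have hCle := Submodule.finrank_mono hCN
  rcases Nat.lt_or_ge (Module.finrank k C) (Module.finrank k (N * N : Submodule k R)) with hlt | hge
  swap
  · refine hN3 (hle3 ?_)
    rw [Submodule.eq_of_le_of_finrank_le hCN hge, pow_succ, pow_two]
    exact mul_le_mul' φ.N_mul_le le_rfl
  have hd2 : Module.finrank k (N.map L.mkQ) = 2 := by omega
  by_cases h3C : N ^ 3 ≤ C
  · exact hN3 (hle3 h3C)
  have hN32 : N ^ 3 ≤ N * N := by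
    rw [pow_succ, pow_two]; exact mul_le_mul' φ.N_mul_le le_rfl
  have hNN : N * N ≤ C ⊔ N ^ 3 := by
    refine (Submodule.eq_of_le_of_finrank_le (sup_le hCN hN32) ?_).ge
    have := Submodule.finrank_lt_finrank_of_lt
      (lt_of_le_of_ne (le_sup_left : C ≤ C ⊔ N ^ 3) fun h => h3C (le_sup_right.trans h.ge))
    omega
  -- two generators
  let bas := Module.finBasisOfFinrankEq k (N.map L.mkQ) hd2
  choose g hg hgb using fun j => (bas j).2
  have hgen : ∀ x ∈ N, ∃ α β : k, x - (α • g 0 + β • g 1) ∈ N * N := by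
    intro x hx
    refine ⟨bas.repr ⟨_, x, hx, rfl⟩ 0, bas.repr ⟨_, x, hx, rfl⟩ 1, hNL.le ⟨?_, ?_⟩⟩
    · exact sub_mem hx (add_mem (N.smul_mem _ (hg 0)) (N.smul_mem _ (hg 1)))
    · refine (Submodule.Quotient.eq L).1 ?_
      have h := congrArg Subtype.val (bas.sum_repr ⟨_, x, hx, rfl⟩)
      rw [Fin.sum_univ_two, Submodule.coe_add, SetLike.val_smul, SetLike.val_smul, ← hgb, ← hgb,
        ← map_smul, ← map_smul, ← map_add] at h
      exact h.symm
  set a := g 0
  set b := g 1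
  set c := a * b - b * a with hc
  have hpow3 : ∀ {x y}, x ∈ N → y ∈ N * N → x * y ∈ N ^ 3 ∧ y * x ∈ N ^ 3 := fun {x y} hx hy => by
    refine ⟨?_, ?_⟩
    · rw [pow_succ', pow_two]; exact Submodule.mul_mem_mul hx hy
    · rw [pow_succ, pow_two]; exact Submodule.mul_mem_mul hy hx
  have hCc : C ≤ (k ∙ c) ⊔ N ^ 3 := Submodule.span_le.2 (by
    rintro _ ⟨x, hx, y, hy, rfl⟩
    obtain ⟨x1, x2, hx'⟩ := hgen _ (φ.subN hx)
    obtain ⟨y1, y2, hy'⟩ := hgen _ (φ.subN hy)
    set x0 := x - φ.eps x • φ.z - (x1 • a + x2 • b) with hx0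
    set y0 := y - φ.eps y • φ.z - (y1 • a + y2 • b) with hy0
    have hga : x1 • a + x2 • b ∈ N := add_mem (N.smul_mem _ (hg 0)) (N.smul_mem _ (hg 1))
    have hgb' : y1 • a + y2 • b ∈ N := add_mem (N.smul_mem _ (hg 0)) (N.smul_mem _ (hg 1))
    have e : x * y - y * x = (x1 * y2 - x2 * y1) • c +
        ((x1 • a + x2 • b) * y0 - y0 * (x1 • a + x2 • b) +
          (x0 * (y - φ.eps y • φ.z) - (y - φ.eps y • φ.z) * x0)) := by
      have e0 : x * y - y * x = (x - φ.eps x • φ.z) * (y - φ.eps y • φ.z) -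
          (y - φ.eps y • φ.z) * (x - φ.eps x • φ.z) := by
        simp only [sub_mul, mul_sub, smul_mul_assoc, mul_smul_comm, φ.left_id hx, φ.left_id hy,
          φ.right_id hx, φ.right_id hy, φ.hz]
        module
      rw [e0, show x - φ.eps x • φ.z = (x1 • a + x2 • b) + x0 by rw [hx0]; abel,
        show y - φ.eps y • φ.z = (y1 • a + y2 • b) + y0 by rw [hy0]; abel, hc]
      simp only [add_mul, mul_add, smul_mul_assoc, mul_smul_comm, smul_sub, sub_smul]
      module
    rw [SetLike.mem_coe, e]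
    refine add_mem (Submodule.mem_sup_left (Submodule.mem_span_singleton.2 ⟨_, rfl⟩))
      (Submodule.mem_sup_right ?_)
    exact add_mem (sub_mem (hpow3 hga hy').1 (hpow3 hga hy').2)
      (sub_mem (hpow3 (φ.subN hy) hx').2 (hpow3 (φ.subN hy) hx').1))
  have hNc : N * N ≤ (k ∙ c) ⊔ N ^ 3 := hNN.trans (sup_le hCc le_sup_right)
  have hmem : ∀ {x y}, x ∈ N → y ∈ N → ∃ α : k, x * y - α • c ∈ N ^ 3 := fun {x y} hx hy => by
    obtain ⟨_, hc', r, hr, e⟩ := Submodule.mem_sup.1 (hNc (Submodule.mul_mem_mul hx hy))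
    obtain ⟨α, rfl⟩ := Submodule.mem_span_singleton.1 hc'
    exact ⟨α, by rw [← e, add_sub_cancel_left]; exact hr⟩
  obtain ⟨α, hα⟩ := hmem (hg 0) (hg 0)
  obtain ⟨β, hβ⟩ := hmem (hg 1) (hg 1)
  obtain ⟨γ, hγ⟩ := hmem (hg 0) (hg 1)
  have hγ' : b * a - (γ - 1) • c ∈ N ^ 3 := by
    rw [show b * a - (γ - 1) • c = a * b - γ • c by rw [hc, sub_smul, one_smul]; abel]
    exact hγ
  let π := (N ^ 4).mkQ
  have hl : ∀ {x y w : R} {s : k}, x ∈ N → y * w - s • c ∈ N ^ 3 →
      π (x * (y * w)) = s • π (x * c) := fun {x y w s} hx hr => by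
    rw [← map_smul, ← mul_smul_comm]
    refine (Submodule.Quotient.eq _).2 ?_
    rw [← mul_sub, pow_succ' _ 3]
    exact Submodule.mul_mem_mul hx hr
  have hr' : ∀ {x y w : R} {s : k}, x ∈ N → y * w - s • c ∈ N ^ 3 →
      π (y * w * x) = s • π (c * x) := fun {x y w s} hx hr => by
    rw [← map_smul, ← smul_mul_assoc]
    refine (Submodule.Quotient.eq _).2 ?_
    rw [← sub_mul, pow_succ _ 3]
    exact Submodule.mul_mem_mul hr hx
  have e1 : γ • π (c * a) = (γ - 1) • π (a * c) := by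
    rw [← hr' (hg 0) hγ, ← hl (hg 0) hγ', mul_assoc]
  have e2 : (γ - 1) • π (c * b) = γ • π (b * c) := by
    rw [← hr' (hg 1) hγ', ← hl (hg 1) hγ, mul_assoc]
  have e3 : α • π (a * c) = α • π (c * a) := by
    rw [← hl (hg 0) hα, ← hr' (hg 0) hα, mul_assoc]
  have e4 : α • π (c * b) = γ • π (a * c) := by
    rw [← hr' (hg 1) hα, ← hl (hg 0) hγ, mul_assoc]
  have e5 : (γ - 1) • π (c * a) = α • π (b * c) := by
    rw [← hr' (hg 0) hγ', ← hl (hg 1) hα, mul_assoc]
  have e6 : β • π (c * a) = (γ - 1) • π (b * c) := by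
    rw [← hr' (hg 0) hβ, ← hl (hg 1) hγ', mul_assoc]
  have e7 : γ • π (c * b) = β • π (a * c) := by
    rw [← hr' (hg 1) hγ, ← hl (hg 0) hβ, mul_assoc]
  have e8 : β • π (b * c) = β • π (c * b) := by
    rw [← hl (hg 1) hβ, ← hr' (hg 1) hβ, mul_assoc]
  obtain ⟨hac, hbc⟩ := relations_vanish e1 e2 e3 e4 e5 e6 e7 e8
  rw [Submodule.mkQ_apply, Submodule.Quotient.mk_eq_zero] at hac hbc
  have h34 : N ^ 3 ≤ N ^ 4 := by
    rw [pow_succ', pow_two, Submodule.mul_le]
    intro x hx y hy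
    obtain ⟨_, hc', r, hr, rfl⟩ := Submodule.mem_sup.1 (hNc hy)
    obtain ⟨s, rfl⟩ := Submodule.mem_span_singleton.1 hc'
    rw [mul_add, mul_smul_comm]
    refine add_mem (Submodule.smul_mem _ _ ?_) ?_
    · obtain ⟨x1, x2, hx'⟩ := hgen x hx
      have e : x * c = (x1 • (a * c) + x2 • (b * c)) + (x - (x1 • a + x2 • b)) * c := by
        simp only [sub_mul, add_mul, smul_mul_assoc]; abel
      rw [e]
      refine add_mem (add_mem (Submodule.smul_mem _ _ hac) (Submodule.smul_mem _ _ hbc)) ?_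
      rw [show (4 : ℕ) = 2 + 2 from rfl, pow_add, pow_two]
      exact Submodule.mul_mem_mul hx'
        (sub_mem (Submodule.mul_mem_mul (hg 0) (hg 1)) (Submodule.mul_mem_mul (hg 1) (hg 0)))
    · rw [show (4 : ℕ) = 3 + 1 from rfl, pow_succ']
      exact Submodule.mul_mem_mul hx hr
  have hbot : ∀ j, N ^ 3 ≤ N ^ (3 + j) := by
    intro j
    induction j with
    | zero => exact le_rfl
    | succ j ih =>
      refine ih.trans ?_
      rw [show 3 + (j + 1) = j + 4 by omega, show 3 + j = j + 3 by omega, pow_add, pow_add]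
      exact mul_le_mul' le_rfl h34
  refine hN3 (eq_bot_iff.2 ?_)
  refine (hbot (D.nJ + 1)).trans ?_
  rw [pow_add, φ.N_pow_eq_bot, Submodule.mul_bot]

end Cfsg.Agent.BlockAlg
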