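/-
Blocks with one Brauer character and at most four characters.
-/
import Cfsg.Agent.Lib.BlockAlg.CyclicRankOne
import Cfsg.Agent.Lib.BlockAlg.SmallCenter

set_option linter.unusedSectionVars false
set_option linter.style.haveILetI false

namespace Cfsg.Agent.BlockAlg

open Cfsg MonoidAlgebra Cfsg.Agent.Blocks Cfsg.Agent.BrauerPairs

universe u

variable {G : Type u} [Group G] [Fintype G] {p : ℕ} [Fact p.Prime] {M : Ideal AlgInt} [M.IsPrime]

/-- The commutator quotient of the corner is at most the number of characters. -/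
theorem finrank_corner_quotient_le {B : Set (IrrCharacter G)} (hB : IsPBlock M B) {f : ℕ}
    {D : CornerData (resField M) (MonoidAlgebra (resField M) G) f} (hDe : D.e = Ek M B)
    (φ : Frame D) :
    Module.finrank (resField M) (φ.A.map φ.comm.mkQ) ≤ Nat.card B := by
  classical
  let k := resField M
  set W := φ.A.map φ.comm.mkQ
  let bW := Module.finBasis k W
  choose a ha hab using fun j => (bW j).2
  obtain ⟨g, hg⟩ := W.subtype.exists_leftInverse_of_injective W.ker_subtype
  let δ : Fin (Module.finrank k W) → MonoidAlgebra k G →ₗ[k] k := fun j =>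
    bW.coord j ∘ₗ g ∘ₗ φ.comm.mkQ
  have hδa : ∀ i j, δ i (a j) = if j = i then 1 else 0 := fun i j => by
    have h : g (φ.comm.mkQ (a j)) = bW j := by
      rw [hab]; exact LinearMap.congr_fun hg (bW j)
    show bW.coord i (g (φ.comm.mkQ (a j))) = _
    rw [h, Module.Basis.coord_apply, Module.Basis.repr_self, Finsupp.single_apply]
  have hδc : ∀ i, ∀ x ∈ φ.A, ∀ y ∈ φ.A, δ i (x * y) = δ i (y * x) := fun i x hx y hy => by
    have : φ.comm.mkQ (x * y) = φ.comm.mkQ (y * x) :=
      (Submodule.Quotient.eq _).2 (Submodule.subset_span ⟨x, hx, y, hy, rfl⟩)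
    simp only [δ, LinearMap.comp_apply, this]
  let Φ : Fin (Module.finrank k W) → MonoidAlgebra k G →ₗ[k] k := fun i =>
    ∑ l, δ i ∘ₗ LinearMap.mulLeft k (φ.v l) ∘ₗ LinearMap.mulRight k (φ.u l)
  have hΦ : ∀ i x, Φ i x = ∑ l, δ i (φ.v l * x * φ.u l) := fun i x => by
    simp [Φ, mul_assoc]
  have hins : ∀ l x y, φ.v l * (x * y) * φ.u l = ∑ j, (φ.v l * x * φ.u j) * (φ.v j * y * φ.u l) := by
    intro l x y
    calc φ.v l * (x * y) * φ.u l = φ.v l * x * D.e * (y * φ.u l) := by
          rw [mul_assoc (φ.v l) x D.e, ← D.e_comm x, ← mul_assoc (φ.v l) D.e, (φ.hv l).2.1]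
          simp only [mul_assoc]
      _ = _ := by rw [← φ.huv]; simp only [Finset.mul_sum, Finset.sum_mul, mul_assoc]
  have htr : ∀ i x y, Φ i (x * y) = Φ i (y * x) := by
    intro i x y
    simp only [hΦ, hins, map_sum]
    rw [Finset.sum_comm]
    exact Finset.sum_congr rfl fun j _ => Finset.sum_congr rfl fun l _ =>
      hδc i _ (φ.sandwich x l j) _ (φ.sandwich y j l)
  have hΦe : ∀ i x, Φ i (x * D.e) = Φ i x := by
    intro i x
    simp only [hΦ]
    refine Finset.sum_congr rfl fun l _ => ?_
    rw [← mul_assoc, mul_assoc (φ.v l * x), D.e_comm, (φ.hu l).2.1]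
  have hΦa : ∀ i j, Φ i (φ.u φ.o * a j * φ.v φ.o) = if j = i then 1 else 0 := by
    intro i j
    rw [hΦ, Finset.sum_eq_single φ.o, ← hδa]
    · congr 1
      rw [show φ.v φ.o * (φ.u φ.o * a j * φ.v φ.o) * φ.u φ.o =
        φ.v φ.o * φ.u φ.o * a j * (φ.v φ.o * φ.u φ.o) by simp only [mul_assoc], φ.hP, if_pos rfl,
        φ.left_id (ha j), φ.right_id (ha j)]
    · intro l _ hl
      rw [show φ.v l * (φ.u φ.o * a j * φ.v φ.o) * φ.u l =
        φ.v l * φ.u φ.o * a j * (φ.v φ.o * φ.u l) by simp only [mul_assoc], φ.hP, if_neg hl,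
        zero_mul, zero_mul, map_zero]
    · simp
  let w : Fin (Module.finrank k W) → MonoidAlgebra k G := fun i =>
    gaOfFun fun x => Φ i (MonoidAlgebra.single x⁻¹ 1)
  have hw : ∀ i, IsClassElt (w i) := fun i => isClassElt_gaOfFun fun x h => by
    rw [show (h * x * h⁻¹)⁻¹ = h * x⁻¹ * h⁻¹ by group,
      show MonoidAlgebra.single (h * x⁻¹ * h⁻¹) (1 : k) =
        MonoidAlgebra.single (h * x⁻¹) 1 * MonoidAlgebra.single h⁻¹ 1 by
          rw [MonoidAlgebra.single_mul_single, one_mul],
      htr, MonoidAlgebra.single_mul_single, one_mul, inv_mul_cancel_left]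
  have hwe : ∀ i, w i * Ek M B = w i := by
    intro i
    refine gaExt fun y => ?_
    rw [coeff_mul_univ]
    simp only [w, coeff_gaOfFun]
    rw [← hΦe i (MonoidAlgebra.single y⁻¹ 1), hDe]
    conv_rhs => rw [← sum_coeff_single' (Ek M B), Finset.mul_sum, map_sum]
    refine Fintype.sum_equiv ((Equiv.inv G).trans (Equiv.mulLeft y)) _ _ fun x => ?_
    simp only [Equiv.trans_apply, Equiv.inv_apply, Equiv.coe_mulLeft, mul_smul_comm,
      MonoidAlgebra.single_mul_single, inv_mul_cancel_left, one_mul, map_smul, smul_eq_mul]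
    rw [mul_comm]
    congr 1
    rw [← isClassElt_Ek (M := M) B (x⁻¹ * y) y]
    congr 1
    group
  have h := card_le_of_central_indep hB w hw hwe ?_
  · simpa using h
  rw [Fintype.linearIndependent_iff]
  intro c hc i
  have hz : ∀ x, ∑ j, c j * Φ j (MonoidAlgebra.single x 1) = 0 := fun x => by
    have := congrArg (fun y : MonoidAlgebra k G => y.coeff x⁻¹) hc
    simpa [w, MonoidAlgebra.coeff_sum] using this
  have hall : ∀ x : MonoidAlgebra k G, ∑ j, c j * Φ j x = 0 := fun x => by
    rw [← sum_coeff_single' x]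
    simp only [map_sum, map_smul, smul_eq_mul, Finset.mul_sum]
    rw [Finset.sum_comm]
    refine Finset.sum_eq_zero fun y _ => ?_
    have h0 := hz y
    calc _ = x.coeff y * ∑ j, c j * Φ j (MonoidAlgebra.single y 1) := by
          rw [Finset.mul_sum]; exact Finset.sum_congr rfl fun j _ => mul_left_comm _ _ _
      _ = 0 := by rw [h0, mul_zero]
  have := hall (φ.u φ.o * a i * φ.v φ.o)
  simpa [hΦa] using this

/-- A block of rank one with at most four characters has defect group of at most that order. -/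
theorem card_defect_le_of_small (hM : IsPModular p M) {B : Set (IrrCharacter G)}
    (hB : IsPBlock M B) (hl : blockRank p B = 1) (hk : Nat.card B ≤ 4) {P : Subgroup G}
    (hPD : IsDefectGroup p M B P) : Nat.card P ≤ Nat.card B := by
  classical
  obtain ⟨f, F, hf, hFs, hFe, J, n, hJ, hker⟩ := exists_surjective_rep hM hB hl
  let D : CornerData (resField M) (MonoidAlgebra (resField M) G) f :=
    { e := Ek M B
      e_idem := Ek_idem hB
      e_comm := fun b => IsClassElt.comm (isClassElt_Ek B) b
      F := F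
      F_surj := hFs
      F_e := hFe
      J := J
      nJ := n
      J_pow := hJ
      ker_le := hker }
  obtain ⟨φ⟩ := exists_frame_exact hf D
  let τ : MonoidAlgebra (resField M) G →ₗ[resField M] resField M :=
    { toFun := fun x => x.coeff 1
      map_add' := fun x y => by simp
      map_smul' := fun c x => by simp }
  refine card_defect_le_of_comm hM hB hl hPD hf rfl φ (comm_of_small φ τ (fun x y => ?_)
    (fun a ha => ?_) ((finrank_corner_quotient_le hB rfl φ).trans hk))
  · show (x * y).coeff 1 = (y * x).coeff 1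
    rw [coeff_mul_univ, coeff_mul_univ]
    refine Fintype.sum_equiv (Equiv.inv G) _ _ fun g => ?_
    simp [mul_comm]
  · refine gaExt fun g => ?_
    have h : (MonoidAlgebra.single g⁻¹ (1 : resField M) * a).coeff 1 = 0 := ha _
    rw [coeff_mul_univ, Finset.sum_eq_single g⁻¹ (fun b _ hb => by simp [hb]) (by simp)] at h
    simpa using h

end Cfsg.Agent.BlockAlg
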