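/-
Blocks with an abelian defect group of order eight do not have five characters and rank one.
-/
import Cfsg.Agent.Lib.BrauerPairs.AbelianSections
import Cfsg.Agent.Lib.BrauerPairs.WatanabeFixed
import Cfsg.Agent.Lib.BrauerPairs.AbelianInertia
import Cfsg.Agent.Lib.BrauerPairs.DihedralRankThree
import Cfsg.Agent.Lib.BrauerPairs.SmallDefect
import Cfsg.Agent.Lib.BrauerPairs.CentralRankOne
import Cfsg.Agent.Lib.Star.Abelian.Count

set_option linter.unusedSectionVars false
set_option linter.style.haveILetI false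

namespace Cfsg.Agent.AbelianEight

open Cfsg Cfsg.Agent.Blocks Cfsg.Agent.BrauerPairs Cfsg.Agent.Char Cfsg.Agent.Star
  Cfsg.Agent.AbelianSections

universe u

variable {G : Type u} [Group G] [Fintype G] {M : Ideal AlgInt} [M.IsPrime]
  {B : Set (IrrCharacter G)} {P : Subgroup G}

/-- A block with a defect group of order at most four has odd rank. -/
theorem blockRank_odd (hM : IsPModular 2 M) (hB : IsPBlock M B) (hPD : IsDefectGroup 2 M B P)
    (h4 : Nat.card P ≤ 4) : Odd (blockRank 2 B) := by
  classical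
  haveI : Fact (Nat.Prime 2) := ⟨Nat.prime_two⟩
  haveI : CharP (resField M) 2 := resField_charP hM
  have hD := (isDefectGroup_iff hB P).1 hPD
  rcases eq_or_ne P ⊥ with h | h
  · rw [blockRank_eq_one_of_central hM hB hPD (h ▸ bot_le)]; exact odd_one
  have hPC : P ≤ Subgroup.centralizer (P : Set G) := le_centralizer_of_card_le_four hD.pgroup h4
  obtain ⟨e, he⟩ := exists_pairOf_defGrp (isBlk_Ek hB) hD
  obtain ⟨c, hcb, hce⟩ := exists_eq_zB he.pair.blkC
  replace hce : zB M (Subgroup.centralizer (P : Set G)) c = e := hce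
  have hc : IsInducedBlock M (Subgroup.centralizer (P : Set G)) c B := by
    have hsb := pairOf_self (M := M) hcb hD.pgroup hPC rfl
    rw [hce] at hsb
    exact induced_of_pairOf hM hcb hB (hce.symm ▸ hsb) le_rfl he
  have hfree := free_of_card_le_four hM hPD h4 hc
  obtain ⟨m, hm, he1, -, h5, h6⟩ :=
    Cfsg.Agent.Abelian.abelian_free_counts hM hPD h hPC hc hfree rfl
  have hodd := not_dvd_inertia hM hPD hPC hc
  generalize (Subgroup.centralizer (P : Set G)).relIndex
    (stabP (P, zB M (Subgroup.centralizer (P : Set G)) c)) = r at *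
  have h1 : 1 < Nat.card P := P.one_lt_card_iff_ne_bot.2 h
  have hm1 : 1 ≤ m := Nat.pos_of_ne_zero fun h0 => by subst h0; omega
  have hr3 : r ≤ 3 := by nlinarith
  rw [h6 hr3, Nat.odd_iff]
  omega

/-- A block with a central two-subgroup has the rank of the block of the quotient. -/
theorem blockRank_eq_quotient {p : ℕ} (hM : IsPModular p M) (N : Subgroup G) [N.Normal]
    [Fintype (G ⧸ N)] (hN : IsPGroup p N) (hNc : N ≤ Subgroup.center G)
    {b : Set (IrrCharacter G)} {bbar : Set (IrrCharacter (G ⧸ N))} (hb : IsPBlock M b)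
    (hbb : IsPBlock M bbar) (hinfl : ∀ η ∈ bbar, Cfsg.Agent.CharX.infl N η ∈ b) :
    blockRank p b = blockRank p bbar := by
  classical
  refine le_antisymm (Cfsg.Agent.DihRankThree.blockRank_le_blockRank N hM hN
    (Cfsg.Agent.ProjVec.sup_centralizer_eq_top N hNc) hb hbb hinfl) ?_
  let R : IrrCharacter G → (G → ℂ) := fun χ => pRegularPart p (χ : G → ℂ)
  let T : (G ⧸ N → ℂ) →ₗ[ℂ] (G → ℂ) :=
    { toFun := fun f g => if p ∣ orderOf g then 0 else f (g : G ⧸ N)
      map_add' := fun f f' => funext fun g => by by_cases h : p ∣ orderOf g <;> simp [h]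
      map_smul' := fun c f => funext fun g => by by_cases h : p ∣ orderOf g <;> simp [h] }
  set S' := Submodule.span ℂ ((fun χ : IrrCharacter (G ⧸ N) =>
    pRegularPart p (χ : G ⧸ N → ℂ)) '' bbar) with hS'
  have hmem : ∀ f ∈ S', T f ∈ Submodule.span ℂ (R '' b) := by
    intro f hf
    induction hf using Submodule.span_induction with
    | mem f hf =>
      obtain ⟨χ, hχ, rfl⟩ := hf
      refine Submodule.subset_span ⟨_, hinfl χ hχ, ?_⟩
      funext g
      simp only [R, T, LinearMap.coe_mk, AddHom.coe_mk, pRegularPart, IsPRegular,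
        Cfsg.Agent.CharX.infl_apply]
      by_cases h : p ∣ orderOf g
      · simp [h]
      · simp [h, regular_mk N hM.1 h]
    | zero => rw [map_zero]; exact zero_mem _
    | add _ _ _ _ h1 h2 => rw [map_add]; exact add_mem h1 h2
    | smul c _ _ h => rw [map_smul]; exact Submodule.smul_mem _ c h
  have hzero : ∀ f ∈ S', ∀ y : G ⧸ N, p ∣ orderOf y → f y = 0 := by
    intro f hf
    induction hf using Submodule.span_induction with
    | mem f hf => obtain ⟨χ, -, rfl⟩ := hf; exact fun y hy => by simp [pRegularPart, IsPRegular, hy]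
    | zero => simp
    | add a b _ _ h1 h2 => exact fun y hy => by simp [h1 y hy, h2 y hy]
    | smul c a _ h1 => exact fun y hy => by simp [h1 y hy]
  refine LinearMap.finrank_le_finrank_of_injective
    (f := (T.domRestrict S').codRestrict (Submodule.span ℂ (R '' b)) fun f => hmem f f.2) ?_
  refine (injective_iff_map_eq_zero _).2 fun f h0 => Subtype.ext (funext fun y => ?_)
  have h : T (f : G ⧸ N → ℂ) = 0 := congrArg Subtype.val h0
  by_cases hy : p ∣ orderOf y
  · exact hzero f f.2 y hy
  · obtain ⟨g, hg, rfl⟩ := exists_regular_lift N hM.1 hy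
    simpa [T, hg] using congrFun h g

/-- No block with an abelian defect group of order eight has five characters and rank one. -/
theorem card_ne_five (hM : IsPModular 2 M) (hB : IsPBlock M B) (hPD : IsDefectGroup 2 M B P)
    (hP8 : Nat.card P = 8) (hPC : P ≤ Subgroup.centralizer (P : Set G))
    (hl : blockRank 2 B = 1) : Nat.card B ≠ 5 := by
  classical
  intro h5
  haveI : Fact (Nat.Prime 2) := ⟨Nat.prime_two⟩
  haveI : CharP (resField M) 2 := resField_charP hM
  have hD := (isDefectGroup_iff hB P).1 hPD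
  obtain ⟨e, he⟩ := exists_pairOf_defGrp (isBlk_Ek hB) hD
  obtain ⟨c, hcb, hce⟩ := exists_eq_zB he.pair.blkC
  replace hce : zB M (Subgroup.centralizer (P : Set G)) c = e := hce
  rw [← hce] at he
  clear hce
  have hc : IsInducedBlock M (Subgroup.centralizer (P : Set G)) c B :=
    induced_of_pairOf hM hcb hB (pairOf_self (M := M) hcb hD.pgroup hPC rfl) le_rfl he
  set a : Pr (resField M) G := (P, zB M (Subgroup.centralizer (P : Set G)) c) with ha
  have hmax : IsMax 2 (Ek M B) a := ⟨he, hD⟩
  set C := Subgroup.centralizer (P : Set G) with hC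
  set T := stabP a with hT
  have hCT : C ≤ T := fun g hg => ⟨Subgroup.centralizer_le_normalizer _ hg,
    cj_eq_of_inZ (isBlk_zB _ hcb).inZ hg⟩
  have hTe : ¬ 2 ∣ C.relIndex T := not_dvd_inertia hM hPD hPC hc
  -- the sum over the defect group
  have hsum := card_mul_eq_fiber_sum hM hB hmax hPC (1 : a.1 →* a.1)
    (fun t _ v h => rfl) (fun z => by
      obtain ⟨w, hw⟩ := z.2
      simpa using hw.symm ▸ rfl) ⟨1, 1, rfl⟩
  have hbot : (1 : a.1 →* a.1).range = ⊥ := MonoidHom.range_one
  have hc1 : Nat.card (1 : a.1 →* a.1).range = 1 := by rw [hbot, Subgroup.card_bot]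
  rw [hc1, one_mul, h5] at hsum
  simp only [MonoidHom.one_apply, Finset.filter_true] at hsum
  rw [← Finset.add_sum_erase _ _ (Finset.mem_univ (1 : a.1))] at hsum
  have hfirst : lr 2 a (secC ((1 : a.1) : G)) = 1 := by
    rw [Subgroup.coe_one, Cfsg.Agent.WatanabeFixed.secC_one,
      (Cfsg.Agent.WatanabeFixed.lr_top hB hmax).1, hl]
  rw [hfirst, one_mul, Subgroup.coe_one, Cfsg.Agent.WatanabeFixed.secC_one, inf_top_eq] at hsum
  -- every term is an odd multiple of the order of the centraliser
  have hterm : ∀ v ∈ (Finset.univ : Finset a.1).erase 1, ∃ j, Odd j ∧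
      lr 2 a (secC (v : G)) * Nat.card (T ⊓ secC (v : G) : Subgroup G) = j * Nat.card C := by
    intro v hv
    have hv1 : (v : G) ≠ 1 := fun h => (Finset.mem_erase.1 hv).1 (Subtype.ext h)
    obtain ⟨hPH, hCH⟩ := le_secC (a := a) hPC v.2
    have hCTv : C ≤ T ⊓ secC (v : G) := le_inf hCT hCH
    have hcard : Nat.card (T ⊓ secC (v : G) : Subgroup G) =
        C.relIndex (T ⊓ secC (v : G)) * Nat.card C := by
      rw [← Subgroup.relIndex_bot_left, ← Subgroup.relIndex_bot_left C, mul_comm,
        Subgroup.relIndex_mul_relIndex _ _ _ bot_le hCTv]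
    have hodd : Odd (C.relIndex (T ⊓ secC (v : G))) := by
      refine Nat.odd_iff.2 (Nat.mod_two_ne_zero.1 fun h => hTe ?_)
      rw [← Subgroup.relIndex_mul_relIndex C (T ⊓ secC (v : G)) T hCTv inf_le_left]
      exact dvd_mul_of_dvd_left (Nat.dvd_of_mod_eq_zero h) _
    refine ⟨lr 2 a (secC (v : G)) * C.relIndex (T ⊓ secC (v : G)), Odd.mul ?_ hodd, by
      rw [hcard, mul_assoc]⟩
    -- the local rank is odd
    set H := secC (v : G) with hH
    obtain ⟨b, hb, hpb⟩ := exists_loc (M := M) ((isPair_sub_iff hCH).2 ⟨hmax.pair, hPH⟩)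
    rw [(lr_eq hb hpb).1]
    have hnoT := hmax.pairOf.noExt hmax.isDef
    have hnoH : NoExt 2 H a := fun b' hb' => by
      have hCb : Subgroup.centralizer (b'.1 : Set G) ≤ H :=
        (Subgroup.centralizer_le hb'.le).trans hCH
      exact hnoT b' ⟨hmax.pair, ((isPair_sub_iff hCb).1 hb'.right).1, hb'.le, hb'.normal, hb'.inv,
        hb'.occ⟩
    have hdf : IsDefectGroup 2 M b (P.subgroupOf H) :=
      (isDefectGroup_subgroupOf_iff hb hPH).2 (hnoH.isDefGrp hpb)
    set vH : H := ⟨(v : G), hPH v.2⟩ with hvH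
    set N : Subgroup H := Subgroup.zpowers vH with hN
    have hcent : vH ∈ Subgroup.center H :=
      Subgroup.mem_center_iff.2 fun g => Subtype.ext (mem_secC.1 g.2)
    have hNc : N ≤ Subgroup.center H := Subgroup.zpowers_le.2 hcent
    haveI : N.Normal := ⟨fun x hx g => by
      rwa [Subgroup.mem_center_iff.1 (hNc hx) g, mul_inv_cancel_right]⟩
    haveI : Fintype (H ⧸ N) := Fintype.ofFinite _
    have hNP : N ≤ P.subgroupOf H := Subgroup.zpowers_le.2 (Subgroup.mem_subgroupOf.2 v.2)
    have hPHp : IsPGroup 2 (P.subgroupOf H) := hD.pgroup.comap_of_injective _ Subtype.val_injective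
    obtain ⟨bbar, hbb, hinfl, hdef⟩ := exists_quotient_block (N := N) hM (hPHp.to_le hNP) hb
    rw [blockRank_eq_quotient hM N (hPHp.to_le hNP) hNc hb hbb hinfl]
    have hDb := (hdef _).2 ⟨_, hdf, rfl⟩
    refine blockRank_odd hM hbb hDb ?_
    have hN2 : 2 ≤ Nat.card N := by
      refine Nat.succ_le_of_lt ?_
      rw [Subgroup.one_lt_card_iff_ne_bot, hN, Ne, Subgroup.zpowers_eq_bot]
      exact fun h => hv1 (congrArg Subtype.val h)
    have hmul : Nat.card ((P.subgroupOf H).map (QuotientGroup.mk' N)) * Nat.card N = 8 := by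
      rw [← hP8, ← Nat.card_congr (Subgroup.subgroupOfEquivOfLe hPH).toEquiv,
        ← Subgroup.relIndex_bot_left, ← Subgroup.relIndex_comap, MonoidHom.comap_bot,
        QuotientGroup.ker_mk', ← Subgroup.relIndex_bot_left N, mul_comm,
        Subgroup.relIndex_mul_relIndex _ _ _ bot_le hNP, Subgroup.relIndex_bot_left]
    nlinarith
  choose! j hj hje using hterm
  rw [Finset.sum_congr rfl hje, ← Finset.sum_mul] at hsum
  have hTC : Nat.card T = C.relIndex T * Nat.card C := by
    rw [← Subgroup.relIndex_bot_left, ← Subgroup.relIndex_bot_left C, mul_comm,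
      Subgroup.relIndex_mul_relIndex _ _ _ bot_le hCT]
  rw [hTC, ← mul_assoc, ← add_mul] at hsum
  have h := Nat.eq_of_mul_eq_mul_right Nat.card_pos hsum
  have hodd : Odd (∑ v ∈ (Finset.univ : Finset a.1).erase 1, j v) := by
    rw [Finset.odd_sum_iff_odd_card_odd, Finset.filter_true_of_mem hj, Finset.card_erase_of_mem
      (Finset.mem_univ _), Finset.card_univ, ← Nat.card_eq_fintype_card,
      show Nat.card a.1 = 8 from hP8]
    decide
  rw [Nat.odd_iff] at hodd
  omega

end Cfsg.Agent.AbelianEight
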