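/-
Local symmetric algebras: powers of the radical, the top degree, and the case of a thin layer.
-/
import Mathlib.LinearAlgebra.Dual.Lemmas
import Mathlib.LinearAlgebra.FiniteDimensional.Basic
import Mathlib.Algebra.Algebra.Operations
import Mathlib.Tactic.Module
import Mathlib.Tactic.NoncommRing
import Mathlib.Tactic.LinearCombination

set_option linter.unusedSectionVars false
set_option autoImplicit false

namespace Cfsg.Agent.BlockAlg

variable {k : Type*} [Field k] {A : Type*} [Ring A] [Algebra k A]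

theorem finrank_le_of_le_sup [FiniteDimensional k A] {P U Q : Submodule k A} (h : P ≤ U ⊔ Q) :
    Module.finrank k P ≤ Module.finrank k U + Module.finrank k Q :=
  (Submodule.finrank_mono h).trans (Submodule.finrank_add_le_finrank_add_finrank U Q)

theorem finrank_line_le [FiniteDimensional k A] (w : A) :
    Module.finrank k (k ∙ w : Submodule k A) ≤ 1 := by
  simpa using finrank_span_le_card (R := k) ({w} : Set A)

theorem le_line_of_mem {Q : Submodule k A} {w p : A} (h : p ∈ (k ∙ w) ⊔ Q) (hp : p ∉ Q) :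
    (k ∙ w) ⊔ Q ≤ (k ∙ p) ⊔ Q := by
  obtain ⟨_, hc, r, hr, e⟩ := Submodule.mem_sup.1 h
  obtain ⟨s, rfl⟩ := Submodule.mem_span_singleton.1 hc
  have hs : s ≠ 0 := fun h0 => hp (by rw [← e, h0, zero_smul, zero_add]; exact hr)
  refine sup_le ((Submodule.span_singleton_le_iff_mem _ _).2 ?_) le_sup_right
  have : w = s⁻¹ • p - s⁻¹ • r := by
    rw [← e, smul_add, add_sub_cancel_right, smul_smul, inv_mul_cancel₀ hs, one_smul]
  rw [this]
  exact sub_mem (Submodule.mem_sup_left (Submodule.smul_mem _ _ (Submodule.mem_span_singleton_self p)))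
    (Submodule.mem_sup_right (Submodule.smul_mem _ _ hr))

variable (k A) in
/-- A local algebra with a trace form, and the top degree of its radical. -/
structure LocalSym where
  J : Submodule k A
  τ : A →ₗ[k] k
  eps : A →ₗ[k] k
  mul_left : ∀ a : A, ∀ x ∈ J, a * x ∈ J
  mul_right : ∀ a : A, ∀ x ∈ J, x * a ∈ J
  split : ∀ a, a - eps a • 1 ∈ J
  comm : ∀ x y, τ (x * y) = τ (y * x)
  nd : ∀ m, (∀ a, τ (a * m) = 0) → m = 0
  L : ℕ
  L_pos : 1 ≤ L
  top_ne : J ^ L ≠ ⊥
  top_succ : J ^ (L + 1) = ⊥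

namespace LocalSym

variable (S : LocalSym k A)

/-- The commutator space. -/
def C : Submodule k A :=
  Submodule.span k {x | ∃ a b : A, a * b - b * a = x}

theorem mem_mul {i j : ℕ} {x y : A} (hx : x ∈ S.J ^ i) (hy : y ∈ S.J ^ j) :
    x * y ∈ S.J ^ (i + j) := by
  rw [pow_add]; exact Submodule.mul_mem_mul hx hy

theorem mem_one {x : A} (hx : x ∈ S.J) : x ∈ S.J ^ 1 := by rwa [pow_one]

theorem pow_ideal_left {n : ℕ} (hn : 1 ≤ n) (a : A) {x : A} (hx : x ∈ S.J ^ n) :
    a * x ∈ S.J ^ n := by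
  obtain ⟨m, rfl⟩ := Nat.exists_eq_add_of_le hn
  rw [pow_add, pow_one] at hx ⊢
  induction hx using Submodule.mul_induction_on' with
  | mem_mul_mem y hy z hz =>
    rw [← mul_assoc]; exact Submodule.mul_mem_mul (S.mul_left a y hy) hz
  | add _ _ _ _ h1 h2 => rw [mul_add]; exact add_mem h1 h2

theorem pow_succ_le {n : ℕ} (hn : 1 ≤ n) : S.J ^ (n + 1) ≤ S.J ^ n := by
  rw [pow_succ', Submodule.mul_le]
  exact fun a _ x hx => S.pow_ideal_left hn a hx

theorem pow_anti {i j : ℕ} (hi : 1 ≤ i) (hij : i ≤ j) : S.J ^ j ≤ S.J ^ i := by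
  induction j, hij using Nat.le_induction with
  | base => exact le_rfl
  | succ j hij ih => exact (S.pow_succ_le (hi.trans hij)).trans ih

theorem pow_eq_bot {i : ℕ} (hi : S.L < i) : S.J ^ i = ⊥ :=
  eq_bot_iff.2 ((S.pow_anti (Nat.succ_pos _) hi).trans (le_of_eq S.top_succ))

theorem eq_zero_of_mem {i : ℕ} (hi : S.L < i) {x : A} (hx : x ∈ S.J ^ i) : x = 0 := by
  rwa [S.pow_eq_bot hi, Submodule.mem_bot] at hx

theorem tau_zero {i : ℕ} (hi : S.L < i) {x : A} (hx : x ∈ S.J ^ i) : S.τ x = 0 := by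
  rw [S.eq_zero_of_mem hi hx, map_zero]

theorem C_le_span : C ≤ Submodule.span k
    {x | ∃ a ∈ S.J, ∃ b ∈ S.J, a * b - b * a = x} := by
  refine Submodule.span_le.2 ?_
  rintro _ ⟨a, b, rfl⟩
  refine Submodule.subset_span ⟨_, S.split a, _, S.split b, ?_⟩
  simp only [sub_mul, mul_sub, smul_mul_assoc, mul_smul_comm, one_mul, mul_one]
  module

theorem C_le_sq : C ≤ S.J ^ 2 := by
  refine S.C_le_span.trans (Submodule.span_le.2 ?_)
  rintro _ ⟨a, ha, b, hb, rfl⟩
  exact sub_mem (S.mem_mul (S.mem_one ha) (S.mem_one hb)) (S.mem_mul (S.mem_one hb) (S.mem_one ha))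

theorem tau_C {x : A} (hx : x ∈ (C : Submodule k A)) : S.τ x = 0 := by
  induction hx using Submodule.span_induction with
  | mem y hy => obtain ⟨a, b, rfl⟩ := hy; rw [map_sub, S.comm, sub_self]
  | zero => simp
  | add _ _ _ _ h1 h2 => rw [map_add, h1, h2, add_zero]
  | smul c _ _ h => rw [map_smul, h, smul_zero]

theorem mul_eq_zero_of_tau {m : A} (h : ∀ y ∈ S.J, S.τ (y * m) = 0) {y : A} (hy : y ∈ S.J) :
    y * m = 0 :=
  S.nd _ fun a => by rw [← mul_assoc]; exact h _ (S.mul_left a y hy)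

theorem eq_zero_of_socle {m : A} (h : ∀ y ∈ S.J, y * m = 0) (h0 : S.τ m = 0) : m = 0 :=
  S.nd _ fun a => by
    have e := h _ (S.split a)
    rw [sub_mul, smul_mul_assoc, one_mul, sub_eq_zero] at e
    rw [e, map_smul, h0, smul_zero]

theorem top_socle {m : A} (hm : m ∈ S.J ^ S.L) {y : A} (hy : y ∈ S.J) : y * m = 0 :=
  S.eq_zero_of_mem (i := 1 + S.L) (by omega) (S.mem_mul (S.mem_one hy) hm)

theorem exists_top_tau : ∃ s ∈ S.J ^ S.L, S.τ s = 1 := by
  obtain ⟨m, hm, hm0⟩ := (Submodule.ne_bot_iff _).1 S.top_ne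
  have h : S.τ m ≠ 0 := fun h => hm0 (S.eq_zero_of_socle (fun y hy => S.top_socle hm hy) h)
  exact ⟨(S.τ m)⁻¹ • m, Submodule.smul_mem _ _ hm, by rw [map_smul, smul_eq_mul, inv_mul_cancel₀ h]⟩

/-- An element orthogonal to the radical lies in the top degree. -/
theorem mem_top_of_tau {m : A} (h : ∀ y ∈ S.J, S.τ (y * m) = 0) : m ∈ S.J ^ S.L := by
  obtain ⟨s, hs, hs1⟩ := S.exists_top_tau
  have e : m - S.τ m • s = 0 := S.eq_zero_of_socle (fun y hy => by
    rw [mul_sub, mul_smul_comm, S.mul_eq_zero_of_tau h hy, S.top_socle hs hy, smul_zero, sub_zero])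
    (by rw [map_sub, map_smul, hs1, smul_eq_mul, mul_one, sub_self])
  rw [sub_eq_zero.1 e]
  exact Submodule.smul_mem _ _ hs

theorem finrank_top [FiniteDimensional k A] : Module.finrank k (S.J ^ S.L : Submodule k A) = 1 := by
  obtain ⟨s, hs, hs1⟩ := S.exists_top_tau
  have hs0 : s ≠ 0 := fun h => by simp [h] at hs1
  have e : S.J ^ S.L = k ∙ s := by
    refine le_antisymm (fun m hm => ?_) ((Submodule.span_singleton_le_iff_mem _ _).2 hs)
    refine Submodule.mem_span_singleton.2 ⟨S.τ m, ?_⟩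
    refine (sub_eq_zero.1 (S.eq_zero_of_socle (fun y hy => ?_) ?_)).symm
    · rw [mul_sub, mul_smul_comm, S.top_socle hm hy, S.top_socle hs hy, smul_zero, sub_zero]
    · rw [map_sub, map_smul, hs1, smul_eq_mul, mul_one, sub_self]
  rw [e, finrank_span_singleton hs0]

theorem top_not_le_C : ¬ S.J ^ S.L ≤ C := fun h => by
  obtain ⟨s, hs, hs1⟩ := S.exists_top_tau
  rw [S.tau_C (h hs)] at hs1
  exact zero_ne_one hs1

/-- The pairing of the next to top degree with the generators. -/
def pairing {i : ℕ} (hi : S.L ≤ i + 1) : (S.J ^ i : Submodule k A) →ₗ[k]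
    Module.Dual k (↥S.J ⧸ (S.J ^ 2).comap S.J.subtype) where
  toFun m := Submodule.liftQ _ ((S.τ.comp (LinearMap.mulRight k (m : A))).comp S.J.subtype)
    fun y hy => by
      refine S.tau_zero (i := 2 + i) (by omega) ?_
      exact S.mem_mul hy m.2
  map_add' a b := Submodule.linearMap_qext _ (LinearMap.ext fun y => by
    show S.τ ((y : A) * ((a + b : (S.J ^ i : Submodule k A)) : A)) =
      S.τ ((y : A) * a) + S.τ ((y : A) * b)
    simp [mul_add])
  map_smul' c a := Submodule.linearMap_qext _ (LinearMap.ext fun y => by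
    show S.τ ((y : A) * ((c • a : (S.J ^ i : Submodule k A)) : A)) = c • S.τ ((y : A) * a)
    simp)

theorem pairing_ker_le {i : ℕ} (hi : S.L ≤ i + 1) :
    (LinearMap.ker (S.pairing hi)).map (S.J ^ i).subtype ≤ S.J ^ S.L := by
  rintro _ ⟨m, hm, rfl⟩
  refine S.mem_top_of_tau fun y hy => ?_
  exact LinearMap.congr_fun (LinearMap.mem_ker.1 hm) (Submodule.Quotient.mk ⟨y, hy⟩)

theorem finrank_quot_sq [FiniteDimensional k A] :
    Module.finrank k (↥S.J ⧸ (S.J ^ 2).comap S.J.subtype) + Module.finrank k (S.J ^ 2 : Submodule k A) =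
      Module.finrank k S.J := by
  have hle : S.J ^ 2 ≤ S.J := (S.pow_succ_le le_rfl).trans (le_of_eq (pow_one _))
  rw [← (Submodule.comapSubtypeEquivOfLe hle).finrank_eq]
  exact Submodule.finrank_quotient_add_finrank _

/-- The layer below the top is at most as large as the layer of the generators. -/
theorem finrank_below_top [FiniteDimensional k A] {i : ℕ} (hi : S.L ≤ i + 1) :
    Module.finrank k (S.J ^ i : Submodule k A) + Module.finrank k (S.J ^ 2 : Submodule k A) ≤
      1 + Module.finrank k S.J := by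
  have h := (S.pairing hi).finrank_range_add_finrank_ker
  have h1 := Submodule.finrank_le (LinearMap.range (S.pairing hi))
  rw [Subspace.dual_finrank_eq] at h1
  have h2 := Submodule.finrank_mono (S.pairing_ker_le hi)
  rw [Submodule.finrank_map_subtype_eq, S.finrank_top] at h2
  have := S.finrank_quot_sq
  omega

/-- If the layer below the top is full, the pairing with the generators is perfect. -/
theorem mem_sq_of_tau [FiniteDimensional k A] {i : ℕ} (hi : S.L ≤ i + 1)
    (hfull : 1 + Module.finrank k S.J ≤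
      Module.finrank k (S.J ^ i : Submodule k A) + Module.finrank k (S.J ^ 2 : Submodule k A))
    {y : A} (hy : y ∈ S.J) (h : ∀ m ∈ S.J ^ i, S.τ (y * m) = 0) : y ∈ S.J ^ 2 := by
  have hr := (S.pairing hi).finrank_range_add_finrank_ker
  have h2 := Submodule.finrank_mono (S.pairing_ker_le hi)
  rw [Submodule.finrank_map_subtype_eq, S.finrank_top] at h2
  have hq := S.finrank_quot_sq
  have h1 := Submodule.finrank_le (LinearMap.range (S.pairing hi))
  rw [Subspace.dual_finrank_eq] at h1
  have htop : LinearMap.range (S.pairing hi) = ⊤ := Submodule.eq_top_of_finrank_eq (by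
    rw [Subspace.dual_finrank_eq]; omega)
  have h0 : (Submodule.Quotient.mk ⟨y, hy⟩ : ↥S.J ⧸ (S.J ^ 2).comap S.J.subtype) = 0 := by
    refine (Module.forall_dual_apply_eq_zero_iff k _).1 fun φ => ?_
    obtain ⟨m, rfl⟩ : φ ∈ LinearMap.range (S.pairing hi) := htop ▸ Submodule.mem_top
    exact h _ m.2
  exact (Submodule.Quotient.mk_eq_zero ((S.J ^ 2).comap S.J.subtype)).1 h0

/-! ### Propagation of thin layers -/

theorem prod_form {n : ℕ} {w : A} (h : S.J ^ (n + 1) ≤ (k ∙ w) ⊔ S.J ^ (n + 2)) :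
    ∃ g ∈ S.J ^ n, ∃ b ∈ S.J, S.J ^ (n + 1) ≤ (k ∙ (g * b)) ⊔ S.J ^ (n + 2) := by
  by_cases hall : ∀ g ∈ S.J ^ n, ∀ b ∈ S.J, g * b ∈ S.J ^ (n + 2)
  · refine ⟨0, zero_mem _, 0, zero_mem _, le_trans ?_ le_sup_right⟩
    rw [pow_succ, Submodule.mul_le]
    exact hall
  push Not at hall
  obtain ⟨g, hg, b, hb, hgb⟩ := hall
  refine ⟨g, hg, b, hb, h.trans (le_line_of_mem (h ?_) hgb)⟩
  rw [pow_succ]; exact Submodule.mul_mem_mul hg hb

theorem line_up {n : ℕ} {g b : A} (hg : g ∈ S.J ^ n) (hb : b ∈ S.J)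
    (h : S.J ^ (n + 1) ≤ (k ∙ (g * b)) ⊔ S.J ^ (n + 2)) :
    S.J ^ (n + 2) ≤ (k ∙ (g * b * b)) ⊔ S.J ^ (n + 3) := by
  have h3 : S.J * S.J ^ (n + 2) ≤ S.J ^ (n + 3) := le_of_eq (pow_succ' S.J (n + 2)).symm
  rw [pow_succ' S.J (n + 1), Submodule.mul_le]
  intro a ha x hx
  obtain ⟨_, hc, r, hr, rfl⟩ := Submodule.mem_sup.1 (h hx)
  obtain ⟨s, rfl⟩ := Submodule.mem_span_singleton.1 hc
  rw [mul_add, mul_smul_comm]
  refine add_mem (Submodule.smul_mem _ _ ?_) (Submodule.mem_sup_right (h3 (Submodule.mul_mem_mul ha hr)))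
  rw [← mul_assoc]
  obtain ⟨_, hc', r', hr', e⟩ := Submodule.mem_sup.1
    (h (show a * g ∈ S.J ^ (n + 1) by rw [pow_succ']; exact Submodule.mul_mem_mul ha hg))
  obtain ⟨s', rfl⟩ := Submodule.mem_span_singleton.1 hc'
  rw [← e, add_mul, smul_mul_assoc]
  exact add_mem (Submodule.mem_sup_left (Submodule.smul_mem _ _ (Submodule.mem_span_singleton_self _)))
    (Submodule.mem_sup_right (S.mem_mul (i := n + 2) (j := 1) hr' (S.mem_one hb)))

/-- A thin layer makes the layer below the top thin. -/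
theorem line_top {n : ℕ} {w : A} (hn : n + 2 ≤ S.L)
    (h : S.J ^ (n + 1) ≤ (k ∙ w) ⊔ S.J ^ (n + 2)) :
    ∃ m ∈ S.J ^ (S.L - 1), S.J ^ (S.L - 1) ≤ (k ∙ m) ⊔ S.J ^ S.L := by
  obtain ⟨g, hg, b, hb, hgb⟩ := S.prod_form h
  suffices ∀ j, ∃ g ∈ S.J ^ (n + j), S.J ^ (n + j + 1) ≤ (k ∙ (g * b)) ⊔ S.J ^ (n + j + 2) by
    obtain ⟨g', hg', h'⟩ := this (S.L - 2 - n)
    refine ⟨g' * b, ?_, ?_⟩
    · have := S.mem_mul hg' (S.mem_one hb)
      rwa [show n + (S.L - 2 - n) + 1 = S.L - 1 by omega] at this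
    rwa [show n + (S.L - 2 - n) + 1 = S.L - 1 by omega,
      show n + (S.L - 2 - n) + 2 = S.L by omega] at h'
  intro j
  induction j with
  | zero => exact ⟨g, hg, hgb⟩
  | succ j ih =>
    obtain ⟨g', hg', h'⟩ := ih
    refine ⟨g' * b, ?_, ?_⟩
    · exact S.mem_mul (i := n + j) (j := 1) hg' (S.mem_one hb)
    · exact S.line_up hg' hb h'

/-! ### A thin layer below the top -/

theorem false_of_thin {m : A} (hL : 3 ≤ S.L) (hmJ : m ∈ S.J ^ (S.L - 1))
    (hm : S.J ^ (S.L - 1) ≤ (k ∙ m) ⊔ S.J ^ S.L)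
    (h : S.J ^ 2 ≤ C ⊔ S.J ^ 3 ∨
      (4 ≤ S.L ∧ S.J ^ 3 ≤ C ⊔ S.J ^ 4 ∧ ∃ a b, S.J ≤ Submodule.span k {a, b} ⊔ S.J ^ 2 ∧
        a ∈ S.J ∧ b ∈ S.J)) : False := by
  set f : A → k := fun x => S.τ (x * m) with hf
  have hv : ∃ v ∈ S.J, f v ≠ 0 := by
    by_contra h0
    push Not at h0
    have hle : S.J ^ (S.L - 1) ≤ S.J ^ S.L := hm.trans (sup_le
      ((Submodule.span_singleton_le_iff_mem _ _).2 (S.mem_top_of_tau h0)) le_rfl)
    apply S.top_ne
    refine eq_bot_iff.2 ?_
    conv_lhs => rw [show S.L = S.L - 1 + 1 by omega, pow_succ']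
    exact (mul_le_mul' le_rfl hle).trans (le_of_eq (by rw [← pow_succ', S.top_succ]))
  obtain ⟨v₀, hv₀, hv0⟩ := hv
  set v := (f v₀)⁻¹ • v₀ with hvdef
  have hvJ : v ∈ S.J := Submodule.smul_mem _ _ hv₀
  have hfv : f v = 1 := by
    simp only [hf, hvdef, smul_mul_assoc, map_smul, smul_eq_mul] at *
    exact inv_mul_cancel₀ hv0
  -- the form depends on one slot only through `f`
  have key : ∀ g ∈ S.J ^ (S.L - 1), ∀ x ∈ S.J, S.τ (g * x) = f x * S.τ (g * v) := by
    intro g hg x hx
    obtain ⟨_, hc, r, hr, rfl⟩ := Submodule.mem_sup.1 (hm hg)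
    obtain ⟨s, rfl⟩ := Submodule.mem_span_singleton.1 hc
    have h0 : ∀ y ∈ S.J, S.τ (r * y) = 0 := fun y hy => by
      rw [S.comm, S.top_socle hr hy, map_zero]
    rw [add_mul, add_mul, map_add, map_add, h0 x hx, h0 v hvJ, smul_mul_assoc, smul_mul_assoc,
      map_smul, map_smul, S.comm m x, S.comm m v]
    show s • f x + 0 = f x * (s • f v + 0)
    simp only [hfv, add_zero, smul_eq_mul]
    ring
  have hvp : ∀ j, v ^ j ∈ S.J ^ j := fun j => Submodule.pow_mem_pow S.J hvJ j
  have hT : S.τ (v ^ S.L) = 0 := by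
    -- two or three letters at the end
    have h2 : ∀ a ∈ S.J, ∀ b ∈ S.J,
        S.τ (v ^ (S.L - 2) * (a * b)) = f a * f b * S.τ (v ^ S.L) := by
      intro a ha b hb
      rw [← mul_assoc, key _ (by
        have := S.mem_mul (hvp (S.L - 2)) (S.mem_one ha)
        rwa [show S.L - 2 + 1 = S.L - 1 by omega] at this) b hb, S.comm, ← mul_assoc, ← pow_succ',
        show S.L - 2 + 1 = S.L - 1 by omega, key _ (hvp _) a ha, ← pow_succ,
        show S.L - 1 + 1 = S.L by omega]
      ring
    rcases h with h | ⟨h4, h, a₁, a₂, hgen, ha₁, ha₂⟩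
    · have hz : ∀ y ∈ S.J ^ 2, S.τ (v ^ (S.L - 2) * y) = 0 := by
        intro y hy
        obtain ⟨c, hc, r, hr, rfl⟩ := Submodule.mem_sup.1 (h hy)
        rw [mul_add, map_add, S.tau_zero (i := S.L - 2 + 3) (by omega) (S.mem_mul (hvp _) hr),
          add_zero]
        clear hy
        have hc' := S.C_le_span hc
        clear hc
        induction hc' using Submodule.span_induction with
        | mem z hz =>
          obtain ⟨a, ha, b, hb, rfl⟩ := hz
          rw [mul_sub, map_sub, h2 a ha b hb, h2 b hb a ha]; ring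
        | zero => simp
        | add _ _ _ _ h1 h2 => rw [mul_add, map_add, h1, h2, add_zero]
        | smul c _ _ h1 => rw [mul_smul_comm, map_smul, h1, smul_zero]
      have := hz (v ^ 2) (hvp 2)
      rwa [← pow_add, show S.L - 2 + 2 = S.L by omega] at this
    · have h3 : ∀ a ∈ S.J, ∀ w ∈ S.J ^ 2,
          S.τ (v ^ (S.L - 3) * (a * w - w * a)) = 0 := by
        intro a ha w hw
        rw [pow_two] at hw
        induction hw using Submodule.mul_induction_on' with
        | mem_mul_mem c hc d hd =>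
          have e1 : S.τ (v ^ (S.L - 3) * (a * (c * d))) = f a * f c * f d * S.τ (v ^ S.L) := by
            rw [show v ^ (S.L - 3) * (a * (c * d)) = v ^ (S.L - 3) * a * c * d by
              simp only [mul_assoc], key _ (by
                have := S.mem_mul (S.mem_mul (hvp (S.L - 3)) (S.mem_one ha)) (S.mem_one hc)
                rwa [show S.L - 3 + 1 + 1 = S.L - 1 by omega] at this) d hd, S.comm]
            rw [show v * (v ^ (S.L - 3) * a * c) = v ^ (S.L - 3 + 1) * (a * c) by
              rw [pow_succ']; simp only [mul_assoc], show S.L - 3 + 1 = S.L - 2 by omega,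
              h2 a ha c hc]
            ring
          have e2 : S.τ (v ^ (S.L - 3) * (c * d * a)) = f a * f c * f d * S.τ (v ^ S.L) := by
            rw [show v ^ (S.L - 3) * (c * d * a) = v ^ (S.L - 3) * c * d * a by
              simp only [mul_assoc], key _ (by
                have := S.mem_mul (S.mem_mul (hvp (S.L - 3)) (S.mem_one hc)) (S.mem_one hd)
                rwa [show S.L - 3 + 1 + 1 = S.L - 1 by omega] at this) a ha, S.comm]
            rw [show v * (v ^ (S.L - 3) * c * d) = v ^ (S.L - 3 + 1) * (c * d) by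
              rw [pow_succ']; simp only [mul_assoc], show S.L - 3 + 1 = S.L - 2 by omega,
              h2 c hc d hd]
            ring
          rw [mul_sub, map_sub, e1, e2, sub_self]
        | add x _ y _ hx hy =>
          rw [show a * (x + y) - (x + y) * a = (a * x - x * a) + (a * y - y * a) by noncomm_ring,
            mul_add, map_add, hx, hy, add_zero]
      -- the commutator of two generators
      have hgens : ∀ a ∈ S.J, ∀ b ∈ S.J, S.τ (v ^ (S.L - 3) * (a * b - b * a)) = 0 := by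
        have hvv : ∀ b, S.τ (v ^ (S.L - 3) * (v * b - b * v)) = 0 := fun b => by
          rw [mul_sub, map_sub, ← mul_assoc, ← mul_assoc, ← pow_succ, S.comm (v ^ (S.L - 3) * b) v,
            ← mul_assoc, ← pow_succ', sub_self]
        have hcase : ∀ a ∈ S.J, ∀ b ∈ S.J, ∃ r : k, ∃ w₁ ∈ S.J ^ 2, ∃ a' b' : A,
            a' ∈ S.J ∧ b' ∈ S.J ∧ a * b - b * a = r • (a₁ * a₂ - a₂ * a₁) + (a' * w₁ - w₁ * a') +
              ((a - a') * b' - b' * (a - a')) ∧ a - a' ∈ S.J ^ 2 := by
          intro a ha b hb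
          obtain ⟨pa, hpa, wa, hwa, rfl⟩ := Submodule.mem_sup.1 (hgen ha)
          obtain ⟨pb, hpb, wb, hwb, rfl⟩ := Submodule.mem_sup.1 (hgen hb)
          obtain ⟨α₁, α₂, rfl⟩ := Submodule.mem_span_pair.1 hpa
          obtain ⟨β₁, β₂, rfl⟩ := Submodule.mem_span_pair.1 hpb
          refine ⟨α₁ * β₂ - α₂ * β₁, wb, hwb, α₁ • a₁ + α₂ • a₂, _,
            add_mem (Submodule.smul_mem _ _ ha₁) (Submodule.smul_mem _ _ ha₂), hb, ?_,
            by rwa [add_sub_cancel_left]⟩
          simp only [add_mul, mul_add, smul_mul_assoc, mul_smul_comm, add_sub_cancel_left, smul_sub,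
            smul_add, sub_smul, smul_smul]
          module
        obtain ⟨ra, hra, wa, hwa, hva⟩ := Submodule.mem_sup.1 (hgen hvJ)
        obtain ⟨γ₁, γ₂, rfl⟩ := Submodule.mem_span_pair.1 hra
        have hz : S.τ (v ^ (S.L - 3) * (a₁ * a₂ - a₂ * a₁)) = 0 := by
          have hn : ∀ (c : A) (hc : c ∈ S.J), S.τ (v ^ (S.L - 3) *
              ((γ₁ • a₁ + γ₂ • a₂) * c - c * (γ₁ • a₁ + γ₂ • a₂))) = 0 := by
            intro c hc
            have h1 := h3 c hc wa hwa
            have h2' := hvv c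
            have e : (γ₁ • a₁ + γ₂ • a₂) * c - c * (γ₁ • a₁ + γ₂ • a₂) =
                (v * c - c * v) + (c * wa - wa * c) := by
              generalize γ₁ • a₁ + γ₂ • a₂ = g at hva ⊢
              rw [← hva]; noncomm_ring
            rw [e, mul_add, map_add, h1, h2', add_zero]
          by_cases hg : γ₁ = 0
          · have hg2 : γ₂ ≠ 0 := fun h0 => by
              rw [hg, h0, zero_smul, zero_smul, add_zero, zero_add] at hva
              have : f v = 0 := by
                show S.τ (v * m) = 0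
                have hwm : S.τ (wa * m) = 0 :=
                  S.tau_zero (i := 2 + (S.L - 1)) (by omega) (S.mem_mul hwa hmJ)
                rw [← hva]; exact hwm
              rw [hfv] at this
              exact one_ne_zero this
            have := hn a₁ ha₁
            rw [hg, zero_smul, zero_add, smul_mul_assoc, mul_smul_comm, ← smul_sub, mul_smul_comm,
              map_smul, smul_eq_mul, mul_eq_zero] at this
            rw [show a₁ * a₂ - a₂ * a₁ = -(a₂ * a₁ - a₁ * a₂) by noncomm_ring, mul_neg, map_neg,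
              this.resolve_left hg2, neg_zero]
          · have := hn a₂ ha₂
            have e : (γ₁ • a₁ + γ₂ • a₂) * a₂ - a₂ * (γ₁ • a₁ + γ₂ • a₂) =
                γ₁ • (a₁ * a₂ - a₂ * a₁) := by
              simp only [add_mul, mul_add, smul_mul_assoc, mul_smul_comm, smul_sub]; abel
            rw [e, mul_smul_comm, map_smul, smul_eq_mul, mul_eq_zero] at this
            exact this.resolve_left hg
        intro a ha b hb
        obtain ⟨r, w₁, hw₁, a', b', ha', hb', e, hd⟩ := hcase a ha b hb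
        rw [e, mul_add, mul_add, map_add, map_add, mul_smul_comm, map_smul, hz, h3 a' ha' w₁ hw₁,
          show (a - a') * b' - b' * (a - a') = -(b' * (a - a') - (a - a') * b') by noncomm_ring,
          mul_neg, map_neg, h3 b' hb' _ hd, smul_zero]
        ring
      have hz : ∀ y ∈ S.J ^ 3, S.τ (v ^ (S.L - 3) * y) = 0 := by
        intro y hy
        obtain ⟨c, hc, r, hr, rfl⟩ := Submodule.mem_sup.1 (h hy)
        rw [mul_add, map_add, S.tau_zero (i := S.L - 3 + 4) (by omega) (S.mem_mul (hvp _) hr),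
          add_zero]
        clear hy
        have hc' := S.C_le_span hc
        clear hc
        induction hc' using Submodule.span_induction with
        | mem z hz => obtain ⟨a, ha, b, hb, rfl⟩ := hz; exact hgens a ha b hb
        | zero => simp
        | add _ _ _ _ h1 h2 => rw [mul_add, map_add, h1, h2, add_zero]
        | smul c _ _ h1 => rw [mul_smul_comm, map_smul, h1, smul_zero]
      have := hz (v ^ 3) (hvp 3)
      rwa [← pow_add, show S.L - 3 + 3 = S.L by omega] at this
  -- so the form vanishes on the top degree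
  have hall : ∀ j i : ℕ, i + j = S.L → 1 ≤ j → ∀ y ∈ S.J ^ j, S.τ (v ^ i * y) = 0 := by
    intro j
    induction j with
    | zero => intro i _ h1; omega
    | succ j ih =>
      intro i hij _ y hy
      rcases Nat.eq_zero_or_pos j with rfl | hj
      · rw [zero_add, pow_one] at hy
        rw [key _ (by have := hvp i; rwa [show i = S.L - 1 by omega] at this ⊢) y hy, ← pow_succ,
          show i + 1 = S.L by omega, hT, mul_zero]
      rw [pow_succ] at hy
      induction hy using Submodule.mul_induction_on' with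
      | mem_mul_mem g hg x hx =>
        rw [← mul_assoc, key _ (by
          have := S.mem_mul (hvp i) hg
          rwa [show i + j = S.L - 1 by omega] at this) x hx, S.comm, ← mul_assoc, ← pow_succ',
          ih (i + 1) (by omega) hj g hg, mul_zero]
      | add _ _ _ _ h1 h2 => rw [mul_add, map_add, h1, h2, add_zero]
  obtain ⟨s, hs, hs1⟩ := S.exists_top_tau
  have := hall S.L 0 (by omega) S.L_pos s hs
  rw [pow_zero, one_mul, hs1] at this
  exact one_ne_zero this

end LocalSym

end Cfsg.Agent.BlockAlg
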