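/-
Layers of the radical of a local algebra with a trace form.
-/
import Cfsg.Agent.Lib.BlockAlg.LocalSym

set_option linter.unusedSectionVars false
set_option autoImplicit false

namespace Cfsg.Agent.BlockAlg

variable {k : Type*} [Field k] {A : Type*} [Ring A] [Algebra k A]

/-- Brackets are controlled by generators. -/
theorem bracket_mem {s t : Set A} {T : Submodule k A} (h : ∀ g ∈ s, ∀ g' ∈ t, g * g' - g' * g ∈ T)
    {a b : A} (ha : a ∈ Submodule.span k s) (hb : b ∈ Submodule.span k t) : a * b - b * a ∈ T := by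
  induction ha using Submodule.span_induction with
  | mem g hg =>
    induction hb using Submodule.span_induction with
    | mem g' hg' => exact h g hg g' hg'
    | zero => simp
    | add x y _ _ hx hy =>
      rw [show g * (x + y) - (x + y) * g = (g * x - x * g) + (g * y - y * g) by noncomm_ring]
      exact add_mem hx hy
    | smul c x _ hx =>
      rw [mul_smul_comm, smul_mul_assoc, ← smul_sub]
      exact Submodule.smul_mem _ _ hx
  | zero => simp
  | add x y _ _ hx hy =>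
    rw [show (x + y) * b - b * (x + y) = (x * b - b * x) + (y * b - b * y) by noncomm_ring]
    exact add_mem hx hy
  | smul c x _ hx =>
    rw [mul_smul_comm, smul_mul_assoc, ← smul_sub]
    exact Submodule.smul_mem _ _ hx

theorem span_union_eq (s : Set A) (Q : Submodule k A) :
    Submodule.span k (s ∪ ↑Q) = Submodule.span k s ⊔ Q := by
  rw [Submodule.span_union, Submodule.span_eq]

/-- A subspace of small codimension is a complement up to a line. -/
theorem exists_line [FiniteDimensional k A] {P Q : Submodule k A} (hQ : Q ≤ P)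
    (h : Module.finrank k P ≤ Module.finrank k Q + 1) : ∃ w ∈ P, P ≤ (k ∙ w) ⊔ Q := by
  by_cases h0 : P ≤ Q
  · exact ⟨0, zero_mem _, h0.trans le_sup_right⟩
  obtain ⟨w, hw, hwQ⟩ := SetLike.not_le_iff_exists.1 h0
  refine ⟨w, hw, le_of_eq (Submodule.eq_of_le_of_finrank_le
    (sup_le ((Submodule.span_singleton_le_iff_mem _ _).2 hw) hQ) ?_).symm⟩
  have hlt : Q < (k ∙ w) ⊔ Q := lt_of_le_not_ge le_sup_right fun hle =>
    hwQ (hle (Submodule.mem_sup_left (Submodule.mem_span_singleton_self _)))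
  have := Submodule.finrank_lt_finrank_of_lt hlt
  omega

theorem exists_plane [FiniteDimensional k A] {P Q : Submodule k A} (hQ : Q ≤ P)
    (h : Module.finrank k P ≤ Module.finrank k Q + 2) :
    ∃ p ∈ P, ∃ q ∈ P, P ≤ Submodule.span k {p, q} ⊔ Q := by
  by_cases h0 : Module.finrank k P ≤ Module.finrank k Q + 1
  · obtain ⟨w, hw, hle⟩ := exists_line hQ h0
    exact ⟨w, hw, 0, zero_mem _, hle.trans (sup_le_sup_right (Submodule.span_mono (by simp)) _)⟩
  obtain ⟨p, hp, hpQ⟩ := SetLike.not_le_iff_exists.1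
    (fun hle => h0 ((Submodule.finrank_mono hle).trans (Nat.le_succ _)) : ¬ P ≤ Q)
  have hlt : Q < (k ∙ p) ⊔ Q := lt_of_le_not_ge le_sup_right fun hle =>
    hpQ (hle (Submodule.mem_sup_left (Submodule.mem_span_singleton_self _)))
  have := Submodule.finrank_lt_finrank_of_lt hlt
  obtain ⟨q, hq, hle⟩ := exists_line (Q := (k ∙ p) ⊔ Q)
    (sup_le ((Submodule.span_singleton_le_iff_mem _ _).2 hp) hQ) (by omega)
  refine ⟨p, hp, q, hq, hle.trans (le_of_eq ?_)⟩
  rw [Submodule.span_insert, sup_left_comm, sup_assoc]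

namespace LocalSym

variable (S : LocalSym k A)

theorem one_notMem : (1 : A) ∉ S.J := fun h => by
  have h1 : (1 : A) ∈ S.J ^ (S.L + 1) := by
    simpa using Submodule.pow_mem_pow S.J h (S.L + 1)
  rw [S.top_succ, Submodule.mem_bot] at h1
  apply S.top_ne
  rw [eq_bot_iff]
  intro x _
  rw [Submodule.mem_bot, ← one_mul x, h1, zero_mul]

theorem sq_le : S.J ^ 2 ≤ S.J := (S.pow_succ_le le_rfl).trans (le_of_eq (pow_one _))

/-- A complement of the square of the radical in the radical. -/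
theorem exists_compl : ∃ U : Submodule k A, U ≤ S.J ∧ S.J ≤ U ⊔ S.J ^ 2 ∧ U ⊓ S.J ^ 2 = ⊥ := by
  obtain ⟨Z, hZ⟩ := (S.J ^ 2).exists_isCompl
  refine ⟨S.J ⊓ Z, inf_le_left, ?_, ?_⟩
  · rw [sup_comm, inf_comm, ← sup_inf_assoc_of_le Z S.sq_le, hZ.sup_eq_top, top_inf_eq]
  · rw [inf_assoc, inf_comm Z, hZ.inf_eq_bot, inf_bot_eq]

theorem finrank_compl [FiniteDimensional k A] {U : Submodule k A} (hUJ : U ≤ S.J)
    (hJU : S.J ≤ U ⊔ S.J ^ 2) (hU : U ⊓ S.J ^ 2 = ⊥) :
    Module.finrank k U + Module.finrank k (S.J ^ 2 : Submodule k A) = Module.finrank k S.J := by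
  have h := Submodule.finrank_sup_add_finrank_inf_eq U (S.J ^ 2)
  rw [hU, finrank_bot, add_zero, le_antisymm (sup_le hUJ S.sq_le) hJU] at h
  exact h.symm

/-- Brackets of the elements of `U`. -/
def BU (U : Submodule k A) : Submodule k A :=
  Submodule.span k {x | ∃ a ∈ U, ∃ b ∈ U, a * b - b * a = x}

/-- Brackets with the square of the radical. -/
def D3 : Submodule k A :=
  Submodule.span k {x | ∃ a ∈ S.J, ∃ w ∈ S.J ^ 2, a * w - w * a = x}

theorem D3_le : S.D3 ≤ S.J ^ 3 := by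
  refine Submodule.span_le.2 ?_
  rintro _ ⟨a, ha, w, hw, rfl⟩
  exact sub_mem (S.mem_mul (i := 1) (j := 2) (S.mem_one ha) hw)
    (S.mem_mul (i := 2) (j := 1) hw (S.mem_one ha))

theorem BU_le_sq {U : Submodule k A} (hUJ : U ≤ S.J) : BU U ≤ S.J ^ 2 := by
  refine Submodule.span_le.2 ?_
  rintro _ ⟨a, ha, b, hb, rfl⟩
  exact sub_mem (S.mem_mul (S.mem_one (hUJ ha)) (S.mem_one (hUJ hb)))
    (S.mem_mul (S.mem_one (hUJ hb)) (S.mem_one (hUJ ha)))

theorem C_le_BU {U : Submodule k A} (hJU : S.J ≤ U ⊔ S.J ^ 2) : C ≤ BU U ⊔ S.D3 := by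
  refine S.C_le_span.trans (Submodule.span_le.2 ?_)
  rintro _ ⟨a, ha, b, hb, rfl⟩
  obtain ⟨u, hu, w, hw, rfl⟩ := Submodule.mem_sup.1 (hJU ha)
  obtain ⟨u', hu', w', hw', rfl⟩ := Submodule.mem_sup.1 (hJU hb)
  have huJ : u ∈ S.J := by simpa using sub_mem ha (S.sq_le hw)
  rw [SetLike.mem_coe, show (u + w) * (u' + w') - (u' + w') * (u + w) =
    (u * u' - u' * u) + ((u * w' - w' * u) + -((u' + w') * w - w * (u' + w'))) by noncomm_ring]
  exact Submodule.add_mem_sup (Submodule.subset_span ⟨u, hu, u', hu', rfl⟩)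
    (add_mem (Submodule.subset_span ⟨u, huJ, w', hw', rfl⟩)
      (neg_mem (Submodule.subset_span ⟨u' + w', hb, w, hw, rfl⟩)))

theorem BU_le_line {U : Submodule k A} {X Y : A} (hU : U ≤ Submodule.span k {X, Y}) :
    BU U ≤ (k ∙ (X * Y - Y * X)) := by
  refine Submodule.span_le.2 ?_
  rintro _ ⟨a, ha, b, hb, rfl⟩
  refine bracket_mem ?_ (hU ha) (hU hb)
  have hm := Submodule.mem_span_singleton_self (R := k) (X * Y - Y * X)
  rintro g (rfl | rfl) g' (rfl | rfl)
  · simp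
  · exact hm
  · simpa using neg_mem hm
  · simp

theorem finrank_BU_le_three [FiniteDimensional k A] {U : Submodule k A} {u v x : A}
    (hU : U ≤ Submodule.span k {u, v, x}) : Module.finrank k (BU U) ≤ 3 := by
  classical
  set T := Submodule.span k ({u * v - v * u, v * x - x * v, x * u - u * x} : Set A) with hT
  have h1 : u * v - v * u ∈ T := Submodule.subset_span (by simp)
  have h2 : v * x - x * v ∈ T := Submodule.subset_span (by simp)
  have h3 : x * u - u * x ∈ T := Submodule.subset_span (by simp)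
  have hle : BU U ≤ T := by
    refine Submodule.span_le.2 ?_
    rintro _ ⟨a, ha, b, hb, rfl⟩
    refine bracket_mem ?_ (hU ha) (hU hb)
    clear_value T
    rintro g (rfl | rfl | rfl) g' (rfl | rfl | rfl) <;>
      first
        | exact h1
        | exact h2
        | exact h3
        | (simpa using neg_mem h1)
        | (simpa using neg_mem h2)
        | (simpa using neg_mem h3)
        | simp
  have h := (finrank_span_finset_le_card (R := k)
    ({u * v - v * u, v * x - x * v, x * u - u * x} : Finset A)).trans Finset.card_le_three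
  rw [Finset.coe_insert, Finset.coe_insert, Finset.coe_singleton] at h
  exact (Submodule.finrank_mono hle).trans h

/-- The layer of degree `n`. -/
abbrev Lay (n : ℕ) : Submodule k (A ⧸ S.J ^ (n + 1)) := (S.J ^ n).map (S.J ^ (n + 1)).mkQ

/-- The class in a layer. -/
def cls (n : ℕ) : ↥(S.J ^ n) →ₗ[k] S.Lay n :=
  ((S.J ^ (n + 1)).mkQ.comp (S.J ^ n).subtype).codRestrict _
    fun y => Submodule.mem_map_of_mem y.2

theorem cls_surjective (n : ℕ) : Function.Surjective (S.cls n) := by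
  rintro ⟨_, y, hy, rfl⟩
  exact ⟨⟨y, hy⟩, rfl⟩

theorem cls_eq_zero {n : ℕ} (y : ↥(S.J ^ n)) : S.cls n y = 0 ↔ (y : A) ∈ S.J ^ (n + 1) := by
  rw [← Submodule.Quotient.mk_eq_zero]
  exact Subtype.ext_iff

theorem finrank_lay [FiniteDimensional k A] {n : ℕ} (hn : 1 ≤ n) :
    Module.finrank k (S.Lay n) + Module.finrank k (S.J ^ (n + 1) : Submodule k A) =
      Module.finrank k (S.J ^ n : Submodule k A) := by
  have h := LinearMap.finrank_range_add_finrank_ker (S.cls n)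
  rw [LinearMap.range_eq_top.2 (S.cls_surjective n), _root_.finrank_top] at h
  have e : LinearMap.ker (S.cls n) = (S.J ^ (n + 1)).comap (S.J ^ n).subtype := by
    ext y
    rw [LinearMap.mem_ker, S.cls_eq_zero]
    rfl
  rwa [e, (Submodule.comapSubtypeEquivOfLe (S.pow_succ_le hn)).finrank_eq] at h

/-- A section of the second layer. -/
noncomputable def sec : S.Lay 2 →ₗ[k] ↥(S.J ^ 2) :=
  Classical.choose (LinearMap.exists_rightInverse_of_surjective (S.cls 2)
    (LinearMap.range_eq_top.2 (S.cls_surjective 2)))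

theorem cls_sec (w : S.Lay 2) : S.cls 2 (S.sec w) = w :=
  LinearMap.congr_fun (Classical.choose_spec (LinearMap.exists_rightInverse_of_surjective (S.cls 2)
    (LinearMap.range_eq_top.2 (S.cls_surjective 2)))) w

variable {U : Submodule k A} (hUJ : U ≤ S.J)

/-- Product of generators. -/
def mm : U →ₗ[k] U →ₗ[k] S.Lay 2 :=
  LinearMap.mk₂ k (fun a b => S.cls 2 ⟨(a : A) * b,
      S.mem_mul (S.mem_one (hUJ a.2)) (S.mem_one (hUJ b.2))⟩)
    (fun _ _ _ => by rw [← map_add]; congr 1; ext; simp [add_mul])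
    (fun _ _ _ => by rw [← map_smul]; congr 1; ext; simp)
    (fun _ _ _ => by rw [← map_add]; congr 1; ext; simp [mul_add])
    (fun _ _ _ => by rw [← map_smul]; congr 1; ext; simp)

/-- Generators times the second layer. -/
noncomputable def ll : U →ₗ[k] S.Lay 2 →ₗ[k] S.Lay 3 :=
  LinearMap.mk₂ k (fun a w => S.cls 3 ⟨(a : A) * S.sec w,
      S.mem_mul (i := 1) (j := 2) (S.mem_one (hUJ a.2)) (S.sec w).2⟩)
    (fun _ _ _ => by rw [← map_add]; congr 1; ext; simp [add_mul])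
    (fun _ _ _ => by rw [← map_smul]; congr 1; ext; simp)
    (fun _ _ _ => by rw [← map_add]; congr 1; ext; simp [mul_add])
    (fun _ _ _ => by rw [← map_smul]; congr 1; ext; simp)

/-- The second layer times generators. -/
noncomputable def rr : S.Lay 2 →ₗ[k] U →ₗ[k] S.Lay 3 :=
  LinearMap.mk₂ k (fun w a => S.cls 3 ⟨(S.sec w : A) * a,
      S.mem_mul (i := 2) (j := 1) (S.sec w).2 (S.mem_one (hUJ a.2))⟩)
    (fun _ _ _ => by rw [← map_add]; congr 1; ext; simp [add_mul])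
    (fun _ _ _ => by rw [← map_smul]; congr 1; ext; simp)
    (fun _ _ _ => by rw [← map_add]; congr 1; ext; simp [mul_add])
    (fun _ _ _ => by rw [← map_smul]; congr 1; ext; simp)

theorem sec_sub (y : ↥(S.J ^ 2)) : (S.sec (S.cls 2 y) : A) - y ∈ S.J ^ 3 := by
  have h : S.cls 2 (S.sec (S.cls 2 y) - y) = 0 := by rw [map_sub, S.cls_sec, sub_self]
  simpa using (S.cls_eq_zero _).1 h

theorem ll_cls (a : U) (y : ↥(S.J ^ 2)) :
    S.ll hUJ a (S.cls 2 y) = S.cls 3 ⟨(a : A) * y,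
      S.mem_mul (i := 1) (j := 2) (S.mem_one (hUJ a.2)) y.2⟩ := by
  rw [← sub_eq_zero]
  simp only [ll, LinearMap.mk₂_apply]
  rw [← map_sub, S.cls_eq_zero]
  simp only [AddSubgroupClass.coe_sub, ← mul_sub]
  exact S.mem_mul (i := 1) (j := 3) (S.mem_one (hUJ a.2)) (S.sec_sub y)

theorem rr_cls (y : ↥(S.J ^ 2)) (a : U) :
    S.rr hUJ (S.cls 2 y) a = S.cls 3 ⟨(y : A) * a,
      S.mem_mul (i := 2) (j := 1) y.2 (S.mem_one (hUJ a.2))⟩ := by
  rw [← sub_eq_zero]
  simp only [rr, LinearMap.mk₂_apply]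
  rw [← map_sub, S.cls_eq_zero]
  simp only [AddSubgroupClass.coe_sub, ← sub_mul]
  exact S.mem_mul (i := 3) (j := 1) (S.sec_sub y) (S.mem_one (hUJ a.2))

theorem assoc_layers (a b c : U) :
    S.ll hUJ a (S.mm hUJ b c) = S.rr hUJ (S.mm hUJ a b) c := by
  simp only [mm, LinearMap.mk₂_apply]
  rw [S.ll_cls, S.rr_cls]
  congr 1; ext; simp [mul_assoc]

/-- A subspace of a layer that contains enough classes is everything. -/
theorem lay_eq_top {n : ℕ} (P : Submodule k (S.Lay n))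
    (h : S.J ^ n ≤ (P.comap (S.cls n)).map (S.J ^ n).subtype) : P = ⊤ := by
  rw [eq_top_iff]
  intro w _
  obtain ⟨y, rfl⟩ := S.cls_surjective n w
  obtain ⟨y', hy', e⟩ := h y.2
  rwa [Subtype.ext e] at hy'

theorem mem_pre {n : ℕ} (P : Submodule k (S.Lay n)) {x : A} (hx : x ∈ S.J ^ n)
    (h : S.cls n ⟨x, hx⟩ ∈ P) : x ∈ (P.comap (S.cls n)).map (S.J ^ n).subtype :=
  ⟨⟨x, hx⟩, h, rfl⟩

theorem next_le_pre {n : ℕ} (hn : 1 ≤ n) (P : Submodule k (S.Lay n)) :
    S.J ^ (n + 1) ≤ (P.comap (S.cls n)).map (S.J ^ n).subtype := fun x hx =>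
  S.mem_pre P (S.pow_succ_le hn hx) (by rw [(S.cls_eq_zero _).2 hx]; exact zero_mem _)

theorem span_mm (hJU : S.J ≤ U ⊔ S.J ^ 2) :
    Submodule.span k (Set.range fun p : U × U => S.mm hUJ p.1 p.2) = ⊤ := by
  refine S.lay_eq_top _ ?_
  set P := Submodule.span k (Set.range fun p : U × U => S.mm hUJ p.1 p.2) with hP
  intro x hx
  have hx' : x ∈ S.J * S.J := by rwa [← pow_two]
  clear hx
  induction hx' using Submodule.mul_induction_on' with
  | mem_mul_mem a ha b hb =>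
    obtain ⟨u, hu, w, hw, rfl⟩ := Submodule.mem_sup.1 (hJU ha)
    obtain ⟨u', hu', w', hw', rfl⟩ := Submodule.mem_sup.1 (hJU hb)
    rw [show (u + w) * (u' + w') = u * u' + (u * w' + w * (u' + w')) by noncomm_ring]
    refine add_mem (S.mem_pre P (S.mem_mul (S.mem_one (hUJ hu)) (S.mem_one (hUJ hu'))) ?_)
      (S.next_le_pre (by norm_num) P
        (add_mem (S.mem_mul (i := 1) (j := 2) (S.mem_one (hUJ hu)) hw')
          (S.mem_mul (i := 2) (j := 1) hw (S.mem_one hb))))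
    exact Submodule.subset_span ⟨(⟨u, hu⟩, ⟨u', hu'⟩), rfl⟩
  | add _ _ _ _ h1 h2 => exact add_mem h1 h2

theorem span_brackets_mm (h : S.J ^ 2 ≤ C ⊔ S.J ^ 3) (hJU : S.J ≤ U ⊔ S.J ^ 2) :
    Submodule.span k (Set.range fun p : U × U => S.mm hUJ p.1 p.2 - S.mm hUJ p.2 p.1) = ⊤ := by
  refine S.lay_eq_top _ ?_
  set P := Submodule.span k (Set.range fun p : U × U => S.mm hUJ p.1 p.2 - S.mm hUJ p.2 p.1)
    with hP
  refine h.trans (sup_le ((S.C_le_BU hJU).trans (sup_le ?_ (S.D3_le.trans ?_))) ?_)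
  · refine Submodule.span_le.2 ?_
    rintro _ ⟨a, ha, b, hb, rfl⟩
    refine S.mem_pre P (sub_mem (S.mem_mul (S.mem_one (hUJ ha)) (S.mem_one (hUJ hb)))
      (S.mem_mul (S.mem_one (hUJ hb)) (S.mem_one (hUJ ha)))) ?_
    refine Submodule.subset_span ⟨(⟨a, ha⟩, ⟨b, hb⟩), ?_⟩
    simp only [mm, LinearMap.mk₂_apply]
    rw [← map_sub]; rfl
  · exact S.next_le_pre (by norm_num) P
  · exact S.next_le_pre (by norm_num) P

theorem span_ll (hJU : S.J ≤ U ⊔ S.J ^ 2) :
    Submodule.span k (Set.range fun p : U × S.Lay 2 => S.ll hUJ p.1 p.2) = ⊤ := by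
  refine S.lay_eq_top _ ?_
  set P := Submodule.span k (Set.range fun p : U × S.Lay 2 => S.ll hUJ p.1 p.2) with hP
  intro x hx
  have hx' : x ∈ S.J * S.J ^ 2 := by rwa [← pow_succ']
  clear hx
  induction hx' using Submodule.mul_induction_on' with
  | mem_mul_mem a ha y hy =>
    obtain ⟨u, hu, w, hw, rfl⟩ := Submodule.mem_sup.1 (hJU ha)
    rw [add_mul]
    refine add_mem (S.mem_pre P (S.mem_mul (i := 1) (j := 2) (S.mem_one (hUJ hu)) hy) ?_)
      (S.next_le_pre (by norm_num) P (S.mem_mul (i := 2) (j := 2) hw hy))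
    exact Submodule.subset_span ⟨(⟨u, hu⟩, S.cls 2 ⟨y, hy⟩), S.ll_cls hUJ _ _⟩
  | add _ _ _ _ h1 h2 => exact add_mem h1 h2

/-- If the brackets of the generators are independent modulo the cube, the third layer is spanned
by brackets. -/
theorem span_brackets_ll (h : S.J ^ 3 ≤ C ⊔ S.J ^ 4) (hJU : S.J ≤ U ⊔ S.J ^ 2)
    (hB : BU U ⊓ S.J ^ 3 = ⊥) :
    Submodule.span k (Set.range fun p : U × S.Lay 2 =>
      S.ll hUJ p.1 p.2 - S.rr hUJ p.2 p.1) = ⊤ := by
  refine S.lay_eq_top _ ?_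
  set P := Submodule.span k (Set.range fun p : U × S.Lay 2 =>
    S.ll hUJ p.1 p.2 - S.rr hUJ p.2 p.1) with hP
  have hD : S.D3 ≤ (P.comap (S.cls 3)).map (S.J ^ 3).subtype := by
    refine Submodule.span_le.2 ?_
    rintro _ ⟨a, ha, y, hy, rfl⟩
    obtain ⟨u, hu, w, hw, rfl⟩ := Submodule.mem_sup.1 (hJU ha)
    rw [SetLike.mem_coe,
      show (u + w) * y - y * (u + w) = (u * y - y * u) + (w * y - y * w) by noncomm_ring]
    refine add_mem (S.mem_pre P (sub_mem (S.mem_mul (i := 1) (j := 2) (S.mem_one (hUJ hu)) hy)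
      (S.mem_mul (i := 2) (j := 1) hy (S.mem_one (hUJ hu)))) ?_)
      (S.next_le_pre (by norm_num) P (sub_mem (S.mem_mul (i := 2) (j := 2) hw hy)
        (S.mem_mul (i := 2) (j := 2) hy hw)))
    refine Submodule.subset_span ⟨(⟨u, hu⟩, S.cls 2 ⟨y, hy⟩), ?_⟩
    simp only [S.ll_cls, S.rr_cls]
    rw [← map_sub]; rfl
  intro x hx
  obtain ⟨c, hc, z, hz, rfl⟩ := Submodule.mem_sup.1 (h hx)
  obtain ⟨β, hβ, δ, hδ, rfl⟩ := Submodule.mem_sup.1 (S.C_le_BU hJU hc)
  have hβ3 : β ∈ S.J ^ 3 := by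
    have h4 := S.pow_succ_le (n := 3) (by norm_num) hz
    simpa using sub_mem (sub_mem hx h4) (S.D3_le hδ)
  have : β = 0 := by
    have hb : β ∈ BU U ⊓ S.J ^ 3 := ⟨hβ, hβ3⟩
    rwa [hB, Submodule.mem_bot] at hb
  rw [this, zero_add]
  exact add_mem (hD hδ) (S.next_le_pre (by norm_num) P hz)

theorem ndl_layers (hU : U ⊓ S.J ^ 2 = ⊥)
    (hnd : ∀ y ∈ S.J, (∀ w ∈ S.J ^ 2, y * w ∈ S.J ^ 4) → y ∈ S.J ^ 2) (a : U)
    (ha : S.ll hUJ a = 0) : a = 0 := by
  have h : (a : A) ∈ U ⊓ S.J ^ 2 := ⟨a.2, hnd _ (hUJ a.2) fun w hw => by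
    have e := LinearMap.congr_fun ha (S.cls 2 ⟨w, hw⟩)
    rw [S.ll_cls, LinearMap.zero_apply, S.cls_eq_zero] at e
    exact e⟩
  rw [hU, Submodule.mem_bot] at h
  exact Subtype.ext h

theorem ndr_layers (hU : U ⊓ S.J ^ 2 = ⊥)
    (hnd : ∀ y ∈ S.J, (∀ w ∈ S.J ^ 2, w * y ∈ S.J ^ 4) → y ∈ S.J ^ 2) (a : U)
    (ha : ∀ w, S.rr hUJ w a = 0) : a = 0 := by
  have h : (a : A) ∈ U ⊓ S.J ^ 2 := ⟨a.2, hnd _ (hUJ a.2) fun w hw => by
    have e := ha (S.cls 2 ⟨w, hw⟩)
    rw [S.rr_cls, S.cls_eq_zero] at e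
    exact e⟩
  rw [hU, Submodule.mem_bot] at h
  exact Subtype.ext h

end LocalSym

end Cfsg.Agent.BlockAlg
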