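/-
Twisted three dimensional algebras whose brackets fill them have a trace in degree three.
-/
import Mathlib.RingTheory.SimpleModule.IsAlgClosed
import Mathlib.RingTheory.Jacobson.Semiprimary
import Mathlib.RingTheory.Artinian.Module
import Mathlib.LinearAlgebra.Dual.Lemmas
import Mathlib.LinearAlgebra.Matrix.ToLin
import Mathlib.LinearAlgebra.FiniteDimensional.Basic
import Mathlib.Tactic.Module
import Mathlib.Tactic.LinearCombination

set_option linter.unusedSectionVars false
set_option autoImplicit false

namespace Cfsg.Agent.BlockAlg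

variable {k : Type*} [Field k]

/-- An algebra of dimension at most three over an algebraically closed field has a character. -/
theorem exists_algHom_of_small [IsAlgClosed k] {B : Type*} [Ring B] [Algebra k B]
    [FiniteDimensional k B] [Nontrivial B] (h : Module.finrank k B ≤ 3) :
    Nonempty (B →ₐ[k] k) := by
  classical
  haveI : IsArtinianRing B := IsArtinianRing.of_finite k B
  let J : Ideal B := Ring.jacobson B
  haveI : IsSemisimpleRing (B ⧸ J) := IsSemiprimaryRing.isSemisimpleRing
  obtain ⟨r, d, hd, ⟨φ⟩⟩ := IsSemisimpleRing.exists_algEquiv_pi_matrix_of_isAlgClosed k (B ⧸ J)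
  let q : B →ₐ[k] (Π i, Matrix (Fin (d i)) (Fin (d i)) k) :=
    φ.toAlgHom.comp (Ideal.Quotient.mkₐ k J)
  have hqs : Function.Surjective q := φ.surjective.comp (Ideal.Quotient.mkₐ_surjective k J)
  obtain ⟨i⟩ : Nonempty (Fin r) := by
    by_contra hr
    haveI : IsEmpty (Fin r) := not_nonempty_iff.1 hr
    have h1 : q (1 : B) = q 0 := Subsingleton.elim _ _
    have h2 : Ideal.Quotient.mkₐ k J (1 : B) = Ideal.Quotient.mkₐ k J 0 := φ.injective h1
    have hJ : (1 : B) ∈ J := by
      rw [map_zero] at h2
      exact Ideal.Quotient.eq_zero_iff_mem.1 h2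
    have hnil : IsNilpotent J := IsSemiprimaryRing.isNilpotent
    obtain ⟨n, hn⟩ := hnil
    have : ∀ j : ℕ, (1 : B) ∈ J ^ (j + 1) := fun j => by
      induction j with
      | zero => rwa [zero_add, Submodule.pow_one]
      | succ j ih => rw [← mul_one (1 : B), Submodule.pow_succ]; exact Submodule.mul_mem_mul ih hJ
    have h3 := this n
    rw [Submodule.pow_succ, hn] at h3
    simp at h3
  haveI : NeZero (d i) := hd i
  let qi : B →ₐ[k] Matrix (Fin (d i)) (Fin (d i)) k := (Pi.evalAlgHom k _ i).comp q
  have hqi : Function.Surjective qi := fun X => by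
    obtain ⟨x, hx⟩ := hqs (Pi.single i X)
    exact ⟨x, show q x i = X by rw [hx, Pi.single_eq_same]⟩
  have hdim := LinearMap.finrank_le_finrank_of_surjective (f := qi.toLinearMap) hqi
  rw [Module.finrank_matrix, Module.finrank_self, Fintype.card_fin, mul_one] at hdim
  have hd1 : d i = 1 := by
    have := (hd i).out
    by_contra h2
    have : 2 ≤ d i := by omega
    nlinarith
  haveI : Subsingleton (Fin (d i)) := hd1 ▸ inferInstance
  refine ⟨AlgHom.ofLinearMap
    { toFun := fun x => qi x 0 0
      map_add' := fun x y => by simp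
      map_smul' := fun c x => by simp } (by simp) fun x y => ?_⟩
  show qi (x * y) 0 0 = qi x 0 0 * qi y 0 0
  rw [map_mul, Matrix.mul_apply, Fintype.sum_subsingleton _ 0]

variable {V : Type*} [AddCommGroup V] [Module k V]

/-- A unital associative product on a small space has a character. -/
theorem exists_character_of_op [IsAlgClosed k] [FiniteDimensional k V]
    (hV : Module.finrank k V ≤ 3) (op : V →ₗ[k] V →ₗ[k] V) (a : V) (ha : a ≠ 0)
    (hl : ∀ b, op a b = b) (hr : ∀ b, op b a = b)
    (hassoc : ∀ x y z, op (op x y) z = op x (op y z)) :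
    ∃ χ : V →ₗ[k] k, χ a = 1 ∧ ∀ x y, χ (op x y) = χ x * χ y := by
  let P : Submodule k (Module.End k V) := LinearMap.range op
  have h1 : (1 : Module.End k V) ∈ P := ⟨a, LinearMap.ext hl⟩
  have hmul : ∀ x y, x ∈ P → y ∈ P → x * y ∈ P := by
    rintro _ _ ⟨x, rfl⟩ ⟨y, rfl⟩
    exact ⟨op x y, LinearMap.ext fun z => hassoc x y z⟩
  let B : Subalgebra k (Module.End k V) := P.toSubalgebra h1 hmul
  haveI : Nontrivial V := ⟨⟨a, 0, ha⟩⟩
  haveI : Nontrivial B := ⟨⟨1, 0, fun h => one_ne_zero (congrArg Subtype.val h)⟩⟩
  have hB : Module.finrank k B ≤ 3 := le_trans (LinearMap.finrank_range_le op) hV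
  obtain ⟨ψ⟩ := exists_algHom_of_small (k := k) hB
  let lift : V →ₗ[k] B :=
    { toFun := fun x => ⟨op x, ⟨x, rfl⟩⟩
      map_add' := fun x y => Subtype.ext (map_add op x y)
      map_smul' := fun c x => Subtype.ext (map_smul op c x) }
  refine ⟨ψ.toLinearMap ∘ₗ lift, ?_, fun x y => ?_⟩
  · show ψ (lift a) = 1
    rw [show lift a = 1 from Subtype.ext (LinearMap.ext hl), map_one]
  · show ψ (lift (op x y)) = ψ (lift x) * ψ (lift y)
    rw [← map_mul]
    exact congrArg ψ (Subtype.ext (LinearMap.ext fun z => hassoc x y z))

/-- Distinct characters of a product are independent. -/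
theorem linearIndependent_characters {ι : Type*} (op : V →ₗ[k] V →ₗ[k] V)
    (χ : ι → V →ₗ[k] k) (a : V) (ha : ∀ i, χ i a = 1)
    (hm : ∀ i x y, χ i (op x y) = χ i x * χ i y) (hinj : Function.Injective χ) :
    LinearIndependent k χ := by
  classical
  rw [linearIndependent_iff']
  intro s
  induction s using Finset.induction_on with
  | empty => simp
  | @insert j s hj ih =>
    intro g hg
    have hs : ∀ i ∈ s, g i = 0 := by
      intro i hi
      have hij : i ≠ j := fun h => hj (h ▸ hi)
      obtain ⟨u, hu⟩ : ∃ u, χ i u ≠ χ j u := by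
        by_contra h
        push Not at h
        exact hij (hinj (LinearMap.ext h))
      have h0 := ih (fun l => g l * (χ l u - χ j u)) (LinearMap.ext fun x => by
        have e1 := LinearMap.congr_fun hg (op u x)
        have e2 := LinearMap.congr_fun hg x
        simp only [Finset.sum_insert hj, LinearMap.add_apply, LinearMap.coe_sum, Finset.sum_apply,
          LinearMap.smul_apply, smul_eq_mul, LinearMap.zero_apply, hm] at e1 e2 ⊢
        have e : ∑ l ∈ s, g l * (χ l u - χ j u) * χ l x =
            ∑ l ∈ s, g l * (χ l u * χ l x) - χ j u * ∑ l ∈ s, g l * χ l x := by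
          rw [Finset.mul_sum, ← Finset.sum_sub_distrib]
          exact Finset.sum_congr rfl fun l _ => by ring
        rw [e]
        linear_combination e1 - χ j u * e2) i hi
      exact (mul_eq_zero.1 h0).resolve_right (sub_ne_zero.2 hu)
    intro i hi
    rcases Finset.mem_insert.1 hi with rfl | hi
    · have e := LinearMap.congr_fun hg a
      simp only [Finset.sum_insert hj, LinearMap.add_apply, LinearMap.coe_sum, Finset.sum_apply,
        LinearMap.smul_apply, smul_eq_mul, LinearMap.zero_apply, ha, mul_one,
        Finset.sum_eq_zero hs, add_zero] at e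
      exact e
    · exact hs i hi

/-- A twisted product whose brackets fill the space has brackets of the next degree in a
hyperplane. -/
theorem false_of_twisted [IsAlgClosed k] [FiniteDimensional k V] (hV : Module.finrank k V = 3)
    (circ : V →ₗ[k] V →ₗ[k] V) (q : V ≃ₗ[k] V) (a : V) (ha : a ≠ 0)
    (hl : ∀ b, circ a b = b) (hr : ∀ u, circ u a = q u)
    (hassoc : ∀ u b c, circ (circ u b) c = circ (q u) (circ b c))
    (h1 : Submodule.span k (Set.range fun p : V × V => circ p.1 p.2 - circ p.2 p.1) = ⊤)
    (h2 : Submodule.span k (Set.range fun p : V × V => circ (q p.1) p.2 - circ p.2 p.1) = ⊤) :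
    False := by
  classical
  have hqa : q a = a := by rw [← hr, hl]
  have hqh : ∀ u b, q (circ u b) = circ (q u) (q b) := fun u b => by rw [← hr, hassoc, hr b]
  let op : V →ₗ[k] V →ₗ[k] V := circ.comp q.symm.toLinearMap
  have hsa : q.symm a = a := by rw [LinearEquiv.symm_apply_eq, hqa]
  have hopl : ∀ b, op a b = b := fun b => by show circ (q.symm a) b = b; rw [hsa, hl]
  have hopr : ∀ b, op b a = b := fun b => by show circ (q.symm b) a = b; rw [hr, q.apply_symm_apply]
  have hopa : ∀ x y z, op (op x y) z = op x (op y z) := by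
    intro x y z
    show circ (q.symm (circ (q.symm x) y)) z = circ (q.symm x) (circ (q.symm y) z)
    have e : q.symm (circ (q.symm x) y) = circ (q.symm (q.symm x)) (q.symm y) := by
      rw [LinearEquiv.symm_apply_eq, hqh, q.apply_symm_apply, q.apply_symm_apply]
    rw [e, hassoc, q.apply_symm_apply]
  obtain ⟨χ₀, hχ₀a, hχ₀⟩ := exists_character_of_op hV.le op a ha hopl hopr hopa
  let χ : ℕ → V →ₗ[k] k := fun i => χ₀ ∘ₗ (q.toLinearMap ^ i)
  have hsucc : ∀ i x, χ (i + 1) x = χ i (q x) := fun i x => by
    simp only [χ, LinearMap.comp_apply, pow_succ, Module.End.mul_apply]; rfl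
  have h0 : ∀ x, χ 0 x = χ₀ x := fun x => rfl
  have hχa : ∀ i, χ i a = 1 := by
    intro i
    induction i with
    | zero => rw [h0, hχ₀a]
    | succ i ih => rw [hsucc, hqa, ih]
  -- the rule for the twisted product
  have hcirc : ∀ i u b, χ i (circ u b) = χ (i + 1) u * χ i b := by
    intro i
    induction i with
    | zero =>
      intro u b
      rw [h0, h0, hsucc, h0, ← hχ₀]
      show χ₀ (circ u b) = χ₀ (circ (q.symm (q u)) b)
      rw [q.symm_apply_apply]
    | succ i ih => intro u b; rw [hsucc, hqh, ih]; simp only [hsucc]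
  have hop : ∀ i x y, χ i (op x y) = χ i x * χ i y := fun i x y => by
    show χ i (circ (q.symm x) y) = _
    rw [hcirc, hsucc, q.apply_symm_apply]
  have hspan : ∀ {S : Set V} (φ : V →ₗ[k] k), Submodule.span k S = ⊤ → (∀ x ∈ S, φ x = 0) → φ = 0 :=
    fun φ hS h => LinearMap.ext fun x =>
      (Submodule.span_le (p := LinearMap.ker φ)).2 h (hS ▸ Submodule.mem_top : x ∈ Submodule.span k _)
  have hinjq : ∀ i j, χ (i + 1) = χ (j + 1) → χ i = χ j := fun i j h =>
    LinearMap.ext fun x => by
      have := LinearMap.congr_fun h (q.symm x)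
      rwa [hsucc, hsucc, q.apply_symm_apply] at this
  have h01 : χ 1 ≠ χ 0 := fun h => by
    have hz := hspan (χ 0) h1 (by
      rintro _ ⟨⟨u, b⟩, rfl⟩
      rw [map_sub, hcirc, hcirc, h]
      ring)
    have := LinearMap.congr_fun hz a
    rw [hχa, LinearMap.zero_apply] at this
    exact one_ne_zero this
  have h02 : χ 2 ≠ χ 0 := fun h => by
    have hz := hspan (χ 0 + χ 1) h1 (by
      rintro _ ⟨⟨u, b⟩, rfl⟩
      simp only [LinearMap.add_apply, map_sub, hcirc, h]
      ring)
    refine h01 (LinearMap.ext fun x => ?_)
    have e := LinearMap.congr_fun hz x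
    have e1 := LinearMap.congr_fun hz a
    simp only [LinearMap.add_apply, hχa, LinearMap.zero_apply] at e e1
    linear_combination e - χ 0 x * e1
  have h12 : χ 2 ≠ χ 1 := fun h => h01 (hinjq 1 0 h)
  have hthree : LinearIndependent k fun i : Fin 3 => χ i := by
    refine linearIndependent_characters op _ a (fun i => hχa _) (fun i => hop _) ?_
    intro i j h
    fin_cases i <;> fin_cases j <;>
      first
        | rfl
        | exact absurd h h01
        | exact absurd h.symm h01
        | exact absurd h h02
        | exact absurd h.symm h02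
        | exact absurd h h12
        | exact absurd h.symm h12
  have h30 : χ 3 = χ 0 := by
    by_contra h3
    have h31 : χ 3 ≠ χ 1 := fun h => h02 (hinjq 2 0 h)
    have h32 : χ 3 ≠ χ 2 := fun h => h12 (hinjq 2 1 h)
    have hfour : LinearIndependent k fun i : Fin 4 => χ i := by
      refine linearIndependent_characters op _ a (fun i => hχa _) (fun i => hop _) ?_
      intro i j h
      fin_cases i <;> fin_cases j <;>
        first
          | rfl
          | exact absurd h h01
          | exact absurd h.symm h01
          | exact absurd h h02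
          | exact absurd h.symm h02
          | exact absurd h h12
          | exact absurd h.symm h12
          | exact absurd h h3
          | exact absurd h.symm h3
          | exact absurd h h31
          | exact absurd h.symm h31
          | exact absurd h h32
          | exact absurd h.symm h32
    have := hfour.fintype_card_le_finrank
    rw [Fintype.card_fin, Subspace.dual_finrank_eq, hV] at this
    omega
  have hz := hspan (χ 0 + χ 1 + χ 2) h2 (by
    rintro _ ⟨⟨u, b⟩, rfl⟩
    simp only [LinearMap.add_apply, map_sub, hcirc, ← hsucc, Nat.reduceAdd]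
    rw [show χ 4 u = χ 1 u by
      rw [hsucc 3, h30, ← hsucc 0], show χ 3 b = χ 0 b by rw [h30], h30]
    ring)
  have := Fintype.linearIndependent_iff.1 hthree (fun _ => 1) (by
    simpa [Fin.sum_univ_three] using hz) 0
  exact one_ne_zero this

end Cfsg.Agent.BlockAlg
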