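/-
Graded products on three generators: brackets cannot fill the second and the third layer.
-/
import Cfsg.Agent.Lib.BlockAlg.TwistedAlg
import Mathlib.LinearAlgebra.Determinant
import Mathlib.LinearAlgebra.Matrix.Determinant.Basic
import Mathlib.LinearAlgebra.Alternating.Basic
import Mathlib.Tactic.FinCases

set_option linter.unusedSectionVars false
set_option autoImplicit false
set_option linter.style.haveILetI false
set_option maxHeartbeats 2000000

namespace Cfsg.Agent.BlockAlg.ThreeGen

variable {k : Type*} [Field k] {V W M : Type*} [AddCommGroup V] [Module k V] [AddCommGroup W]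
  [Module k W] [AddCommGroup M] [Module k M]

/-- Two functionals with product zero: one of them is zero. -/
theorem eq_zero_of_mul (f g : V →ₗ[k] k) (h : ∀ x, f x * g x = 0) (hf : f ≠ 0) : g = 0 := by
  obtain ⟨x, hx⟩ : ∃ x, f x ≠ 0 := by
    by_contra h0; push Not at h0; exact hf (LinearMap.ext h0)
  have hgx : g x = 0 := (mul_eq_zero.1 (h x)).resolve_left hx
  refine LinearMap.ext fun y => ?_
  by_contra hy
  have hfy : f y = 0 := (mul_eq_zero.1 (h y)).resolve_right hy
  have := h (x + y)
  simp only [map_add, hfy, hgx, add_zero, zero_add, mul_eq_zero] at this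
  exact this.elim hx hy

/-- Over an infinite field three nonzero functionals have a common non-zero. -/
theorem eq_zero_of_mul_three [Infinite k] (f g h : V →ₗ[k] k) (hz : ∀ x, f x * g x * h x = 0) :
    f = 0 ∨ g = 0 ∨ h = 0 := by
  classical
  by_contra hc
  push Not at hc
  obtain ⟨hf, hg, hh⟩ := hc
  obtain ⟨x, hfx, hgx⟩ : ∃ x, f x ≠ 0 ∧ g x ≠ 0 := by
    by_contra h0
    push Not at h0
    exact hg (eq_zero_of_mul f g (fun x => by
      rcases eq_or_ne (f x) 0 with e | e
      · rw [e, zero_mul]
      · rw [h0 x e, mul_zero]) hf)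
  obtain ⟨y, hy⟩ : ∃ y, h y ≠ 0 := by
    by_contra h0; push Not at h0; exact hh (LinearMap.ext h0)
  obtain ⟨t, ht⟩ := Infinite.exists_notMem_finset
    ({-(f x) / f y, -(g x) / g y, -(h x) / h y} : Finset k)
  simp only [Finset.mem_insert, Finset.mem_singleton, not_or] at ht
  have := hz (x + t • y)
  simp only [map_add, map_smul, smul_eq_mul, mul_eq_zero] at this
  have key : ∀ F : V →ₗ[k] k, (F x ≠ 0 ∨ F y ≠ 0) → t ≠ -(F x) / F y → F x + t * F y ≠ 0 := by
    intro F hF hne h0
    rcases eq_or_ne (F y) 0 with e | e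
    · rw [e, mul_zero, add_zero] at h0
      exact hF.elim (fun h' => h' h0) (fun h' => h' e)
    · exact hne (by rw [eq_div_iff e]; linear_combination h0)
  rcases this with (h' | h') | h'
  · exact key f (Or.inl hfx) ht.1 h'
  · exact key g (Or.inl hgx) ht.2.1 h'
  · exact key h (Or.inr hy) ht.2.2 h'

variable (m : V →ₗ[k] V →ₗ[k] W) (l : V →ₗ[k] W →ₗ[k] M) (r : W →ₗ[k] V →ₗ[k] M)

/-- A space of maps of rank at most one whose images span a space that is not a line has a
common kernel vector. -/
theorem exists_common_kernel [FiniteDimensional k V] [FiniteDimensional k W]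
    (hV : Module.finrank k V = 3) (h1 : ∀ a, Module.finrank k (LinearMap.range (m a)) ≤ 1)
    {a z b z' : V} (hind : LinearIndependent k ![m a z, m b z']) :
    ∃ y, y ≠ 0 ∧ ∀ c, m c y = 0 := by
  have dep : ∀ c, ∀ p q : V, m c q ≠ 0 → ∃ s : k, m c p = s • m c q := by
    intro c p q hq
    have hspan : LinearMap.range (m c) = k ∙ m c q :=
      (Submodule.eq_of_le_of_finrank_le
        ((Submodule.span_singleton_le_iff_mem (m c q) _).2 (LinearMap.mem_range_self (m c) q))
        ((h1 c).trans (le_of_eq (finrank_span_singleton hq).symm))).symm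
    obtain ⟨s, hs⟩ := Submodule.mem_span_singleton.1 (hspan ▸ LinearMap.mem_range_self (m c) p)
    exact ⟨s, hs.symm⟩
  have fact : ∀ a b z z' : V, LinearIndependent k ![m a z, m b z'] →
      ∀ y, m a y = 0 → m b y = 0 := by
    intro a b z z' hi y hy
    have hne : m b z' ≠ 0 := by simpa using hi.ne_zero (1 : Fin 2)
    obtain ⟨β, hβ⟩ := dep b y z' hne
    obtain ⟨β', hβ'⟩ := dep b z z' hne
    have hpair := LinearIndependent.pair_iff.1 hi
    have hq : m (a + b) z ≠ 0 := fun h0 => by
      have := (hpair 1 β' (by rw [one_smul, ← hβ', ← LinearMap.add_apply, ← map_add]; exact h0)).1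
      exact one_ne_zero this
    obtain ⟨s, hs⟩ := dep (a + b) y z hq
    rw [map_add, LinearMap.add_apply, LinearMap.add_apply, hy, zero_add, hβ, hβ', smul_add,
      smul_smul] at hs
    have := hpair s (s * β' - β) (by rw [sub_smul, ← add_sub_assoc, ← hs, sub_self])
    have hβ0 : β = 0 := by
      have h2 := this.2
      rw [this.1, zero_mul, zero_sub, neg_eq_zero] at h2
      exact h2
    rw [hβ, hβ0, zero_smul]
  have ha := LinearMap.finrank_range_add_finrank_ker (m a)
  have hb := LinearMap.finrank_range_add_finrank_ker (m b)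
  have hab := Submodule.finrank_sup_add_finrank_inf_eq (LinearMap.ker (m a)) (LinearMap.ker (m b))
  have hle := Submodule.finrank_le (LinearMap.ker (m a) ⊔ LinearMap.ker (m b))
  have h1a := h1 a
  have h1b := h1 b
  have hne : (LinearMap.ker (m a) ⊓ LinearMap.ker (m b) : Submodule k V) ≠ ⊥ := fun h => by
    rw [h, finrank_bot] at hab
    omega
  obtain ⟨y, ⟨hya, hyb⟩, hy0⟩ := (Submodule.ne_bot_iff _).1 hne
  refine ⟨y, hy0, fun c => ?_⟩
  by_contra hc
  by_cases hline : LinearIndependent k ![m a z, m c y]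
  · exact hc (fact a c z y hline y hya)
  · have hpair := LinearIndependent.pair_iff.1 hind
    have : LinearIndependent k ![m b z', m c y] := by
      rw [LinearIndependent.pair_iff]
      intro s t hst
      by_contra hst0
      apply hline
      rw [LinearIndependent.pair_iff]
      intro s' t' hst'
      have ht : t ≠ 0 := fun h0 => by
        rw [h0, zero_smul, add_zero] at hst
        have := hind.ne_zero (1 : Fin 2)
        simp only [Matrix.cons_val_one, Matrix.cons_val_zero] at this
        exact hst0 ⟨(smul_eq_zero.1 hst).resolve_right this, h0⟩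
      have hcy : m c y = (-(s / t)) • m b z' := by
        have h' : t • m c y = -(s • m b z') := eq_neg_of_add_eq_zero_right hst
        rw [neg_smul, div_eq_inv_mul, mul_smul, ← smul_neg, ← h', smul_smul, inv_mul_cancel₀ ht,
          one_smul]
      have := hpair s' (t' * -(s / t)) (by rw [mul_smul, ← hcy]; exact hst')
      refine ⟨this.1, (mul_eq_zero.1 this.2).resolve_right fun h0 => hc ?_⟩
      rw [hcy, h0, zero_smul]
    exact hc (fact b c z' y this y hyb)

variable (assoc : ∀ a b c, l a (m b c) = r (m a b) c)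
  (hW : Submodule.span k (Set.range fun p : V × V => m p.1 p.2 - m p.2 p.1) = ⊤)
  (hlM : Submodule.span k (Set.range fun p : V × W => l p.1 p.2) = ⊤)
  (ndl : ∀ x, l x = 0 → x = 0) (ndr : ∀ x, (∀ w, r w x = 0) → x = 0)

include hW in
theorem span_products : Submodule.span k (Set.range fun p : V × V => m p.1 p.2) = ⊤ := by
  rw [eq_top_iff, ← hW, Submodule.span_le]
  rintro _ ⟨p, rfl⟩
  exact sub_mem (Submodule.subset_span ⟨p, rfl⟩) (Submodule.subset_span ⟨(p.2, p.1), rfl⟩)

include assoc hW ndr in
theorem kill_right {y : V} (h : ∀ c, m c y = 0) : y = 0 := ndr y fun w => by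
  have hle : Submodule.span k (Set.range fun p : V × V => m p.1 p.2) ≤
      LinearMap.ker (r.flip y) := Submodule.span_le.2 (by
    rintro _ ⟨p, rfl⟩
    show r (m p.1 p.2) y = 0
    rw [← assoc, h, map_zero])
  exact hle (span_products m hW ▸ Submodule.mem_top)

include assoc hW ndl in
theorem kill_left {x : V} (h : ∀ c, m x c = 0) : x = 0 := ndl x (LinearMap.ext fun w => by
  have hle : Submodule.span k (Set.range fun p : V × V => m p.1 p.2) ≤
      LinearMap.ker (l x) := Submodule.span_le.2 (by
    rintro _ ⟨p, rfl⟩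
    show l x (m p.1 p.2) = 0
    rw [assoc, h, map_zero, LinearMap.zero_apply])
  exact hle (span_products m hW ▸ Submodule.mem_top))

include hW in
theorem finrank_W_le [FiniteDimensional k V] (hV : Module.finrank k V = 3) :
    Module.finrank k W ≤ 3 := by
  let e := Module.finBasisOfFinrankEq k V hV
  let br : V → V → W := fun a b => m a b - m b a
  have hle : (⊤ : Submodule k W) ≤
      Submodule.span k (Set.range ![br (e 0) (e 1), br (e 0) (e 2), br (e 1) (e 2)]) := by
    rw [← hW, Submodule.span_le]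
    rintro _ ⟨⟨a, b⟩, rfl⟩
    have hab : m a b - m b a =
        (e.repr a 0 * e.repr b 1 - e.repr a 1 * e.repr b 0) • br (e 0) (e 1) +
        (e.repr a 0 * e.repr b 2 - e.repr a 2 * e.repr b 0) • br (e 0) (e 2) +
        (e.repr a 1 * e.repr b 2 - e.repr a 2 * e.repr b 1) • br (e 1) (e 2) := by
      conv_lhs => rw [← e.sum_repr a, ← e.sum_repr b]
      simp only [Fin.sum_univ_three, map_add, map_smul, LinearMap.add_apply, LinearMap.smul_apply,
        br]
      module
    show m a b - m b a ∈ _
    rw [hab]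
    exact add_mem (add_mem (Submodule.smul_mem _ _ (Submodule.subset_span ⟨0, rfl⟩))
      (Submodule.smul_mem _ _ (Submodule.subset_span ⟨1, rfl⟩)))
      (Submodule.smul_mem _ _ (Submodule.subset_span ⟨2, rfl⟩))
  have := finrank_range_le_card (R := k) ![br (e 0) (e 1), br (e 0) (e 2), br (e 1) (e 2)]
  rw [Fintype.card_fin, Set.finrank] at this
  rw [top_le_iff.1 hle, finrank_top] at this
  exact this

include assoc hW ndl in
/-- The second layer cannot be a plane. -/
theorem false_of_plane [FiniteDimensional k V] [FiniteDimensional k W]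
    (hV : Module.finrank k V = 3) (hW2 : Module.finrank k W = 2)
    (ndr' : ∀ y, (∀ c, m c y = 0) → y = 0) : False := by
  by_cases h1 : ∀ a, Module.finrank k (LinearMap.range (m a)) ≤ 1
  · obtain ⟨a, z, hz⟩ : ∃ a z, m a z ≠ 0 := by
      by_contra h0
      push Not at h0
      have : (⊤ : Submodule k W) ≤ ⊥ := by
        rw [← span_products m hW, Submodule.span_le]
        rintro _ ⟨p, rfl⟩; exact h0 p.1 p.2
      rw [top_le_iff] at this
      have e := finrank_top k W
      rw [← this, finrank_bot] at e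
      omega
    obtain ⟨b, z', hz'⟩ : ∃ b z', m b z' ∉ (k ∙ m a z : Submodule k W) := by
      by_contra h0
      push Not at h0
      have : (⊤ : Submodule k W) ≤ k ∙ m a z := by
        rw [← span_products m hW, Submodule.span_le]
        rintro _ ⟨p, rfl⟩; exact h0 p.1 p.2
      have := Submodule.finrank_mono this
      rw [finrank_top, finrank_span_singleton hz] at this
      omega
    have hind : LinearIndependent k ![m a z, m b z'] := by
      rw [LinearIndependent.pair_iff' hz]
      exact fun c hc => hz' (Submodule.mem_span_singleton.2 ⟨c, hc⟩)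
    obtain ⟨y, hy, hyc⟩ := exists_common_kernel m hV h1 hind
    exact hy (ndr' y hyc)
  push Not at h1
  obtain ⟨a, ha⟩ := h1
  have hs : Function.Surjective (m a) := LinearMap.range_eq_top.1
    (Submodule.eq_top_of_finrank_eq (le_antisymm (Submodule.finrank_le _) (by omega)))
  have hne : LinearMap.ker (m.flip a) ≠ ⊥ := fun h => by
    have := LinearMap.finrank_range_add_finrank_ker (m.flip a)
    have h2 := Submodule.finrank_le (LinearMap.range (m.flip a))
    rw [h, finrank_bot] at this
    omega
  obtain ⟨x, hx, hx0⟩ := (Submodule.ne_bot_iff _).1 hne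
  refine hx0 (ndl x (LinearMap.ext fun w => ?_))
  obtain ⟨b, rfl⟩ := hs w
  rw [assoc, show m x a = 0 from hx, map_zero, LinearMap.zero_apply, LinearMap.zero_apply]

include assoc hW ndl in
/-- A bijective multiplication gives a twisted algebra. -/
theorem false_of_bijective [IsAlgClosed k] [FiniteDimensional k V] [FiniteDimensional k M]
    (hV : Module.finrank k V = 3) {a : V} (ha : Function.Bijective (m a))
    (hM3 : 3 ≤ Module.finrank k M)
    (hlM : Submodule.span k (Set.range fun p : V × W => l p.1 p.2) = ⊤)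
    (hM : Submodule.span k (Set.range fun p : V × W => l p.1 p.2 - r p.2 p.1) = ⊤) : False := by
  classical
  let e : V ≃ₗ[k] W := LinearEquiv.ofBijective (m a) ha
  haveI : FiniteDimensional k W := e.finiteDimensional
  have he : ∀ b, e b = m a b := fun b => rfl
  have ha0 : a ≠ 0 := fun h => by
    haveI : Nontrivial V := Module.nontrivial_of_finrank_pos (R := k) (by omega)
    obtain ⟨x, hx⟩ := exists_ne (0 : V)
    exact hx (ha.1 (by rw [h, map_zero, LinearMap.zero_apply, LinearMap.zero_apply]))
  have hinj : Function.Injective (m.flip a) := by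
    refine (injective_iff_map_eq_zero _).2 fun x hx => ndl x (LinearMap.ext fun w => ?_)
    obtain ⟨b, rfl⟩ := ha.2 w
    rw [assoc, show m x a = 0 from hx, map_zero, LinearMap.zero_apply, LinearMap.zero_apply]
  let q₀ : V →ₗ[k] V := e.symm.toLinearMap ∘ₗ m.flip a
  have hq₀ : Function.Injective q₀ := e.symm.injective.comp hinj
  let q : V ≃ₗ[k] V := LinearEquiv.ofBijective q₀ ⟨hq₀, LinearMap.injective_iff_surjective.1 hq₀⟩
  let circ : V →ₗ[k] V →ₗ[k] V := m.compr₂ e.symm.toLinearMap
  have hce : ∀ u b, e (circ u b) = m u b := fun u b => e.apply_symm_apply _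
  have hle : ∀ v b, m v (q₀.toFun b) = m v (q b) := fun v b => rfl
  let θ₀ : V →ₗ[k] M := l a ∘ₗ e.toLinearMap
  have hsurj : Function.Surjective θ₀ := by
    rw [← LinearMap.range_eq_top, eq_top_iff, ← hlM, Submodule.span_le]
    rintro _ ⟨⟨v, w⟩, rfl⟩
    obtain ⟨b, rfl⟩ := ha.2 w
    obtain ⟨v', hv'⟩ := ha.2 (m v a)
    obtain ⟨c, hc⟩ := ha.2 (m v' b)
    refine ⟨c, ?_⟩
    show l a (m a c) = l v (m a b)
    rw [hc, assoc, hv', ← assoc]
  have hMV : Module.finrank k M ≤ 3 := hV ▸ LinearMap.finrank_le_finrank_of_surjective hsurj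
  let θ : V ≃ₗ[k] M := LinearEquiv.ofBijective θ₀
    ⟨(LinearMap.injective_iff_surjective_of_finrank_eq_finrank (by omega)).2 hsurj, hsurj⟩
  have hθ : ∀ b, θ b = l a (m a b) := fun b => rfl
  have h2r : ∀ β c, r (e β) c = θ (circ β c) := fun β c => by
    rw [hθ, ← he, hce, assoc, he]
  have hqe : ∀ u, e (q u) = m u a := fun u => e.apply_symm_apply _
  have h2l : ∀ u γ, l u (e γ) = θ (circ (q u) γ) := fun u γ => by
    rw [he, assoc, ← hqe, h2r]
  refine false_of_twisted hV circ q a ha0 (fun b => e.injective (by rw [hce, he]))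
    (fun u => e.injective (by rw [hce, hqe])) (fun u b c => θ.injective ?_) ?_ ?_
  · rw [← h2r, ← h2l, hce, hce, assoc]
  · have h := congrArg (Submodule.map e.symm.toLinearMap) hW
    rw [Submodule.map_top, LinearEquiv.range, Submodule.map_span, ← Set.range_comp] at h
    rw [← h]
    congr 2
    funext p
    exact (map_sub e.symm.toLinearMap _ _).symm
  · rw [eq_top_iff]
    intro x _
    have hx : θ x ∈ (Submodule.span k (Set.range fun p : V × V =>
        circ (q p.1) p.2 - circ p.2 p.1)).map θ.toLinearMap := by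
      have : θ x ∈ Submodule.span k (Set.range fun p : V × W => l p.1 p.2 - r p.2 p.1) :=
        hM ▸ Submodule.mem_top
      refine Submodule.span_le.2 ?_ this
      rintro _ ⟨⟨u, w⟩, rfl⟩
      obtain ⟨β, rfl⟩ := e.surjective w
      exact ⟨circ (q u) β - circ β u, Submodule.subset_span ⟨(u, β), rfl⟩, by
        show θ (circ (q u) β - circ β u) = l u (e β) - r (e β) u
        rw [map_sub, h2l, h2r]⟩
    obtain ⟨y, hy, hyx⟩ := hx
    rwa [← θ.injective hyx]

/-- The determinant vanishes at a singular multiplication. -/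
theorem det_coord_eq_zero (bV : Module.Basis (Fin 3) k V) (bW : Module.Basis (Fin 3) k W) {a : V}
    (h : ¬ Function.Bijective (m a)) :
    Matrix.det (Matrix.of fun i j : Fin 3 => bW.coord i (m a (bV j))) = 0 := by
  by_contra hd
  apply h
  have e : Matrix.of (fun i j : Fin 3 => bW.coord i (m a (bV j))) =
      LinearMap.toMatrix bV bW (m a) := by
    ext i j; rw [LinearMap.toMatrix_apply]; rfl
  rw [e] at hd
  let f : V ≃ₗ[k] W := LinearEquiv.ofIsUnitDet (v := bV) (v' := bW) (f := m a) (isUnit_iff_ne_zero.2 hd)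
  exact f.bijective

include assoc hW ndl in
/-- All multiplications singular, the compressed case. -/
theorem false_of_compressed [Infinite k] [FiniteDimensional k V]
    (hL : ∀ a, ¬ Function.Bijective (m a)) (hR : ∀ b, ¬ Function.Bijective (m.flip b))
    (ndr' : ∀ y, (∀ c, m c y = 0) → y = 0)
    (bV : Module.Basis (Fin 3) k V) (bW : Module.Basis (Fin 3) k W) {a₀ : V}
    (h00 : m a₀ (bV 0) = bW 0) (h01 : m a₀ (bV 1) = bW 1)
    (hs : ∀ a, bW.coord 2 (m a (bV 2)) = 0)
    (hquad : ∀ a, bW.coord 2 (m a (bV 0)) * bW.coord 0 (m a (bV 2)) +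
      bW.coord 2 (m a (bV 1)) * bW.coord 1 (m a (bV 2)) = 0)
    (hr1 : ∀ a, bW.coord 2 (m a (bV 1)) = 0) : False := by
  classical
  let E : Fin 3 → Fin 3 → V →ₗ[k] k := fun i j => bW.coord i ∘ₗ m.flip (bV j)
  have hE : ∀ i j a, E i j a = bW.coord i (m a (bV j)) := fun _ _ _ => rfl
  have hexp : ∀ a j, m a (bV j) = E 0 j a • bW 0 + E 1 j a • bW 1 + E 2 j a • bW 2 := fun a j => by
    conv_lhs => rw [← bW.sum_repr (m a (bV j))]
    rw [Fin.sum_univ_three]; rfl
  have hlin : ∀ a b, m a b = ∑ j, bV.repr b j • m a (bV j) := fun a b => by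
    conv_lhs => rw [← bV.sum_repr b, map_sum]
    simp only [map_smul]
  have h20 : E 2 0 ≠ 0 := fun h0 => by
    have hle : (⊤ : Submodule k W) ≤ LinearMap.ker (bW.coord 2) := by
      rw [← span_products m hW, Submodule.span_le]
      rintro _ ⟨⟨a, b⟩, rfl⟩
      show bW.coord 2 (m a b) = 0
      simp only [hlin a b, map_add, map_smul, Fin.sum_univ_three, hs, hr1,
        show bW.coord 2 (m a (bV 0)) = 0 from LinearMap.congr_fun h0 a, smul_zero, add_zero]
    have := hle (Submodule.mem_top : bW 2 ∈ ⊤)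
    simp at this
  have h02 : E 0 2 = 0 := eq_zero_of_mul (E 2 0) (E 0 2) (fun a => by
    have h := hquad a
    rw [hr1 a, zero_mul, add_zero] at h
    exact h) h20
  have hE02 : ∀ a, E 0 2 a = 0 := LinearMap.congr_fun h02
  have h12 : E 1 2 ≠ 0 := fun h0 => bV.ne_zero 2 (ndr' _ fun a => by
    rw [hexp, hE02, LinearMap.congr_fun h0 a, hE 2 2, hs]; simp)
  have hprod : ∀ a, E 2 0 a * E 0 1 a * E 1 2 a = 0 := fun a => by
    have h := det_coord_eq_zero m bV bW (hL a)
    simp only [Matrix.det_fin_three, Matrix.of_apply] at h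
    rw [← hE 0 2, hE02 a, hs a, hr1 a] at h
    simp only [hE]
    linear_combination h
  have h01' : ∀ a, E 0 1 a = 0 := by
    rcases eq_zero_of_mul_three _ _ _ hprod with h | h | h
    · exact absurd h h20
    · exact LinearMap.congr_fun h
    · exact absurd h h12
  let Λ : V →ₗ[k] k × k := (E 0 0).prod (E 2 0)
  obtain ⟨x, hx, hx0⟩ : ∃ x, Λ x = 0 ∧ x ≠ 0 := by
    have h := LinearMap.finrank_range_add_finrank_ker Λ
    have h2 := Submodule.finrank_le (LinearMap.range Λ)
    rw [Module.finrank_prod, Module.finrank_self] at h2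
    rw [Module.finrank_eq_card_basis bV, Fintype.card_fin] at h
    have hne : LinearMap.ker Λ ≠ ⊥ := fun h' => by rw [h', finrank_bot] at h; omega
    obtain ⟨x, hx, hx0⟩ := (Submodule.ne_bot_iff _).1 hne
    exact ⟨x, hx, hx0⟩
  have hx00 : E 0 0 x = 0 := congrArg Prod.fst hx
  have hx20 : E 2 0 x = 0 := congrArg Prod.snd hx
  have ha₀ : E 0 0 a₀ = 1 ∧ E 2 0 a₀ = 0 := by
    simp only [hE, h00, Module.Basis.coord_apply, Module.Basis.repr_self]
    simp
  obtain ⟨x₁, hx₁⟩ : ∃ x₁, E 2 0 x₁ ≠ 0 := by
    by_contra h; push Not at h; exact h20 (LinearMap.ext h)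
  have himg : ∀ a b, m a b = (bV.repr b 0 * E 0 0 a) • bW 0 +
      (bV.repr b 0 * E 1 0 a + bV.repr b 1 * E 1 1 a + bV.repr b 2 * E 1 2 a) • bW 1 +
      (bV.repr b 0 * E 2 0 a) • bW 2 := by
    intro a b
    rw [hlin a b, Fin.sum_univ_three, hexp a 0, hexp a 1, hexp a 2, h01' a, hE02 a,
      show E 2 1 a = 0 from hr1 a, show E 2 2 a = 0 from hs a]
    module
  -- the functional in the middle row vanishes
  have hψ : ∀ b, bV.repr b 0 ≠ 0 → bV.repr b 0 * E 1 0 x + bV.repr b 1 * E 1 1 x +
      bV.repr b 2 * E 1 2 x = 0 := by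
    intro b hb
    by_contra hne
    apply hR b
    have hV : Module.finrank k V = Module.finrank k W := by
      rw [Module.finrank_eq_card_basis bV, Module.finrank_eq_card_basis bW]
    haveI : FiniteDimensional k W := Module.Finite.of_basis bW
    have hsurj : Function.Surjective (m.flip b) := by
      rw [← LinearMap.range_eq_top, eq_top_iff, ← bW.span_eq, Submodule.span_le]
      have h1 : bW 1 ∈ LinearMap.range (m.flip b) := by
        refine ⟨(bV.repr b 0 * E 1 0 x + bV.repr b 1 * E 1 1 x + bV.repr b 2 * E 1 2 x)⁻¹ • x, ?_⟩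
        rw [map_smul, LinearMap.flip_apply, himg, hx00, hx20, mul_zero, zero_smul, zero_smul,
          zero_add, add_zero, smul_smul, inv_mul_cancel₀ hne, one_smul]
      have h0 : bW 0 ∈ LinearMap.range (m.flip b) := by
        have h : m a₀ b ∈ LinearMap.range (m.flip b) := ⟨a₀, rfl⟩
        rw [himg, ha₀.1, ha₀.2, mul_zero, zero_smul, add_zero, mul_one] at h
        have h' := sub_mem h (Submodule.smul_mem _ (bV.repr b 0 * E 1 0 a₀ +
          bV.repr b 1 * E 1 1 a₀ + bV.repr b 2 * E 1 2 a₀) h1)
        rw [add_sub_cancel_right] at h'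
        have := Submodule.smul_mem _ (bV.repr b 0)⁻¹ h'
        rwa [smul_smul, inv_mul_cancel₀ hb, one_smul] at this
      have h2 : bW 2 ∈ LinearMap.range (m.flip b) := by
        have h : m x₁ b ∈ LinearMap.range (m.flip b) := ⟨x₁, rfl⟩
        rw [himg] at h
        have h' := sub_mem h (add_mem (Submodule.smul_mem _ (bV.repr b 0 * E 0 0 x₁) h0)
          (Submodule.smul_mem _ (bV.repr b 0 * E 1 0 x₁ +
            bV.repr b 1 * E 1 1 x₁ + bV.repr b 2 * E 1 2 x₁) h1))
        rw [add_sub_cancel_left] at h'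
        have := Submodule.smul_mem _ (bV.repr b 0 * E 2 0 x₁)⁻¹ h'
        rwa [smul_smul, inv_mul_cancel₀ (mul_ne_zero hb hx₁), one_smul] at this
      rintro _ ⟨i, rfl⟩
      fin_cases i <;> assumption
    exact ⟨(LinearMap.injective_iff_surjective_of_finrank_eq_finrank hV).2 hsurj, hsurj⟩
  have hp0 := hψ (bV 0) (by simp)
  have hp1 := hψ (bV 0 + bV 1) (by simp)
  have hp2 := hψ (bV 0 + bV 2) (by simp)
  simp [Finsupp.single_apply] at hp0 hp1 hp2
  refine hx0 (kill_left m l r assoc hW ndl fun c => ?_)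
  rw [himg, hx00, hx20, hp0]
  simp only [mul_zero, zero_smul, zero_add, add_zero]
  rw [show E 1 1 x = 0 by linear_combination hp1 - hp0,
    show E 1 2 x = 0 by linear_combination hp2 - hp0]
  simp

include assoc hW hlM in
/-- All multiplications singular, the exterior case: the third layer is a line. -/
theorem finrank_le_one_of_skew [FiniteDimensional k V] [FiniteDimensional k M]
    (bV : Module.Basis (Fin 3) k V) (σ : V ≃ₗ[k] V) (h : ∀ b, m (σ b) b = 0) :
    Module.finrank k M ≤ 1 := by
  let T : V → V → V → M := fun a b c => r (m (σ (σ a)) (σ b)) c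
  have hT1 : ∀ b c, T b b c = 0 := fun b c => by
    simp [T, h]
  have hT2 : ∀ a b, T a b b = 0 := fun a b => by
    simp only [T]; rw [← assoc, h, map_zero]
  have hT3 : ∀ a b, T a b a = 0 := fun a b => by
    have e := hT2 a (a + b)
    simp only [T, map_add, LinearMap.add_apply] at e hT1 hT2 ⊢
    have e1 := hT1 a b
    have e2 := hT2 a b
    have e3 := hT1 a a
    rw [e1, e2, e3] at e
    simpa using e
  let f : V [⋀^Fin 3]→ₗ[k] M :=
    { toFun := fun v => T (v 0) (v 1) (v 2)
      map_update_add' := by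
        intro inst v i x y
        obtain rfl : inst = instDecidableEqFin 3 := Subsingleton.elim _ _
        fin_cases i <;> simp [T]
      map_update_smul' := by
        intro inst v i c x
        obtain rfl : inst = instDecidableEqFin 3 := Subsingleton.elim _ _
        fin_cases i <;> simp [T]
      map_eq_zero_of_eq' := by
        intro v i j hij hne
        fin_cases i <;> fin_cases j <;> simp at hij hne <;>
          first
            | (rw [hij]; first | exact hT1 _ _ | exact hT2 _ _ | exact hT3 _ _)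
            | (rw [← hij]; first | exact hT1 _ _ | exact hT2 _ _ | exact hT3 _ _) }
  have hall : ∀ a b c, T a b c ∈ (k ∙ f bV : Submodule k M) := by
    intro a b c
    by_contra hne
    obtain ⟨φ, hφ, hφ0⟩ : ∃ φ : M →ₗ[k] k, φ (T a b c) ≠ 0 ∧ (k ∙ f bV) ≤ LinearMap.ker φ :=
      Submodule.exists_le_ker_of_notMem hne
    apply hφ
    have e := (φ.compAlternatingMap f).eq_smul_basis_det bV
    have h1 : φ (f bV) = 0 := LinearMap.mem_ker.1 (hφ0 (Submodule.mem_span_singleton_self _))
    have h2 : φ.compAlternatingMap f bV = 0 := h1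
    rw [h2, zero_smul] at e
    exact congrArg (fun g : V [⋀^Fin 3]→ₗ[k] k => g ![a, b, c]) e
  have hle : (⊤ : Submodule k M) ≤ k ∙ f bV := by
    rw [← hlM, Submodule.span_le]
    rintro _ ⟨⟨a, w⟩, rfl⟩
    have hw : Submodule.span k (Set.range fun p : V × V => m p.1 p.2) ≤
        (k ∙ f bV).comap (l a) := Submodule.span_le.2 (by
      rintro _ ⟨⟨b, c⟩, rfl⟩
      rw [SetLike.mem_coe, Submodule.mem_comap, assoc]
      have := hall (σ.symm (σ.symm a)) (σ.symm b) c
      simpa [T] using this)
    exact hw (span_products m hW ▸ Submodule.mem_top)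
  have := Submodule.finrank_mono hle
  rw [finrank_top] at this
  exact this.trans (by simpa using finrank_span_le_card (R := k) ({f bV} : Set M))

include assoc hW ndl in
/-- All multiplications singular. -/
theorem false_of_singular [Infinite k] [FiniteDimensional k V] [FiniteDimensional k W]
    [FiniteDimensional k M]
    (hV : Module.finrank k V = 3) (hW3 : Module.finrank k W = 3)
    (hM2 : 2 ≤ Module.finrank k M)
    (hlM : Submodule.span k (Set.range fun p : V × W => l p.1 p.2) = ⊤)
    (hL : ∀ a, ¬ Function.Bijective (m a)) (hR : ∀ b, ¬ Function.Bijective (m.flip b))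
    (ndr' : ∀ y, (∀ c, m c y = 0) → y = 0) : False := by
  classical
  obtain ⟨a₀, ha₀⟩ : ∃ a₀, 2 ≤ Module.finrank k (LinearMap.range (m a₀)) := by
    by_contra h1
    push Not at h1
    have h1' : ∀ a, Module.finrank k (LinearMap.range (m a)) ≤ 1 := fun a => by
      have := h1 a; omega
    obtain ⟨a, z, hz⟩ : ∃ a z, m a z ≠ 0 := by
      by_contra h0
      push Not at h0
      have : (⊤ : Submodule k W) ≤ ⊥ := by
        rw [← span_products m hW, Submodule.span_le]
        rintro _ ⟨p, rfl⟩; exact h0 p.1 p.2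
      rw [top_le_iff] at this
      have e := finrank_top k W
      rw [← this, finrank_bot] at e
      omega
    obtain ⟨b, z', hz'⟩ : ∃ b z', m b z' ∉ (k ∙ m a z : Submodule k W) := by
      by_contra h0
      push Not at h0
      have : (⊤ : Submodule k W) ≤ k ∙ m a z := by
        rw [← span_products m hW, Submodule.span_le]
        rintro _ ⟨p, rfl⟩; exact h0 p.1 p.2
      have := Submodule.finrank_mono this
      rw [finrank_top, finrank_span_singleton hz] at this
      omega
    have hind : LinearIndependent k ![m a z, m b z'] := by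
      rw [LinearIndependent.pair_iff' hz]
      exact fun c hc => hz' (Submodule.mem_span_singleton.2 ⟨c, hc⟩)
    obtain ⟨y, hy, hyc⟩ := exists_common_kernel m hV h1' hind
    exact hy (ndr' y hyc)
  have hrk := LinearMap.finrank_range_add_finrank_ker (m a₀)
  have hrange : Module.finrank k (LinearMap.range (m a₀)) = 2 := by
    refine le_antisymm ?_ ha₀
    by_contra h3
    have hs : Function.Surjective (m a₀) := LinearMap.range_eq_top.1
      (Submodule.eq_top_of_finrank_eq (le_antisymm (Submodule.finrank_le _) (by omega)))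
    exact hL a₀ ⟨(LinearMap.injective_iff_surjective_of_finrank_eq_finrank (by omega)).2 hs, hs⟩
  obtain ⟨e₂, he₂, he₂0⟩ := (Submodule.ne_bot_iff (LinearMap.ker (m a₀))).1 (fun h => by
    rw [h, finrank_bot] at hrk; omega)
  have he₂' : m a₀ e₂ = 0 := he₂
  obtain ⟨w₂, hw₂⟩ : ∃ w₂, w₂ ∉ LinearMap.range (m a₀) := by
    by_contra h; push Not at h
    rw [Submodule.eq_top_iff'.2 h, finrank_top] at hrange
    omega
  have hkerline : LinearMap.ker (m a₀) = k ∙ e₂ :=
    (Submodule.eq_of_le_of_finrank_le ((Submodule.span_singleton_le_iff_mem _ _).2 he₂)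
      (by rw [finrank_span_singleton he₂0]; omega)).symm
  -- adapted bases
  have normal : ∀ e₀ e₁ : V, LinearIndependent k ![e₀, e₁, e₂] →
      ∃ (bV : Module.Basis (Fin 3) k V) (bW : Module.Basis (Fin 3) k W),
        bV 0 = e₀ ∧ bV 1 = e₁ ∧ bV 2 = e₂ ∧ m a₀ (bV 0) = bW 0 ∧ m a₀ (bV 1) = bW 1 ∧
        (∀ a, bW.coord 2 (m a (bV 2)) = 0) ∧
        (∀ a, bW.coord 2 (m a (bV 0)) * bW.coord 0 (m a (bV 2)) +
          bW.coord 2 (m a (bV 1)) * bW.coord 1 (m a (bV 2)) = 0) ∧
        bW 2 = w₂ := by
    intro e₀ e₁ he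
    have hli : LinearIndependent k ![m a₀ e₀, m a₀ e₁, w₂] := by
      rw [Fintype.linearIndependent_iff]
      intro g hg
      simp only [Fin.sum_univ_three, Matrix.cons_val_zero, Matrix.cons_val_one,
        Matrix.cons_val] at hg
      have h2 : g 2 = 0 := by
        by_contra h2
        apply hw₂
        refine ⟨(g 2)⁻¹ • -(g 0 • e₀ + g 1 • e₁), ?_⟩
        rw [map_smul, map_neg, map_add, map_smul, map_smul,
          show -(g 0 • m a₀ e₀ + g 1 • m a₀ e₁) = g 2 • w₂ from neg_eq_of_add_eq_zero_right hg,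
          smul_smul, inv_mul_cancel₀ h2, one_smul]
      rw [h2, zero_smul, add_zero, ← map_smul, ← map_smul, ← map_add] at hg
      have hk : g 0 • e₀ + g 1 • e₁ ∈ (k ∙ e₂ : Submodule k V) := hkerline ▸ hg
      obtain ⟨c, hc⟩ := Submodule.mem_span_singleton.1 hk
      have := Fintype.linearIndependent_iff.1 he ![g 0, g 1, -c] (by
        simp [Fin.sum_univ_three, hc])
      intro i
      fin_cases i
      · exact this 0
      · exact this 1
      · exact h2
    let bV : Module.Basis (Fin 3) k V := basisOfLinearIndependentOfCardEqFinrank he (by simp [hV])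
    let bW : Module.Basis (Fin 3) k W := basisOfLinearIndependentOfCardEqFinrank hli (by simp [hW3])
    have hbV : ∀ i, bV i = ![e₀, e₁, e₂] i := fun i => by simp [bV]
    have hbW : ∀ i, bW i = ![m a₀ e₀, m a₀ e₁, w₂] i := fun i => by simp [bW]
    have h00 : m a₀ (bV 0) = bW 0 := by rw [hbV, hbW]; rfl
    have h01 : m a₀ (bV 1) = bW 1 := by rw [hbV, hbW]; rfl
    have h02 : m a₀ (bV 2) = 0 := by rw [hbV]; exact he₂'
    clear_value bV bW
    have hdet : ∀ (a : V) (t : k), Matrix.det (Matrix.of fun i j : Fin 3 =>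
        bW.coord i (m (a + t • a₀) (bV j))) = 0 := fun a t =>
      det_coord_eq_zero m bV bW (hL _)
    obtain ⟨t, ht⟩ := Infinite.exists_notMem_finset ({0, 1} : Finset k)
    simp only [Finset.mem_insert, Finset.mem_singleton, not_or] at ht
    have hboth : ∀ a, bW.coord 2 (m a (bV 2)) = 0 ∧
        bW.coord 2 (m a (bV 0)) * bW.coord 0 (m a (bV 2)) +
          bW.coord 2 (m a (bV 1)) * bW.coord 1 (m a (bV 2)) = 0 := by
      intro a
      have p0 := hdet a 0
      have p1 := hdet a 1
      have pt := hdet a t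
      simp [Matrix.det_fin_three, h00, h01, h02, Finsupp.single_apply] at p0 p1 pt ⊢
      set A00 := bW.repr (m a (bV 0)) 0
      set A01 := bW.repr (m a (bV 1)) 0
      set A02 := bW.repr (m a (bV 2)) 0
      set A10 := bW.repr (m a (bV 0)) 1
      set A11 := bW.repr (m a (bV 1)) 1
      set A12 := bW.repr (m a (bV 2)) 1
      set A20 := bW.repr (m a (bV 0)) 2
      set A21 := bW.repr (m a (bV 1)) 2
      set A22 := bW.repr (m a (bV 2)) 2
      have e : t * (t - 1) * A22 = 0 := by linear_combination pt - t * p1 + (t - 1) * p0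
      have h22 : A22 = 0 := by
        rcases mul_eq_zero.1 e with h | h
        · rcases mul_eq_zero.1 h with h | h
          · exact absurd h ht.1
          · exact absurd (sub_eq_zero.1 h) ht.2
        · exact h
      exact ⟨h22, by linear_combination p0 - p1 + (1 + A00 + A11) * h22⟩
    exact ⟨bV, bW, by rw [hbV]; rfl, by rw [hbV]; rfl, by rw [hbV]; rfl, h00, h01,
      fun a => (hboth a).1, fun a => (hboth a).2, by rw [hbW]; rfl⟩
  obtain ⟨e₀, e₁, hind⟩ : ∃ e₀ e₁, LinearIndependent k ![e₀, e₁, e₂] := by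
    obtain ⟨e₁, he₁⟩ : ∃ e₁, e₁ ∉ (k ∙ e₂ : Submodule k V) := by
      by_contra h; push Not at h
      have e := finrank_top k V
      rw [← Submodule.eq_top_iff'.2 h, finrank_span_singleton he₂0] at e
      omega
    have h2 : LinearIndependent k ![e₁, e₂] := by
      rw [LinearIndependent.pair_iff]
      intro s t hst
      by_cases hs : s = 0
      · rw [hs, zero_smul, zero_add] at hst
        exact ⟨hs, (smul_eq_zero.1 hst).resolve_right he₂0⟩
      · exact absurd (Submodule.mem_span_singleton.2 ⟨-(t / s), by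
          rw [neg_smul, div_eq_inv_mul, mul_smul, eq_neg_of_add_eq_zero_right hst, smul_neg,
            neg_neg, smul_smul, inv_mul_cancel₀ hs, one_smul]⟩) he₁
    obtain ⟨e₀, he₀⟩ : ∃ e₀, e₀ ∉ Submodule.span k (Set.range ![e₁, e₂]) := by
      by_contra h; push Not at h
      have := finrank_span_eq_card h2
      rw [Submodule.eq_top_iff'.2 h, finrank_top, Fintype.card_fin] at this
      omega
    exact ⟨e₀, e₁, linearIndependent_finCons.2 ⟨h2, he₀⟩⟩
  obtain ⟨bV, bW, hb0, hb1, hb2, h00, h01, hs, hquad, hbw2⟩ := normal e₀ e₁ hind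
  let Λ : V →ₗ[k] k × k :=
    (bW.coord 2 ∘ₗ m.flip (bV 0)).prod (bW.coord 2 ∘ₗ m.flip (bV 1))
  have h02 : m a₀ (bV 2) = 0 := by rw [hb2]; exact he₂'
  by_cases hΛ : Function.Surjective Λ
  swap
  · -- the last row is a multiple of one functional
    obtain ⟨φ, hφ, hφΛ⟩ : ∃ φ : k × k →ₗ[k] k, φ ≠ 0 ∧ LinearMap.range Λ ≤ LinearMap.ker φ :=
      Submodule.exists_le_ker_of_lt_top _ (lt_top_iff_ne_top.2 (fun h => hΛ (LinearMap.range_eq_top.1 h)))
    set α := φ (1, 0)
    set β := φ (0, 1)
    have hab : ∀ a, α * bW.coord 2 (m a (bV 0)) + β * bW.coord 2 (m a (bV 1)) = 0 := by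
      intro a
      have h := LinearMap.mem_ker.1 (hφΛ (LinearMap.mem_range_self Λ a))
      rw [show Λ a = (Λ a).1 • ((1, 0) : k × k) + (Λ a).2 • ((0, 1) : k × k) by simp, map_add,
        map_smul, map_smul, smul_eq_mul, smul_eq_mul] at h
      simp only [Λ, LinearMap.prod_apply, Function.prod_apply, LinearMap.comp_apply,
        LinearMap.flip_apply] at h
      linear_combination h
    obtain ⟨c₀, hnew⟩ : ∃ c₀, LinearIndependent k ![c₀, α • bV 0 + β • bV 1, e₂] := by
      have hαβ : α ≠ 0 ∨ β ≠ 0 := by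
        by_contra h; push Not at h
        refine hφ (LinearMap.ext fun x => ?_)
        rw [show x = x.1 • ((1, 0) : k × k) + x.2 • ((0, 1) : k × k) by simp, map_add, map_smul,
          map_smul]
        simp only [α, β] at h
        simp [h.1, h.2]
      rcases hαβ with h | h
      · refine ⟨bV 1, ?_⟩
        rw [Fintype.linearIndependent_iff]
        intro g hg
        simp only [Fin.sum_univ_three, Matrix.cons_val_zero, Matrix.cons_val_one,
          Matrix.cons_val, ← hb2] at hg
        have hz := Fintype.linearIndependent_iff.1 bV.linearIndependent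
          ![g 1 * α, g 0 + g 1 * β, g 2] (by
            simp only [Fin.sum_univ_three, Matrix.cons_val_zero, Matrix.cons_val_one,
              Matrix.cons_val]
            rw [← hg]; module)
        have h1 : g 1 = 0 := (mul_eq_zero.1 (hz 0)).resolve_right h
        have h0 : g 0 = 0 := by have := hz 1; simpa [h1] using this
        intro i; fin_cases i
        · exact h0
        · exact h1
        · exact hz 2
      · refine ⟨bV 0, ?_⟩
        rw [Fintype.linearIndependent_iff]
        intro g hg
        simp only [Fin.sum_univ_three, Matrix.cons_val_zero, Matrix.cons_val_one,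
          Matrix.cons_val, ← hb2] at hg
        have hz := Fintype.linearIndependent_iff.1 bV.linearIndependent
          ![g 0 + g 1 * α, g 1 * β, g 2] (by
            simp only [Fin.sum_univ_three, Matrix.cons_val_zero, Matrix.cons_val_one,
              Matrix.cons_val]
            rw [← hg]; module)
        have h1 : g 1 = 0 := (mul_eq_zero.1 (hz 1)).resolve_right h
        have h0 : g 0 = 0 := by have := hz 0; simpa [h1] using this
        intro i; fin_cases i
        · exact h0
        · exact h1
        · exact hz 2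
    obtain ⟨bV', bW', hb0', hb1', hb2', h00', h01', hs', hquad', hbw2'⟩ := normal _ _ hnew
    refine false_of_compressed m l r assoc hW ndl hL hR ndr' bV' bW' h00' h01' hs' hquad' ?_
    intro a
    -- the last coordinate does not depend on the basis
    have hmem : m a (α • bV 0 + β • bV 1) ∈ LinearMap.range (m a₀) := by
      rw [← bW.sum_repr (m a (α • bV 0 + β • bV 1)), Fin.sum_univ_three, ← h00, ← h01]
      have h2 : bW.repr (m a (α • bV 0 + β • bV 1)) 2 = 0 := by
        have := hab a
        simpa using this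
      rw [h2, zero_smul, add_zero]
      exact add_mem (Submodule.smul_mem _ _ (LinearMap.mem_range_self _ _))
        (Submodule.smul_mem _ _ (LinearMap.mem_range_self _ _))
    obtain ⟨x, hx⟩ := hmem
    have hx' : bW'.coord 2 (m a₀ x) = 0 := by
      rw [← bV'.sum_repr x, Fin.sum_univ_three]
      simp [h00', h01', hb2', he₂']
    rw [hb1', ← hx]
    exact hx'
  -- the exterior case
  let E : Fin 3 → Fin 3 → V →ₗ[k] k := fun i j => bW.coord i ∘ₗ m.flip (bV j)
  have hE : ∀ i j a, E i j a = bW.coord i (m a (bV j)) := fun _ _ _ => rfl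
  have hexp : ∀ a j, m a (bV j) = E 0 j a • bW 0 + E 1 j a • bW 1 + E 2 j a • bW 2 := fun a j => by
    conv_lhs => rw [← bW.sum_repr (m a (bV j))]
    rw [Fin.sum_univ_three]; rfl
  have hz0 : ∀ i, E i 0 a₀ = (if i = 0 then 1 else 0) ∧ E i 1 a₀ = (if i = 1 then 1 else 0) ∧
      E i 2 a₀ = 0 := fun i => by
    simp only [hE, h00, h01, h02]
    refine ⟨?_, ?_, map_zero _⟩ <;> fin_cases i <;> simp
  obtain ⟨a₁, ha₁⟩ := hΛ (1, 0)
  obtain ⟨a₂, ha₂⟩ := hΛ (0, 1)
  have s1 : E 2 0 a₁ = 1 := congrArg Prod.fst ha₁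
  have t1 : E 2 1 a₁ = 0 := congrArg Prod.snd ha₁
  have s2 : E 2 0 a₂ = 0 := congrArg Prod.fst ha₂
  have t2 : E 2 1 a₂ = 1 := congrArg Prod.snd ha₂
  have s0 : E 2 0 a₀ = 0 := by simpa using (hz0 2).1
  have t0 : E 2 1 a₀ = 0 := by simpa using (hz0 2).2.1
  have hA : LinearIndependent k ![a₀, a₁, a₂] := by
    rw [Fintype.linearIndependent_iff]
    intro g hg
    simp only [Fin.sum_univ_three, Matrix.cons_val_zero, Matrix.cons_val_one, Matrix.cons_val] at hg
    have e1 := congrArg (E 2 0) hg
    have e2 := congrArg (E 2 1) hg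
    have e0 := congrArg (E 0 0) hg
    simp only [map_add, map_smul, map_zero, smul_eq_mul, s0, s1, s2, t0, t1, t2, mul_zero, mul_one,
      zero_add, add_zero] at e0 e1 e2
    rw [show E 0 0 a₀ = 1 by simpa using (hz0 0).1, e1, e2, zero_mul, zero_mul, add_zero, add_zero,
      mul_one] at e0
    intro i; fin_cases i
    · exact e0
    · exact e1
    · exact e2
  let bA : Module.Basis (Fin 3) k V := basisOfLinearIndependentOfCardEqFinrank hA (by simp [hV])
  have hbA : ∀ i, bA i = ![a₀, a₁, a₂] i := fun i => by simp [bA]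
  -- a functional vanishing at the first vector
  have hfun : ∀ φ : V →ₗ[k] k, φ a₀ = 0 → ∀ a, φ a = φ a₁ * E 2 0 a + φ a₂ * E 2 1 a := by
    intro φ hφ
    have h : φ = φ a₁ • E 2 0 + φ a₂ • E 2 1 := by
      refine bA.ext fun i => ?_
      rw [hbA]
      fin_cases i <;> simp [hφ, s0, s1, s2, t0, t1, t2]
    intro a
    conv_lhs => rw [h]
    simp
  have hc0 := hfun (E 0 2) (hz0 0).2.2
  have hc1 := hfun (E 1 2) (hz0 1).2.2
  have q1 : E 2 0 a₁ * E 0 2 a₁ + E 2 1 a₁ * E 1 2 a₁ = 0 := hquad a₁
  have q2 : E 2 0 a₂ * E 0 2 a₂ + E 2 1 a₂ * E 1 2 a₂ = 0 := hquad a₂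
  have q3 : E 2 0 (a₁ + a₂) * E 0 2 (a₁ + a₂) + E 2 1 (a₁ + a₂) * E 1 2 (a₁ + a₂) = 0 :=
    hquad (a₁ + a₂)
  simp only [map_add, s1, s2, t1, t2, zero_mul, one_mul, zero_add, add_zero] at q1 q2 q3
  set μ := E 0 2 a₂ with hμdef
  have hμ' : E 1 2 a₁ = -μ := by linear_combination q3 - q1 - q2
  have hE02 : ∀ a, E 0 2 a = μ * E 2 1 a := fun a => by rw [hc0 a, q1]; ring
  have hE12 : ∀ a, E 1 2 a = -μ * E 2 0 a := fun a => by rw [hc1 a, q2, hμ']; ring
  have hE22 : ∀ a, E 2 2 a = 0 := hs
  have hμ : μ ≠ 0 := fun h0 => bV.ne_zero 2 (ndr' _ fun a => by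
    rw [hexp, hE02, hE12, hE22, h0]; simp)
  have hδ := hfun (E 0 0 - E 1 1) (by simp [hz0])
  have hq := hfun (E 0 1) (by simp [hz0])
  have hu := hfun (E 1 0) (by simp [hz0])
  set δ1 := (E 0 0 - E 1 1) a₁
  set δ2 := (E 0 0 - E 1 1) a₂
  set p1 := E 0 1 a₁
  set p2 := E 0 1 a₂
  set u1 := E 1 0 a₁
  set u2 := E 1 0 a₂
  have hcubic : ∀ S T : k, (δ1 * S + δ2 * T) * S * T - (p1 * S + p2 * T) * S ^ 2 +
      (u1 * S + u2 * T) * T ^ 2 = 0 := by
    intro S T
    set a := S • a₁ + T • a₂
    have hS : E 2 0 a = S := by simp [a, s1, s2]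
    have hT : E 2 1 a = T := by simp [a, t1, t2]
    have h := det_coord_eq_zero m bV bW (hL a)
    simp only [Matrix.det_fin_three, Matrix.of_apply, ← hE, hE02, hE12, hE22, hS, hT] at h
    have e1 := hδ a
    have e2 := hq a
    have e3 := hu a
    simp only [LinearMap.sub_apply, hS, hT] at e1 e2 e3
    refine (mul_eq_zero.1 (show μ * ((δ1 * S + δ2 * T) * S * T - (p1 * S + p2 * T) * S ^ 2 +
      (u1 * S + u2 * T) * T ^ 2) = 0 from ?_)).resolve_left hμ
    linear_combination h - μ * S * T * e1 + μ * S ^ 2 * e2 - μ * T ^ 2 * e3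
  have hp1 : p1 = 0 := by linear_combination -(hcubic 1 0)
  have hu2 : u2 = 0 := by linear_combination hcubic 0 1
  obtain ⟨t, ht⟩ := Infinite.exists_notMem_finset ({0, 1} : Finset k)
  simp only [Finset.mem_insert, Finset.mem_singleton, not_or] at ht
  have e11 : (δ1 - p2) + (δ2 + u1) = 0 := by
    linear_combination hcubic 1 1 + hp1 - hu2
  have e1t : t * ((δ1 - p2) + t * (δ2 + u1)) = 0 := by
    linear_combination hcubic 1 t + hp1 - t ^ 3 * hu2
  have e1t' := (mul_eq_zero.1 e1t).resolve_left ht.1
  have hν : δ2 + u1 = 0 := by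
    have : (t - 1) * (δ2 + u1) = 0 := by linear_combination e1t' - e11
    exact (mul_eq_zero.1 this).resolve_left (sub_ne_zero.2 ht.2)
  have hδ1 : δ1 = p2 := by linear_combination e11 - hν
  -- new bases
  have hli : LinearIndependent k
      ![bV 0 - (δ2 / μ) • bV 2, bV 1 - (p2 / μ) • bV 2, μ⁻¹ • bV 2] := by
    rw [Fintype.linearIndependent_iff]
    intro g hg
    simp only [Fin.sum_univ_three, Matrix.cons_val_zero, Matrix.cons_val_one, Matrix.cons_val] at hg
    have hz := Fintype.linearIndependent_iff.1 bV.linearIndependent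
      ![g 0, g 1, g 2 * μ⁻¹ - g 0 * (δ2 / μ) - g 1 * (p2 / μ)] (by
        simp only [Fin.sum_univ_three, Matrix.cons_val_zero, Matrix.cons_val_one, Matrix.cons_val]
        rw [← hg]; module)
    intro i
    have h0 : g 0 = 0 := hz 0
    have h1 : g 1 = 0 := hz 1
    fin_cases i
    · exact h0
    · exact h1
    · have h2 := hz 2
      simpa [h0, h1, hμ] using h2
  let bN : Module.Basis (Fin 3) k V := basisOfLinearIndependentOfCardEqFinrank hli (by simp [hV])
  have hbN : ∀ i, bN i = ![bV 0 - (δ2 / μ) • bV 2, bV 1 - (p2 / μ) • bV 2, μ⁻¹ • bV 2] i :=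
    fun i => by simp [bN]
  let zf : V →ₗ[k] k := E 1 1 + p2 • E 2 0
  have hN0 : ∀ a, m a (bN 0) = zf a • bW 0 + E 2 0 a • bW 2 := fun a => by
    rw [hbN]
    simp only [Matrix.cons_val_zero, map_sub, map_smul, hexp, hE02, hE12, hE22]
    have e1 := hδ a
    have e3 := hu a
    simp only [LinearMap.sub_apply] at e1
    rw [show zf a = E 0 0 a - δ2 * E 2 1 a by
      simp only [zf, LinearMap.add_apply, LinearMap.smul_apply, smul_eq_mul]
      linear_combination -e1 - E 2 0 a * hδ1]
    have e4 : E 1 0 a + δ2 * E 2 0 a = 0 := by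
      linear_combination e3 + E 2 0 a * hν + E 2 1 a * hu2
    match_scalars
    · field_simp
    · field_simp; linear_combination e4
    · simp
  have hN1 : ∀ a, m a (bN 1) = zf a • bW 1 + E 2 1 a • bW 2 := fun a => by
    rw [hbN]
    simp only [Matrix.cons_val_one, Matrix.cons_val_zero, map_sub, map_smul, hexp, hE02, hE12,
      hE22]
    have e2 := hq a
    have e4 : E 0 1 a - p2 * E 2 1 a = 0 := by
      linear_combination e2 + E 2 0 a * hp1
    simp only [zf, LinearMap.add_apply, LinearMap.smul_apply, smul_eq_mul]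
    match_scalars
    · field_simp; linear_combination e4
    · field_simp; ring
    · simp
  have hN2 : ∀ a, m a (bN 2) = E 2 1 a • bW 0 - E 2 0 a • bW 1 := fun a => by
    rw [hbN]
    simp only [Matrix.cons_val, map_smul, hexp, hE02, hE12, hE22]
    match_scalars <;> field_simp <;> simp
  let Φ₀ : V →ₗ[k] (Fin 3 → k) := LinearMap.pi ![zf, E 2 0, E 2 1]
  have hΦinj : Function.Injective Φ₀ := by
    refine (injective_iff_map_eq_zero _).2 fun a ha => kill_left m l r assoc hW ndl fun c => ?_
    have z0 : zf a = 0 := congrFun ha 0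
    have z1 : E 2 0 a = 0 := congrFun ha 1
    have z2 : E 2 1 a = 0 := congrFun ha 2
    rw [← bN.sum_repr c, Fin.sum_univ_three, map_add, map_add, map_smul, map_smul, map_smul, hN0,
      hN1, hN2, z0, z1, z2]
    simp
  let Φ : V ≃ₗ[k] (Fin 3 → k) := LinearEquiv.ofBijective Φ₀
    ⟨hΦinj, (LinearMap.injective_iff_surjective_of_finrank_eq_finrank (by simp [hV])).1 hΦinj⟩
  let rev : V →ₗ[k] (Fin 3 → k) := LinearMap.pi ![bN.coord 2, bN.coord 1, -bN.coord 0]
  have hrev : Function.Injective rev := by
    refine (injective_iff_map_eq_zero _).2 fun b hb => ?_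
    have z0 : bN.coord 2 b = 0 := congrFun hb 0
    have z1 : bN.coord 1 b = 0 := congrFun hb 1
    have z2 : -bN.coord 0 b = 0 := congrFun hb 2
    rw [neg_eq_zero] at z2
    refine bN.ext_elem fun i => ?_
    rw [map_zero, Finsupp.zero_apply]
    fin_cases i <;> assumption
  let σ : V ≃ₗ[k] V := (LinearEquiv.ofBijective rev
    ⟨hrev, (LinearMap.injective_iff_surjective_of_finrank_eq_finrank (by simp [hV])).1 hrev⟩).trans
      Φ.symm
  have hσ : ∀ b, zf (σ b) = bN.coord 2 b ∧ E 2 0 (σ b) = bN.coord 1 b ∧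
      E 2 1 (σ b) = -bN.coord 0 b := by
    intro b
    have h : Φ₀ (σ b) = rev b := Φ.apply_symm_apply _
    exact ⟨congrFun h 0, congrFun h 1, congrFun h 2⟩
  have := finrank_le_one_of_skew m l r assoc hW hlM bN σ fun b => by
    obtain ⟨z0, z1, z2⟩ := hσ b
    conv_lhs => arg 2; rw [← bN.sum_repr b]
    rw [Fin.sum_univ_three, map_add, map_add, map_smul, map_smul, map_smul, hN0, hN1, hN2, z0, z1,
      z2]
    simp only [Module.Basis.coord_apply]
    module
  omega

include assoc hW hlM ndl ndr in
/-- Three generators: the brackets cannot fill the layers. -/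
theorem false_of_three [IsAlgClosed k] [FiniteDimensional k V] [FiniteDimensional k W]
    [FiniteDimensional k M] (hV : Module.finrank k V = 3) (hW2 : 2 ≤ Module.finrank k W)
    (hM2 : 2 ≤ Module.finrank k M)
    (hsurj : ∀ a, Function.Surjective (m a) → 3 ≤ Module.finrank k M)
    (hM : Module.finrank k W = 3 →
      Submodule.span k (Set.range fun p : V × W => l p.1 p.2 - r p.2 p.1) = ⊤) : False := by
  have ndr' : ∀ y, (∀ c, m c y = 0) → y = 0 := fun y hy => kill_right m l r assoc hW ndr hy
  have h3 := finrank_W_le m hW hV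
  rcases (by omega : Module.finrank k W = 2 ∨ Module.finrank k W = 3) with hw | hw
  · exact false_of_plane m l r assoc hW ndl hV hw ndr'
  by_cases hL : ∀ a, ¬ Function.Bijective (m a)
  · refine false_of_singular m l r assoc hW ndl hV hw hM2 hlM hL (fun b hb => ?_) ndr'
    obtain ⟨x, hx, hx0⟩ : ∃ x, m b x = 0 ∧ x ≠ 0 := by
      by_contra h
      push Not at h
      have hi : Function.Injective (m b) := (injective_iff_map_eq_zero _).2 h
      exact hL b ⟨hi, (LinearMap.injective_iff_surjective_of_finrank_eq_finrank (by omega)).1 hi⟩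
    refine hx0 (ndr x fun w => ?_)
    obtain ⟨v, rfl⟩ := hb.2 w
    rw [LinearMap.flip_apply, ← assoc, hx, map_zero]
  push Not at hL
  obtain ⟨a, ha⟩ := hL
  exact false_of_bijective m l r assoc hW ndl hV ha (hsurj a ha.2) hlM (hM hw)

end Cfsg.Agent.BlockAlg.ThreeGen
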