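/-
Two generators with a two dimensional square layer and a third layer spanned by brackets:
in suitable generators both squares vanish.
-/
import Cfsg.Agent.Lib.BlockAlg.ThreeGen
import Mathlib.LinearAlgebra.Eigenspace.Triangularizable
import Mathlib.LinearAlgebra.Eigenspace.Basic

set_option linter.unusedSectionVars false
set_option autoImplicit false

namespace Cfsg.Agent.BlockAlg.TwoGen

variable {k : Type*} [Field k] {V W M : Type*} [AddCommGroup V] [Module k V] [AddCommGroup W]
  [Module k W] [AddCommGroup M] [Module k M]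

theorem exists_coords [FiniteDimensional k V] (hV : Module.finrank k V = 2) {x y : V}
    (h : LinearIndependent k ![x, y]) (u : V) : ∃ s t : k, u = s • x + t • y := by
  let B : Module.Basis (Fin 2) k V := basisOfLinearIndependentOfCardEqFinrank h (by simp [hV])
  refine ⟨B.repr u 0, B.repr u 1, ?_⟩
  conv_lhs => rw [← B.sum_repr u]
  simp [Fin.sum_univ_two, B]

/-- Some product of nonzero elements vanishes. -/
theorem exists_zero_product [IsAlgClosed k] [FiniteDimensional k V] [FiniteDimensional k W]
    (m : V →ₗ[k] V →ₗ[k] W) (hV : Module.finrank k V = 2) (hW : Module.finrank k W = 2) :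
    ∃ a b : V, a ≠ 0 ∧ b ≠ 0 ∧ m a b = 0 := by
  let B := Module.finBasisOfFinrankEq k V hV
  by_cases hb : Function.Injective (m (B 0))
  · have hs : Function.Surjective (m (B 0)) :=
      (LinearMap.injective_iff_surjective_of_finrank_eq_finrank (by omega)).1 hb
    let e : V ≃ₗ[k] W := LinearEquiv.ofBijective (m (B 0)) ⟨hb, hs⟩
    have : Nontrivial V := Module.nontrivial_of_finrank_pos (R := k) (by omega)
    obtain ⟨μ, hμ⟩ := Module.End.exists_eigenvalue (e.symm.toLinearMap ∘ₗ m (B 1) : Module.End k V)
    obtain ⟨b, hb'⟩ := hμ.exists_hasEigenvector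
    refine ⟨B 1 - μ • B 0, b, fun h => ?_, hb'.2, ?_⟩
    · have := Fintype.linearIndependent_iff.1 B.linearIndependent ![-μ, 1] (by
        simp only [Fin.sum_univ_two, Matrix.cons_val_zero, Matrix.cons_val_one]
        rw [← h]; module) 1
      simp at this
    · have he : e.symm (m (B 1) b) = μ • b := hb'.apply_eq_smul
      have he' : m (B 1) b = μ • m (B 0) b := by
        rw [← map_smul]
        exact (e.symm_apply_eq).1 he
      simp [he']
  · obtain ⟨b, hb', hb0⟩ := (Submodule.ne_bot_iff (LinearMap.ker (m (B 0)))).1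
      (fun h => hb (LinearMap.ker_eq_bot.1 h))
    exact ⟨B 0, b, B.ne_zero 0, hb0, hb'⟩

variable (m : V →ₗ[k] V →ₗ[k] W) (l : V →ₗ[k] W →ₗ[k] M) (r : W →ₗ[k] V →ₗ[k] M)
  (assoc : ∀ a b c, l a (m b c) = r (m a b) c)
  (hWs : Submodule.span k (Set.range fun p : V × V => m p.1 p.2) = ⊤)
  (ndl : ∀ x, l x = 0 → x = 0) (ndr : ∀ y, (∀ w, r w y = 0) → y = 0)
  (hc : ∃ a b, m a b ≠ m b a)

include hWs in
theorem finrank_le_of_products [FiniteDimensional k V] (hV : Module.finrank k V = 2) {x y : V}
    (h : LinearIndependent k ![x, y]) {U : Submodule k W} (h1 : m x x ∈ U) (h2 : m x y ∈ U)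
    (h3 : m y x ∈ U) (h4 : m y y ∈ U) : U = ⊤ := by
  rw [eq_top_iff, ← hWs, Submodule.span_le]
  rintro _ ⟨⟨u, v⟩, rfl⟩
  obtain ⟨s, t, rfl⟩ := exists_coords hV h u
  obtain ⟨s', t', rfl⟩ := exists_coords hV h v
  simp only [map_add, map_smul, LinearMap.add_apply, LinearMap.smul_apply, SetLike.mem_coe]
  exact add_mem
    (Submodule.smul_mem _ _ (add_mem (Submodule.smul_mem _ _ h1) (Submodule.smul_mem _ _ h3)))
    (Submodule.smul_mem _ _ (add_mem (Submodule.smul_mem _ _ h2) (Submodule.smul_mem _ _ h4)))

include assoc hWs ndl ndr hc in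
/-- Independent elements have nonzero product. -/
theorem mul_ne_zero_of_indep [FiniteDimensional k V] [FiniteDimensional k W]
    (hV : Module.finrank k V = 2) (hW : Module.finrank k W = 2) {x y : V}
    (h : LinearIndependent k ![x, y]) : m x y ≠ 0 := by
  intro h0
  have hx : x ≠ 0 := by simpa using h.ne_zero 0
  have hy : y ≠ 0 := by simpa using h.ne_zero 1
  have hA : Submodule.span k ({m x x, m y x} : Set W) ≠ ⊤ := fun hs => hy (ndr y fun w => by
    have : Submodule.span k ({m x x, m y x} : Set W) ≤ LinearMap.ker (r.flip y) := by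
      rw [Submodule.span_le]
      rintro w (rfl | rfl) <;> simp [SetLike.mem_coe, ← assoc, h0]
    simpa using this (hs ▸ Submodule.mem_top : w ∈ _))
  have hB : Submodule.span k ({m y x, m y y} : Set W) ≠ ⊤ := fun hs => hx (ndl x <| by
    refine LinearMap.ext fun w => ?_
    have : Submodule.span k ({m y x, m y y} : Set W) ≤ LinearMap.ker (l x) := by
      rw [Submodule.span_le]
      rintro w (rfl | rfl) <;> simp [SetLike.mem_coe, assoc, h0]
    exact this (hs ▸ Submodule.mem_top : w ∈ _))
  have line : ∀ {u v : W}, u ≠ 0 → Submodule.span k ({u, v} : Set W) ≠ ⊤ → v ∈ (k ∙ u) := by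
    intro u v hu hne
    by_contra hv
    apply hne
    have hli : LinearIndependent k ![u, v] := by
      rw [LinearIndependent.pair_iff' hu]
      exact fun c hc' => hv (Submodule.mem_span_singleton.2 ⟨c, hc'⟩)
    have := hli.span_eq_top_of_card_eq_finrank (by simp [hW])
    rwa [Matrix.range_cons, Matrix.range_cons, Matrix.range_empty, Set.union_empty,
      Set.singleton_union] at this
  by_cases hyx : m y x = 0
  · obtain ⟨a, b, hab⟩ := hc
    obtain ⟨s, t, rfl⟩ := exists_coords hV h a
    obtain ⟨s', t', rfl⟩ := exists_coords hV h b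
    apply hab
    simp only [map_add, map_smul, LinearMap.add_apply, LinearMap.smul_apply, h0, hyx]
    module
  · have h1 : m x x ∈ (k ∙ m y x) := line hyx (by rwa [Set.pair_comm])
    have h4 : m y y ∈ (k ∙ m y x) := line hyx hB
    have ht := finrank_le_of_products m hWs hV h h1 (by rw [h0]; exact zero_mem _)
      (Submodule.mem_span_singleton_self _) h4
    have e := finrank_span_singleton (K := k) hyx
    rw [ht, finrank_top, hW] at e
    omega

include assoc hWs ndl ndr hc in
/-- Generators with vanishing squares. -/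
theorem exists_square_zero [IsAlgClosed k] [FiniteDimensional k V] [FiniteDimensional k W]
    [FiniteDimensional k M] (hV : Module.finrank k V = 2) (hW : Module.finrank k W = 2)
    (hM2 : 2 ≤ Module.finrank k M)
    (hM : Submodule.span k (Set.range fun p : V × W => l p.1 p.2 - r p.2 p.1) = ⊤) :
    ∃ x y : V, LinearIndependent k ![x, y] ∧ m x x = 0 ∧ m y y = 0 := by
  obtain ⟨x, b, hx, hb, hxb⟩ := exists_zero_product m hV hW
  have hbx : b ∈ (k ∙ x) := by
    by_contra hb'
    exact mul_ne_zero_of_indep m l r assoc hWs ndl ndr hc hV hW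
      ((LinearIndependent.pair_iff' hx).2 fun c hc' =>
        hb' (Submodule.mem_span_singleton.2 ⟨c, hc'⟩)) hxb
  obtain ⟨c, rfl⟩ := Submodule.mem_span_singleton.1 hbx
  have hxx : m x x = 0 := by
    rw [map_smul, smul_eq_zero] at hxb
    exact hxb.resolve_left fun h0 => hb (by rw [h0, zero_smul])
  obtain ⟨y, hy⟩ : ∃ y, y ∉ (k ∙ x) := by
    by_contra h; push Not at h
    have e := finrank_span_singleton (K := k) hx
    rw [Submodule.eq_top_iff'.2 h, finrank_top, hV] at e
    omega
  have hli : LinearIndependent k ![x, y] := (LinearIndependent.pair_iff' hx).2 fun c hc' =>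
    hy (Submodule.mem_span_singleton.2 ⟨c, hc'⟩)
  have hxy : m x y ≠ 0 := mul_ne_zero_of_indep m l r assoc hWs ndl ndr hc hV hW hli
  have hyx : m y x ≠ 0 := mul_ne_zero_of_indep m l r assoc hWs ndl ndr hc hV hW
    (LinearIndependent.pair_symm_iff.1 hli)
  -- M is spanned by the brackets of generators
  have hMle : ∀ {U : Submodule k W} {Q : Submodule k M}, U = ⊤ →
      (∀ v ∈ ({x, y} : Set V), U ≤ Q.comap (l v - r.flip v)) → Q = ⊤ := by
    intro U Q hU hQ
    rw [eq_top_iff, ← hM, Submodule.span_le]
    rintro _ ⟨⟨u, w⟩, rfl⟩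
    obtain ⟨s, t, rfl⟩ := exists_coords hV hli u
    have h1 : l x w - r w x ∈ Q := hQ x (by simp) (hU ▸ Submodule.mem_top : w ∈ U)
    have h2 : l y w - r w y ∈ Q := hQ y (by simp) (hU ▸ Submodule.mem_top : w ∈ U)
    have e : l (s • x + t • y) w - r w (s • x + t • y) =
        s • (l x w - r w x) + t • (l y w - r w y) := by
      simp only [map_add, map_smul, LinearMap.add_apply, LinearMap.smul_apply]; module
    simp only [SetLike.mem_coe, e]
    exact add_mem (Submodule.smul_mem _ _ h1) (Submodule.smul_mem _ _ h2)
  have small : ∀ p : M, (k ∙ p) ≠ ⊤ := fun p h => by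
    have := finrank_span_le_card (R := k) ({p} : Set M)
    rw [h, finrank_top] at this
    simp at this
    omega
  by_cases hdep : m y x ∈ (k ∙ m x y)
  · obtain ⟨q, hq⟩ := Submodule.mem_span_singleton.1 hdep
    have hU : Submodule.span k ({m x y, m y y} : Set W) = ⊤ :=
      finrank_le_of_products m hWs hV hli (by rw [hxx]; exact zero_mem _)
        (Submodule.subset_span (by simp))
        (by rw [← hq]; exact Submodule.smul_mem _ _ (Submodule.subset_span (by simp)))
        (Submodule.subset_span (by simp))
    refine absurd (hMle (Q := k ∙ r (m x y) y) hU ?_) (small _)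
    have a1 : l x (m x y) = 0 := by rw [assoc, hxx]; simp
    have a2 : r (m x y) x = 0 := by rw [← assoc, ← hq, map_smul, a1, smul_zero]
    have a3 : l y (m x y) = q • r (m x y) y := by rw [assoc, ← hq]; simp
    have a4 : l x (m y y) = r (m x y) y := assoc _ _ _
    have a5 : r (m y y) x = (q * q) • r (m x y) y := by
      rw [← assoc, ← hq, map_smul, a3, smul_smul]
    have a6 : l y (m y y) = r (m y y) y := assoc _ _ _
    have hp : r (m x y) y ∈ (k ∙ r (m x y) y) := Submodule.mem_span_singleton_self _
    intro v hv
    rw [Submodule.span_le]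
    rintro w (rfl | rfl) <;> rcases hv with rfl | rfl <;>
      simp only [SetLike.mem_coe, Submodule.mem_comap, LinearMap.sub_apply, LinearMap.flip_apply,
        a1, a2, a3, a4, a5, a6, sub_self, zero_sub, sub_zero] <;>
      first
        | exact zero_mem _
        | exact sub_mem (Submodule.smul_mem _ _ hp) hp
        | exact sub_mem hp (Submodule.smul_mem _ _ hp)
        | exact neg_mem hp
  · have hU : Submodule.span k ({m x y, m y x} : Set W) = ⊤ := by
      have hw : LinearIndependent k ![m x y, m y x] := (LinearIndependent.pair_iff' hxy).2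
        fun c hc' => hdep (Submodule.mem_span_singleton.2 ⟨c, hc'⟩)
      have := hw.span_eq_top_of_card_eq_finrank (by simp [hW])
      rwa [Matrix.range_cons, Matrix.range_cons, Matrix.range_empty, Set.union_empty,
        Set.singleton_union] at this
    obtain ⟨α, β, hyy⟩ := Submodule.mem_span_pair.1 (hU ▸ Submodule.mem_top :
      m y y ∈ Submodule.span k ({m x y, m y x} : Set W))
    by_cases hαβ : α = β
    · subst hαβ
      refine ⟨x, y - α • x, (LinearIndependent.pair_iff' hx).2 fun c hc' => hy
        (Submodule.mem_span_singleton.2 ⟨c + α, by rw [add_smul, hc', sub_add_cancel]⟩), hxx, ?_⟩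
      simp only [map_sub, map_smul, LinearMap.sub_apply, LinearMap.smul_apply, hxx, ← hyy]
      module
    · have a1 : l x (m x y) = 0 := by rw [assoc, hxx]; simp
      have a2 : r (m y x) x = 0 := by rw [← assoc, hxx, map_zero]
      have b1 : l x (m y x) = r (m x y) x := assoc _ _ _
      have b2 : l y (m x y) = r (m y x) y := assoc _ _ _
      have b3 : r (m x y) y = β • r (m x y) x := by
        rw [← assoc, ← hyy, map_add, map_smul, map_smul, a1, b1, smul_zero, zero_add]
      have b4 : l y (m y x) = α • r (m x y) x := by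
        rw [assoc, ← hyy]; simp [a2]
      have b5 : r (m y x) y = 0 := by
        have e := assoc y y y
        rw [← hyy] at e
        simp only [map_add, map_smul, LinearMap.add_apply, LinearMap.smul_apply, b2, b3, b4] at e
        have e' : (α - β) • r (m y x) y = 0 := by
          rw [sub_smul]
          linear_combination (norm := module) e
        exact (smul_eq_zero.1 e').resolve_left (sub_ne_zero.2 hαβ)
      refine absurd (hMle (Q := k ∙ r (m x y) x) hU ?_) (small _)
      have hp : r (m x y) x ∈ (k ∙ r (m x y) x) := Submodule.mem_span_singleton_self _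
      intro v hv
      rw [Submodule.span_le]
      rintro w (rfl | rfl) <;> rcases hv with rfl | rfl <;>
        simp only [SetLike.mem_coe, Submodule.mem_comap, LinearMap.sub_apply,
          LinearMap.flip_apply, a1, a2, b1, b2, b3, b4, b5, sub_self, zero_sub, sub_zero] <;>
        first
          | exact zero_mem _
          | exact hp
          | exact neg_mem hp
          | exact Submodule.smul_mem _ _ hp
          | exact neg_mem (Submodule.smul_mem _ _ hp)

end Cfsg.Agent.BlockAlg.TwoGen
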