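/-
A local algebra with a trace form whose commutators have codimension at most five has dimension
at most eight.
-/
import Cfsg.Agent.Lib.BlockAlg.LocalSymLayers
import Cfsg.Agent.Lib.BlockAlg.ThreeGen
import Cfsg.Agent.Lib.BlockAlg.TwoGen

set_option linter.unusedSectionVars false
set_option autoImplicit false

namespace Cfsg.Agent.BlockAlg

variable {k : Type*} [Field k] {A : Type*} [Ring A] [Algebra k A]

theorem finrank_pair_le [FiniteDimensional k A] (p q : A) :
    Module.finrank k (Submodule.span k ({p, q} : Set A)) ≤ 2 := by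
  classical
  have h := (finrank_span_finset_le_card (R := k) ({p, q} : Finset A)).trans Finset.card_le_two
  rwa [Finset.coe_insert, Finset.coe_singleton] at h

namespace LocalSym

variable [FiniteDimensional k A] (S : LocalSym k A)

theorem finrank_eq : Module.finrank k A = Module.finrank k S.J + 1 := by
  have hdis : (k ∙ (1 : A)) ⊓ S.J = ⊥ := by
    rw [eq_bot_iff]
    rintro x ⟨hx, hx'⟩
    obtain ⟨c, rfl⟩ := Submodule.mem_span_singleton.1 hx
    rcases eq_or_ne c 0 with rfl | hc
    · simp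
    · exact absurd (by simpa [smul_smul, inv_mul_cancel₀ hc] using S.J.smul_mem c⁻¹ hx') S.one_notMem
  have htop : (k ∙ (1 : A)) ⊔ S.J = ⊤ := by
    refine Submodule.eq_top_iff'.2 fun a => Submodule.mem_sup.2
      ⟨S.eps a • 1, Submodule.smul_mem _ _ (Submodule.mem_span_singleton_self _), _, S.split a, ?_⟩
    abel
  have h := Submodule.finrank_sup_add_finrank_inf_eq (k ∙ (1 : A)) S.J
  rw [hdis, htop, finrank_bot, _root_.finrank_top, add_zero,
    finrank_span_singleton (fun h : (1 : A) = 0 => S.one_notMem (h ▸ zero_mem _))] at h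
  omega

theorem C_sup_top (hL : 2 ≤ S.L) :
    Module.finrank k (C ⊔ S.J ^ S.L : Submodule k A) = Module.finrank k (C : Submodule k A) + 1 ∧
      C ⊔ S.J ^ S.L ≤ S.J ^ 2 := by
  refine ⟨le_antisymm ?_ ?_, sup_le S.C_le_sq (S.pow_anti (by norm_num) hL)⟩
  · have := Submodule.finrank_add_le_finrank_add_finrank (C : Submodule k A) (S.J ^ S.L)
    rwa [S.finrank_top] at this
  · have hlt : (C : Submodule k A) < C ⊔ S.J ^ S.L :=
      lt_of_le_not_ge le_sup_left fun h => S.top_not_le_C (le_sup_right.trans h)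
    exact Submodule.finrank_lt_finrank_of_lt hlt

theorem layer_ge_two (hL : 3 ≤ S.L)
    (h : S.J ^ 2 ≤ C ⊔ S.J ^ 3 ∨ (4 ≤ S.L ∧ S.J ^ 3 ≤ C ⊔ S.J ^ 4 ∧
      ∃ a b, S.J ≤ Submodule.span k {a, b} ⊔ S.J ^ 2 ∧ a ∈ S.J ∧ b ∈ S.J))
    {n : ℕ} (hn : 2 ≤ n) (hnL : n + 1 ≤ S.L) :
    Module.finrank k (S.J ^ (n + 1) : Submodule k A) + 2 ≤
      Module.finrank k (S.J ^ n : Submodule k A) := by
  by_contra hc
  obtain ⟨w, -, hle⟩ := exists_line (S.pow_succ_le (show 1 ≤ n by omega)) (by omega)
  obtain ⟨j, rfl⟩ := Nat.exists_eq_add_of_le (show 1 ≤ n by omega)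
  rw [show 1 + j = j + 1 by omega, show j + 1 + 1 = j + 2 by omega] at hle
  obtain ⟨m, hm, hm'⟩ := S.line_top (n := j) (w := w) (by omega) hle
  exact S.false_of_thin hL hm hm' h

theorem comm_of_one_gen {x : A} (h : S.J ≤ (k ∙ x) ⊔ S.J ^ 2) (a b : A) : a * b = b * a := by
  have hpow : ∀ n, S.J ^ (n + 1) ≤ (k ∙ x ^ (n + 1)) ⊔ S.J ^ (n + 2) := by
    intro n
    induction n with
    | zero => simpa using h
    | succ n ih =>
      rw [pow_succ S.J (n + 1), Submodule.mul_le]
      intro p hp q hq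
      obtain ⟨_, hc, r, hr, rfl⟩ := Submodule.mem_sup.1 (ih hp)
      obtain ⟨_, hc', r', hr', rfl⟩ := Submodule.mem_sup.1 (h hq)
      obtain ⟨s, rfl⟩ := Submodule.mem_span_singleton.1 hc
      obtain ⟨s', rfl⟩ := Submodule.mem_span_singleton.1 hc'
      rw [show (s • x ^ (n + 1) + r) * (s' • x + r') =
        (s • x ^ (n + 1)) * (s' • x) + ((s • x ^ (n + 1)) * r' + r * (s' • x + r')) by
          simp only [add_mul, mul_add]; abel]
      refine Submodule.add_mem_sup ?_ (add_mem ?_ (S.mem_mul (i := n + 2) (j := 1) hr (S.mem_one hq)))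
      · rw [smul_mul_smul_comm, ← pow_succ]
        exact Submodule.smul_mem _ _ (Submodule.mem_span_singleton_self _)
      · have hxJ : s • x ^ (n + 1) ∈ S.J ^ (n + 1) := by
          simpa using sub_mem hp (S.pow_succ_le (Nat.succ_pos n) hr)
        exact S.mem_mul (i := n + 1) (j := 2) hxJ hr'
  have hJx : ∀ j, S.J ^ (S.L + 1 - j) ≤ (Algebra.adjoin k {x}).toSubmodule := by
    intro j
    induction j with
    | zero => rw [Nat.sub_zero, S.top_succ]; exact bot_le
    | succ j ih =>
      by_cases hj : S.L + 1 - (j + 1) = 0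
      · rw [hj, pow_zero, Submodule.one_le]
        exact one_mem (Algebra.adjoin k {x})
      · obtain ⟨n, hn⟩ := Nat.exists_eq_add_of_le (Nat.one_le_iff_ne_zero.2 hj)
        rw [hn, show 1 + n = n + 1 by omega]
        refine (hpow n).trans (sup_le ((Submodule.span_singleton_le_iff_mem _ _).2
          (pow_mem (Algebra.self_mem_adjoin_singleton k x) _)) ?_)
        rwa [show n + 2 = S.L + 1 - j by omega]
  have hall : ∀ a, a ∈ Algebra.adjoin k {x} := fun a => by
    have h1 : a - S.eps a • 1 ∈ Algebra.adjoin k {x} := by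
      have := hJx S.L
      rw [show S.L + 1 - S.L = 1 by omega, pow_one] at this
      exact this (S.split a)
    simpa using add_mem h1 (Subalgebra.smul_mem _ (one_mem _) (S.eps a))
  obtain ⟨p, rfl⟩ := (Algebra.adjoin_singleton_eq_range_aeval k x ▸ hall a :
    a ∈ (Polynomial.aeval x).range)
  obtain ⟨q, rfl⟩ := (Algebra.adjoin_singleton_eq_range_aeval k x ▸ hall b :
    b ∈ (Polynomial.aeval x).range)
  simp only [AlgHom.toRingHom_eq_coe, RingHom.coe_coe]
  rw [← map_mul, mul_comm, map_mul]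

theorem full_of_three (hL : 4 ≤ S.L) (hJ2 : S.J ^ 2 ≤ C ⊔ S.J ^ 3)
    (hd : Module.finrank k S.J = Module.finrank k (S.J ^ 2 : Submodule k A) + 3) :
    1 + Module.finrank k S.J ≤ Module.finrank k (S.J ^ (S.L - 1) : Submodule k A) +
      Module.finrank k (S.J ^ 2 : Submodule k A) := by
  by_contra hc
  have htop := S.finrank_top
  have hle : S.J ^ S.L ≤ S.J ^ (S.L - 1) := S.pow_anti (by omega) (by omega)
  obtain ⟨p, hp, q, hq, hpq⟩ := exists_plane hle (by omega)
  -- a generator orthogonal to the layer below the top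
  let F : ↥S.J →ₗ[k] k × k := ((S.τ.comp (LinearMap.mulRight k p)).prod
    (S.τ.comp (LinearMap.mulRight k q))).comp S.J.subtype
  have hF := F.finrank_range_add_finrank_ker
  have hF2 : Module.finrank k (LinearMap.range F) ≤ 2 :=
    (Submodule.finrank_le _).trans (by simp)
  obtain ⟨x, hxK, hx2⟩ := SetLike.not_le_iff_exists.1 (fun h => by
    have := Submodule.finrank_mono h
    rw [Submodule.finrank_map_subtype_eq] at this
    omega : ¬ (LinearMap.ker F).map S.J.subtype ≤ S.J ^ 2)
  obtain ⟨x, hxF, rfl⟩ := hxK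
  have hxp : S.τ ((x : A) * p) = 0 := congrArg Prod.fst (LinearMap.mem_ker.1 hxF)
  have hxq : S.τ ((x : A) * q) = 0 := congrArg Prod.snd (LinearMap.mem_ker.1 hxF)
  have hx0 : ∀ g ∈ S.J ^ (S.L - 1), S.τ ((x : A) * g) = 0 := by
    intro g hg
    obtain ⟨_, hs, r, hr, rfl⟩ := Submodule.mem_sup.1 (hpq hg)
    obtain ⟨s, t, rfl⟩ := Submodule.mem_span_pair.1 hs
    rw [mul_add, mul_add, mul_smul_comm, mul_smul_comm, map_add, map_add, map_smul, map_smul, hxp,
      hxq, S.tau_zero (i := 1 + S.L) (by omega) (S.mem_mul (S.mem_one x.2) hr)]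
    simp
  set N : Submodule k A := (k ∙ (x : A)) ⊔ S.J ^ 2 with hN
  have hNJ : N ≤ S.J := sup_le ((Submodule.span_singleton_le_iff_mem _ _).2 x.2) S.sq_le
  have hlt : S.J ^ 2 < N := lt_of_le_not_ge le_sup_right fun h =>
    hx2 (h (Submodule.mem_sup_left (Submodule.mem_span_singleton_self _)))
  have := Submodule.finrank_lt_finrank_of_lt hlt
  obtain ⟨u, hu, v, hv, huv⟩ := exists_plane hNJ (by omega)
  have hNτ : ∀ y ∈ N, ∀ g ∈ S.J ^ (S.L - 1), S.τ (y * g) = 0 := by
    intro y hy g hg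
    obtain ⟨_, hs, r, hr, rfl⟩ := Submodule.mem_sup.1 hy
    obtain ⟨s, rfl⟩ := Submodule.mem_span_singleton.1 hs
    rw [add_mul, smul_mul_assoc, map_add, map_smul, hx0 g hg,
      S.tau_zero (i := 2 + (S.L - 1)) (by omega) (S.mem_mul hr hg)]
    simp
  let I2 : Submodule k A :=
    { carrier := {m | m ∈ S.J ^ 2 ∧ ∀ g ∈ S.J ^ (S.L - 2), S.τ (g * m) = 0}
      add_mem' := fun ha hb => ⟨add_mem ha.1 hb.1, fun g hg => by
        rw [mul_add, map_add, ha.2 g hg, hb.2 g hg, add_zero]⟩
      zero_mem' := ⟨zero_mem _, fun g _ => by simp⟩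
      smul_mem' := fun c a ha => ⟨Submodule.smul_mem _ _ ha.1, fun g hg => by
        rw [mul_smul_comm, map_smul, ha.2 g hg, smul_zero]⟩ }
  have hI2 : S.J ^ 3 ≤ I2 := fun m hm => ⟨S.pow_succ_le (by norm_num) hm, fun g hg =>
    S.tau_zero (i := S.L - 2 + 3) (by omega) (S.mem_mul hg hm)⟩
  have hNl : ∀ y ∈ N, ∀ z ∈ S.J, y * z ∈ I2 := fun y hy z hz =>
    ⟨S.mem_mul (S.mem_one (hNJ hy)) (S.mem_one hz), fun g hg => by
      rw [← mul_assoc, S.comm, ← mul_assoc, S.comm]
      refine hNτ y hy _ ?_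
      have := S.mem_mul (S.mem_one hz) hg
      rwa [show 1 + (S.L - 2) = S.L - 1 by omega] at this⟩
  have hNr : ∀ y ∈ N, ∀ z ∈ S.J, z * y ∈ I2 := fun y hy z hz =>
    ⟨S.mem_mul (S.mem_one hz) (S.mem_one (hNJ hy)), fun g hg => by
      rw [← mul_assoc, S.comm]
      refine hNτ y hy _ ?_
      have := S.mem_mul hg (S.mem_one hz)
      rwa [show S.L - 2 + 1 = S.L - 1 by omega] at this⟩
  have hC : C ≤ (k ∙ (u * v - v * u)) ⊔ I2 := by
    refine S.C_le_span.trans (Submodule.span_le.2 ?_)
    rintro _ ⟨a, ha, b, hb, rfl⟩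
    refine bracket_mem (s := ({u, v} : Set A) ∪ ↑N) (t := ({u, v} : Set A) ∪ ↑N) ?_
      (by rw [span_union_eq]; exact huv ha) (by rw [span_union_eq]; exact huv hb)
    have hm : u * v - v * u ∈ (k ∙ (u * v - v * u)) ⊔ I2 :=
      Submodule.mem_sup_left (Submodule.mem_span_singleton_self _)
    have hN' : ∀ y ∈ N, ∀ z ∈ S.J, y * z - z * y ∈ (k ∙ (u * v - v * u)) ⊔ I2 := fun y hy z hz =>
      Submodule.mem_sup_right (sub_mem (hNl y hy z hz) (hNr y hy z hz))
    rintro g ((rfl | rfl) | hg) g' ((rfl | rfl) | hg')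
    all_goals first
      | exact hN' _ hg _ (by first | exact hNJ hg' | assumption)
      | (have e := hN' _ hg' _ ‹g ∈ S.J›; simpa using neg_mem e)
      | exact hm
      | (simpa using neg_mem hm)
      | simp
  have hsq : S.J ^ 2 ≤ (k ∙ (u * v - v * u)) ⊔ I2 :=
    hJ2.trans (sup_le hC (hI2.trans le_sup_right))
  by_cases hall : ∀ a ∈ S.J, ∀ b ∈ S.J, a * b ∈ I2
  · obtain ⟨s, hs, hs1⟩ := S.exists_top_tau
    have hz : ∀ y ∈ S.J ^ S.L, S.τ y = 0 := by
      intro y hy
      rw [show S.L = S.L - 2 + 2 by omega, pow_add] at hy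
      induction hy using Submodule.mul_induction_on' with
      | mem_mul_mem g hg m hm =>
        rw [pow_two] at hm
        exact ((Submodule.mul_le.2 hall) hm).2 g hg
      | add _ _ _ _ h1 h2 => rw [map_add, h1, h2, add_zero]
    rw [hz s hs] at hs1
    exact zero_ne_one hs1
  push Not at hall
  obtain ⟨a, ha, b, hb, hab⟩ := hall
  have habJ : a * b ∈ S.J ^ 2 := S.mem_mul (S.mem_one ha) (S.mem_one hb)
  have hab2 : S.J ^ 2 ≤ (k ∙ (a * b)) ⊔ I2 := hsq.trans (le_line_of_mem (hsq habJ) hab)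
  set T := (k ∙ (a * b ^ (S.L - 2))) ⊔ S.J ^ S.L with hT
  have hkey : ∀ (w : A) (i s : ℕ), i + s + 2 = S.L - 1 → w ∈ S.J ^ i → ∀ m ∈ I2,
      w * m * b ^ s ∈ S.J ^ S.L := by
    intro w i s hi hw m hm
    refine S.mem_top_of_tau fun y hy => ?_
    rw [← mul_assoc, S.comm, ← mul_assoc, ← mul_assoc, mul_assoc _ w m, ← mul_assoc _ w m]
    refine hm.2 _ ?_
    have := S.mem_mul (S.mem_mul (Submodule.pow_mem_pow S.J hb s) (S.mem_one hy)) hw
    rwa [show s + 1 + i = S.L - 2 by omega] at this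
  have hP : ∀ i, i ≤ S.L - 3 → ∀ w ∈ S.J ^ i, w * (a * b ^ (S.L - 2 - i)) ∈ T := by
    intro i
    induction i with
    | zero =>
      intro _ w hw
      rw [pow_zero] at hw
      obtain ⟨c, rfl⟩ := Submodule.mem_one.1 hw
      rw [Algebra.algebraMap_eq_smul_one, smul_mul_assoc, one_mul, Nat.sub_zero]
      exact Submodule.mem_sup_left (Submodule.smul_mem _ _ (Submodule.mem_span_singleton_self _))
    | succ i ih =>
      intro hi w hw
      rw [pow_succ] at hw
      induction hw using Submodule.mul_induction_on' with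
      | mem_mul_mem w hw g hg =>
        obtain ⟨_, hs, m, hm, e⟩ := Submodule.mem_sup.1
          (hab2 (S.mem_mul (S.mem_one hg) (S.mem_one ha) : g * a ∈ S.J ^ 2))
        obtain ⟨c, rfl⟩ := Submodule.mem_span_singleton.1 hs
        rw [show w * g * (a * b ^ (S.L - 2 - (i + 1))) = w * (g * a) * b ^ (S.L - 2 - (i + 1)) by
          simp only [mul_assoc], ← e, mul_add, add_mul, mul_smul_comm, smul_mul_assoc]
        refine add_mem (Submodule.smul_mem _ _ ?_) (Submodule.mem_sup_right
          (hkey w i _ (by omega) hw m hm))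
        rw [show w * (a * b) * b ^ (S.L - 2 - (i + 1)) =
          w * (a * (b * b ^ (S.L - 2 - (i + 1)))) by simp only [mul_assoc], ← pow_succ',
          show S.L - 2 - (i + 1) + 1 = S.L - 2 - i by omega]
        exact ih (by omega) w hw
      | add _ _ _ _ h1 h2 => rw [add_mul]; exact add_mem h1 h2
  have hline : S.J ^ (S.L - 1) ≤ T := by
    rw [show S.L - 1 = S.L - 3 + 2 by omega, pow_add, Submodule.mul_le]
    intro w hw y hy
    obtain ⟨_, hs, m, hm, rfl⟩ := Submodule.mem_sup.1 (hab2 hy)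
    obtain ⟨c, rfl⟩ := Submodule.mem_span_singleton.1 hs
    rw [mul_add, mul_smul_comm]
    refine add_mem (Submodule.smul_mem _ _ ?_) (Submodule.mem_sup_right ?_)
    · have := hP (S.L - 3) le_rfl w hw
      rwa [show S.L - 2 - (S.L - 3) = 1 by omega, pow_one] at this
    · simpa using hkey w (S.L - 3) 0 (by omega) hw m hm
  refine S.false_of_thin (by omega) ?_ hline (Or.inl hJ2)
  have := S.mem_mul (S.mem_one ha) (Submodule.pow_mem_pow S.J hb (S.L - 2))
  rwa [show 1 + (S.L - 2) = S.L - 1 by omega] at this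

theorem nondeg_left {y : A} (hL : 3 ≤ S.L) (hfull : 1 + Module.finrank k S.J ≤
      Module.finrank k (S.J ^ (S.L - 1) : Submodule k A) +
        Module.finrank k (S.J ^ 2 : Submodule k A))
    (hy : y ∈ S.J) (h : ∀ w ∈ S.J ^ 2, y * w ∈ S.J ^ 4) : y ∈ S.J ^ 2 := by
  refine S.mem_sq_of_tau (i := S.L - 1) (by omega) hfull hy fun g hg => ?_
  rw [show S.L - 1 = 2 + (S.L - 3) by omega, pow_add] at hg
  induction hg using Submodule.mul_induction_on' with
  | mem_mul_mem w hw z hz =>
    rw [← mul_assoc]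
    exact S.tau_zero (i := 4 + (S.L - 3)) (by omega) (S.mem_mul (h w hw) hz)
  | add _ _ _ _ h1 h2 => rw [mul_add, map_add, h1, h2, add_zero]

theorem nondeg_right {y : A} (hL : 3 ≤ S.L) (hfull : 1 + Module.finrank k S.J ≤
      Module.finrank k (S.J ^ (S.L - 1) : Submodule k A) +
        Module.finrank k (S.J ^ 2 : Submodule k A))
    (hy : y ∈ S.J) (h : ∀ w ∈ S.J ^ 2, w * y ∈ S.J ^ 4) : y ∈ S.J ^ 2 := by
  refine S.mem_sq_of_tau (i := S.L - 1) (by omega) hfull hy fun g hg => ?_
  rw [show S.L - 1 = (S.L - 3) + 2 by omega, pow_add] at hg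
  rw [S.comm]
  induction hg using Submodule.mul_induction_on' with
  | mem_mul_mem z hz w hw =>
    rw [mul_assoc]
    exact S.tau_zero (i := S.L - 3 + 4) (by omega) (S.mem_mul hz (h w hw))
  | add _ _ _ _ h1 h2 => rw [add_mul, map_add, h1, h2, add_zero]

theorem false_three [IsAlgClosed k] (hL : 4 ≤ S.L) (hJ2 : S.J ^ 2 ≤ C ⊔ S.J ^ S.L)
    (hd : Module.finrank k S.J = Module.finrank k (S.J ^ 2 : Submodule k A) + 3) : False := by
  have hJ23 : S.J ^ 2 ≤ C ⊔ S.J ^ 3 :=
    hJ2.trans (sup_le_sup_left (S.pow_anti (by norm_num) (by omega)) _)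
  have hJ34 : S.J ^ 3 ≤ C ⊔ S.J ^ 4 := (S.pow_succ_le (by norm_num)).trans
    (hJ2.trans (sup_le_sup_left (S.pow_anti (by norm_num) hL) _))
  have hfull := S.full_of_three hL hJ23 hd
  obtain ⟨U, hUJ, hJU, hU⟩ := S.exists_compl
  have hV : Module.finrank k U = 3 := by
    have := S.finrank_compl hUJ hJU hU
    omega
  have hl2 : Module.finrank k (S.J ^ 3 : Submodule k A) + 2 ≤ Module.finrank k (S.J ^ 2 : Submodule k A) := S.layer_ge_two (by omega) (Or.inl hJ23) (n := 2) le_rfl (by omega)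
  have hl3 : Module.finrank k (S.J ^ 4 : Submodule k A) + 2 ≤ Module.finrank k (S.J ^ 3 : Submodule k A) := S.layer_ge_two (by omega) (Or.inl hJ23) (n := 3) (by norm_num) (by omega)
  have hW : Module.finrank k (S.Lay 2) + Module.finrank k (S.J ^ 3 : Submodule k A) = Module.finrank k (S.J ^ 2 : Submodule k A) := S.finrank_lay (n := 2) (by norm_num)
  have hM : Module.finrank k (S.Lay 3) + Module.finrank k (S.J ^ 4 : Submodule k A) = Module.finrank k (S.J ^ 3 : Submodule k A) := S.finrank_lay (n := 3) (by norm_num)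
  refine ThreeGen.false_of_three (S.mm hUJ) (S.ll hUJ) (S.rr hUJ)
    (assoc := S.assoc_layers hUJ) (hW := S.span_brackets_mm hUJ hJ23 hJU)
    (hlM := S.span_ll hUJ hJU)
    (ndl := S.ndl_layers hUJ hU fun y hy h => S.nondeg_left (by omega) hfull hy h)
    (ndr := S.ndr_layers hUJ hU fun y hy h => S.nondeg_right (by omega) hfull hy h)
    hV (by omega) (by omega) ?_ ?_
  · intro a hs
    by_contra h3
    obtain ⟨p, -, q, -, hpq⟩ := exists_plane (S.pow_succ_le (show 1 ≤ 3 by norm_num))
      (show Module.finrank k (S.J ^ 3 : Submodule k A) ≤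
        Module.finrank k (S.J ^ 4 : Submodule k A) + 2 by omega)
    have hfac : ∀ y ∈ S.J ^ 2, ∃ b ∈ S.J, y - (a : A) * b ∈ S.J ^ 3 := by
      intro y hy
      obtain ⟨b, hb⟩ := hs (S.cls 2 ⟨y, hy⟩)
      refine ⟨b, hUJ b.2, ?_⟩
      simp only [mm, LinearMap.mk₂_apply] at hb
      have e := (S.cls_eq_zero _).1 (show S.cls 2 (⟨y, hy⟩ - ⟨(a : A) * b,
          S.mem_mul (S.mem_one (hUJ a.2)) (S.mem_one (hUJ b.2))⟩) = 0 by
        rw [map_sub, ← hb, sub_self])
      exact e
    have hall : ∀ n, S.J ^ (3 + n) ≤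
        Submodule.span k {(a : A) ^ n * p, (a : A) ^ n * q} ⊔ S.J ^ (4 + n) := by
      intro n
      induction n with
      | zero => simpa using hpq
      | succ n ih =>
        rw [show 3 + (n + 1) = 2 + (2 + n) by omega, pow_add S.J 2 (2 + n), Submodule.mul_le]
        intro y hy z hz
        obtain ⟨b, hb, hyb⟩ := hfac y hy
        have hbz : b * z ∈ S.J ^ (3 + n) := by
          have := S.mem_mul (S.mem_one hb) hz
          rwa [show 1 + (2 + n) = 3 + n by omega] at this
        obtain ⟨_, hs', r, hr, e⟩ := Submodule.mem_sup.1 (ih hbz)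
        obtain ⟨s, t, rfl⟩ := Submodule.mem_span_pair.1 hs'
        rw [show y * z = (a : A) * (b * z) + (y - (a : A) * b) * z by noncomm_ring, ← e, mul_add,
          add_assoc]
        refine Submodule.add_mem_sup (Submodule.mem_span_pair.2 ⟨s, t, ?_⟩) (add_mem ?_ ?_)
        · rw [mul_add, mul_smul_comm, mul_smul_comm, ← mul_assoc, ← mul_assoc, ← pow_succ']
        · have := S.mem_mul (S.mem_one (hUJ a.2)) hr
          rwa [show 1 + (4 + n) = 4 + (n + 1) by omega] at this
        · have := S.mem_mul hyb hz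
          rwa [show 3 + (2 + n) = 4 + (n + 1) by omega] at this
    have h' := hall (S.L - 4)
    rw [show 3 + (S.L - 4) = S.L - 1 by omega, show 4 + (S.L - 4) = S.L by omega] at h'
    have h2 := finrank_le_of_le_sup h'
    have := finrank_pair_le (k := k) ((a : A) ^ (S.L - 4) * p) ((a : A) ^ (S.L - 4) * q)
    have := S.finrank_top
    omega
  · intro hW3
    refine S.span_brackets_ll hUJ hJ34 hJU ?_
    let B := Module.finBasisOfFinrankEq k U hV
    have hB3 : Module.finrank k (BU U) ≤ 3 :=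
      finrank_BU_le_three (u := (B 0 : A)) (v := (B 1 : A)) (x := (B 2 : A)) fun z hz => by
        have e := congrArg Subtype.val (B.sum_repr ⟨z, hz⟩)
        simp only [Fin.sum_univ_three, Submodule.coe_add, SetLike.val_smul] at e
        rw [← e]
        exact add_mem (add_mem (Submodule.smul_mem _ _ (Submodule.subset_span (by simp)))
          (Submodule.smul_mem _ _ (Submodule.subset_span (by simp))))
          (Submodule.smul_mem _ _ (Submodule.subset_span (by simp)))
    have hle : S.J ^ 2 ≤ BU U ⊔ S.J ^ 3 :=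
      hJ23.trans (sup_le ((S.C_le_BU hJU).trans (sup_le_sup_left S.D3_le _)) le_sup_right)
    have hsum := Submodule.finrank_sup_add_finrank_inf_eq (BU U) (S.J ^ 3)
    have := Submodule.finrank_mono hle
    exact Submodule.finrank_eq_zero.1 (by omega)

theorem false_two [IsAlgClosed k] (hL : 5 ≤ S.L)
    (hd : Module.finrank k S.J = Module.finrank k (S.J ^ 2 : Submodule k A) + 2)
    (hf2 : Module.finrank k (S.J ^ 2 : Submodule k A) ≤
      Module.finrank k (C : Submodule k A) + 2)
    (h3 : S.J ^ 3 ≤ C ⊔ S.J ^ S.L) : False := by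
  have hJ34 : S.J ^ 3 ≤ C ⊔ S.J ^ 4 :=
    h3.trans (sup_le_sup_left (S.pow_anti (by norm_num) (by omega)) _)
  obtain ⟨U, hUJ, hJU, hU⟩ := S.exists_compl
  have hV : Module.finrank k U = 2 := by
    have := S.finrank_compl hUJ hJU hU
    omega
  have gens : ∀ {X Y : U}, LinearIndependent k ![X, Y] →
      U ≤ Submodule.span k {(X : A), (Y : A)} := by
    intro X Y h z hz
    obtain ⟨s, t, e⟩ := TwoGen.exists_coords hV h ⟨z, hz⟩
    exact Submodule.mem_span_pair.2 ⟨s, t, (congrArg Subtype.val e).symm⟩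
  have gensJ : ∀ {X Y : U}, LinearIndependent k ![X, Y] →
      S.J ≤ Submodule.span k {(X : A), (Y : A)} ⊔ S.J ^ 2 := fun h =>
    hJU.trans (sup_le_sup_right (gens h) _)
  let B := Module.finBasisOfFinrankEq k U hV
  have hB : LinearIndependent k ![B 0, B 1] := by
    have e : ![B 0, B 1] = ⇑B := by ext i; fin_cases i <;> rfl
    rw [e]; exact B.linearIndependent
  have hone : ∀ n, 2 ≤ n → n + 1 ≤ S.L → Module.finrank k (S.J ^ (n + 1) : Submodule k A) + 2 ≤
      Module.finrank k (S.J ^ n : Submodule k A) := fun n hn hnL =>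
    S.layer_ge_two (by omega)
      (Or.inr ⟨by omega, hJ34, _, _, gensJ hB, hUJ (B 0).2, hUJ (B 1).2⟩) hn hnL
  have hl2 : Module.finrank k (S.J ^ 3 : Submodule k A) + 2 ≤ Module.finrank k (S.J ^ 2 : Submodule k A) := hone 2 le_rfl (by omega)
  have hl3 : Module.finrank k (S.J ^ 4 : Submodule k A) + 2 ≤ Module.finrank k (S.J ^ 3 : Submodule k A) := hone 3 (by norm_num) (by omega)
  have htop := S.finrank_top
  have hfull : 1 + Module.finrank k S.J ≤ Module.finrank k (S.J ^ (S.L - 1) : Submodule k A) +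
      Module.finrank k (S.J ^ 2 : Submodule k A) := by
    have := hone (S.L - 1) (by omega) (by omega)
    rw [show S.L - 1 + 1 = S.L by omega] at this
    omega
  have hcs := S.C_sup_top (by omega)
  set X₀ : A := ((B 0 : U) : A)
  set Y₀ : A := ((B 1 : U) : A)
  have hCc : C ⊔ S.J ^ S.L ≤ (k ∙ (X₀ * Y₀ - Y₀ * X₀)) ⊔ S.J ^ 3 :=
    sup_le ((S.C_le_BU hJU).trans (sup_le ((BU_le_line (gens hB)).trans le_sup_left)
      (S.D3_le.trans le_sup_right))) ((S.pow_anti (by norm_num) (by omega)).trans le_sup_right)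
  have hc0 : X₀ * Y₀ - Y₀ * X₀ ∉ S.J ^ 3 := by
    intro h
    have := Submodule.finrank_mono
      (hCc.trans (sup_le ((Submodule.span_singleton_le_iff_mem _ _).2 h) le_rfl))
    omega
  have hf23 : Module.finrank k (S.J ^ 2 : Submodule k A) ≤
      Module.finrank k (S.J ^ 3 : Submodule k A) + 2 := by
    have h1 := finrank_le_of_le_sup hCc
    have h2 := finrank_line_le (k := k) (X₀ * Y₀ - Y₀ * X₀)
    omega
  have hW : Module.finrank k (S.Lay 2) + Module.finrank k (S.J ^ 3 : Submodule k A) = Module.finrank k (S.J ^ 2 : Submodule k A) := S.finrank_lay (n := 2) (by norm_num)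
  have hM : Module.finrank k (S.Lay 3) + Module.finrank k (S.J ^ 4 : Submodule k A) = Module.finrank k (S.J ^ 3 : Submodule k A) := S.finrank_lay (n := 3) (by norm_num)
  have hBU : BU U ⊓ S.J ^ 3 = ⊥ := by
    rw [eq_bot_iff]
    rintro z ⟨hz, hz'⟩
    obtain ⟨s, rfl⟩ := Submodule.mem_span_singleton.1 (BU_le_line (gens hB) hz)
    rcases eq_or_ne s 0 with rfl | hs
    · simp
    · exact absurd (by simpa [smul_smul, inv_mul_cancel₀ hs] using (S.J ^ 3).smul_mem s⁻¹ hz') hc0
  obtain ⟨X, Y, hXY, hXX, hYY⟩ := TwoGen.exists_square_zero (S.mm hUJ) (S.ll hUJ) (S.rr hUJ)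
    (assoc := S.assoc_layers hUJ) (hWs := S.span_mm hUJ hJU)
    (ndl := S.ndl_layers hUJ hU fun y hy h => S.nondeg_left (by omega) hfull hy h)
    (ndr := S.ndr_layers hUJ hU fun y hy h => S.nondeg_right (by omega) hfull hy h)
    (hc := ⟨B 0, B 1, fun e => hc0 <| by
      simp only [mm, LinearMap.mk₂_apply] at e
      rw [← sub_eq_zero, ← map_sub, S.cls_eq_zero] at e
      exact e⟩)
    hV (by omega) (by omega) (S.span_brackets_ll hUJ hJ34 hJU hBU)
  have hXX' : (X : A) * X ∈ S.J ^ 3 := by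
    simp only [mm, LinearMap.mk₂_apply] at hXX
    rw [S.cls_eq_zero] at hXX
    exact hXX
  have hYY' : (Y : A) * Y ∈ S.J ^ 3 := by
    simp only [mm, LinearMap.mk₂_apply] at hYY
    rw [S.cls_eq_zero] at hYY
    exact hYY
  have hgJ := gensJ hXY
  have hBUXY := BU_le_line (gens hXY)
  set x : A := (X : A)
  set y : A := (Y : A)
  have hx : x ∈ S.J := hUJ X.2
  have hy : y ∈ S.J := hUJ Y.2
  -- degree arithmetic
  have m4 : ∀ p ∈ S.J, ∀ q ∈ S.J ^ 3, p * q ∈ S.J ^ 4 := fun p hp q hq =>
    S.mem_mul (i := 1) (j := 3) (S.mem_one hp) hq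
  have m4' : ∀ p ∈ S.J, ∀ q ∈ S.J ^ 3, q * p ∈ S.J ^ 4 := fun p hp q hq =>
    S.mem_mul (i := 3) (j := 1) hq (S.mem_one hp)
  have hg2 : S.J ^ 2 ≤ Submodule.span k {x * y, y * x} ⊔ S.J ^ 3 := by
    intro z hz
    have hz' : z ∈ S.J * S.J := by rwa [← pow_two]
    clear hz
    induction hz' using Submodule.mul_induction_on' with
    | mem_mul_mem p hp q hq =>
      obtain ⟨_, h1, p', hp', rfl⟩ := Submodule.mem_sup.1 (hgJ hp)
      obtain ⟨_, h2, q', hq', rfl⟩ := Submodule.mem_sup.1 (hgJ hq)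
      obtain ⟨s, t, rfl⟩ := Submodule.mem_span_pair.1 h1
      obtain ⟨s', t', rfl⟩ := Submodule.mem_span_pair.1 h2
      have e : (s • x + t • y + p') * (s' • x + t' • y + q') =
          ((s * t') • (x * y) + (t * s') • (y * x)) + ((s * s') • (x * x) + (t * t') • (y * y) +
            (s • (x * q') + t • (y * q')) + p' * (s' • x + t' • y + q')) := by
        simp only [add_mul, mul_add, smul_mul_assoc, mul_smul_comm, smul_smul, smul_add]
        module
      rw [e]
      refine Submodule.add_mem_sup (Submodule.mem_span_pair.2 ⟨_, _, rfl⟩) ?_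
      exact add_mem (add_mem (add_mem (Submodule.smul_mem _ _ hXX') (Submodule.smul_mem _ _ hYY'))
        (add_mem (Submodule.smul_mem _ _ (S.mem_mul (i := 1) (j := 2) (S.mem_one hx) hq'))
          (Submodule.smul_mem _ _ (S.mem_mul (i := 1) (j := 2) (S.mem_one hy) hq'))))
        (S.mem_mul (i := 2) (j := 1) hp' (S.mem_one hq))
    | add _ _ _ _ h1 h2 => exact add_mem h1 h2
  have hxy : x * y ∈ S.J ^ 2 := S.mem_mul (S.mem_one hx) (S.mem_one hy)
  have hyx : y * x ∈ S.J ^ 2 := S.mem_mul (S.mem_one hy) (S.mem_one hx)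
  have hg3 : S.J ^ 3 ≤ Submodule.span k {x * y * x, y * x * y} ⊔ S.J ^ 4 := by
    intro z hz
    have hz' : z ∈ S.J * S.J ^ 2 := by rwa [← pow_succ']
    clear hz
    induction hz' using Submodule.mul_induction_on' with
    | mem_mul_mem p hp q hq =>
      obtain ⟨_, h1, p', hp', rfl⟩ := Submodule.mem_sup.1 (hgJ hp)
      obtain ⟨_, h2, q', hq', rfl⟩ := Submodule.mem_sup.1 (hg2 hq)
      obtain ⟨s, t, rfl⟩ := Submodule.mem_span_pair.1 h1
      obtain ⟨s', t', rfl⟩ := Submodule.mem_span_pair.1 h2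
      have e : (s • x + t • y + p') * (s' • (x * y) + t' • (y * x) + q') =
          ((s * t') • (x * y * x) + (t * s') • (y * x * y)) +
            ((s * s') • (x * x * y) + (t * t') • (y * y * x) +
              (s • (x * q') + t • (y * q')) + p' * (s' • (x * y) + t' • (y * x) + q')) := by
        simp only [add_mul, mul_add, smul_mul_assoc, mul_smul_comm, smul_smul, smul_add, mul_assoc]
        module
      rw [e]
      refine Submodule.add_mem_sup (Submodule.mem_span_pair.2 ⟨_, _, rfl⟩) ?_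
      exact add_mem (add_mem (add_mem (Submodule.smul_mem _ _ (m4' y hy _ hXX'))
        (Submodule.smul_mem _ _ (m4' x hx _ hYY')))
        (add_mem (Submodule.smul_mem _ _ (m4 x hx _ hq')) (Submodule.smul_mem _ _ (m4 y hy _ hq'))))
        (S.mem_mul (i := 2) (j := 2) hp' hq)
    | add _ _ _ _ h1 h2 => exact add_mem h1 h2
  have hind : ∀ s t : k, s • (x * y * x) + t • (y * x * y) ∈ S.J ^ 4 → s = 0 ∧ t = 0 := by
    intro s t h
    have key : ∀ w, Submodule.span k {x * y * x, y * x * y} ≤ (k ∙ w) ⊔ S.J ^ 4 → False := by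
      intro w hw
      have h1 := finrank_le_of_le_sup (hg3.trans (sup_le hw le_sup_right))
      have h2 := finrank_line_le (k := k) w
      omega
    constructor
    · by_contra hs
      refine key (y * x * y) (Submodule.span_le.2 ?_)
      rintro z (rfl | rfl)
      · have e : x * y * x = (-(s⁻¹ * t)) • (y * x * y) +
            s⁻¹ • (s • (x * y * x) + t • (y * x * y)) := by
          rw [smul_add, smul_smul, smul_smul, inv_mul_cancel₀ hs, one_smul]; module
        rw [SetLike.mem_coe, e]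
        exact Submodule.add_mem_sup (Submodule.smul_mem _ _ (Submodule.mem_span_singleton_self _))
          (Submodule.smul_mem _ _ h)
      · exact Submodule.mem_sup_left (Submodule.mem_span_singleton_self _)
    · by_contra ht
      refine key (x * y * x) (Submodule.span_le.2 ?_)
      rintro z (rfl | rfl)
      · exact Submodule.mem_sup_left (Submodule.mem_span_singleton_self _)
      · have e : y * x * y = (-(t⁻¹ * s)) • (x * y * x) +
            t⁻¹ • (s • (x * y * x) + t • (y * x * y)) := by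
          rw [smul_add, smul_smul, smul_smul, inv_mul_cancel₀ ht, one_smul]; module
        rw [SetLike.mem_coe, e]
        exact Submodule.add_mem_sup (Submodule.smul_mem _ _ (Submodule.mem_span_singleton_self _))
          (Submodule.smul_mem _ _ h)
  set P : A := x * y * x * y - y * x * y * x with hP
  set Q : Submodule k A := (k ∙ P) ⊔ S.J ^ 5 with hQ
  have hQ5 : ∀ {i : ℕ}, 5 ≤ i → S.J ^ i ≤ Q := fun h =>
    (S.pow_anti (by norm_num) h).trans le_sup_right
  have hPm : P ∈ Q := Submodule.mem_sup_left (Submodule.mem_span_singleton_self _)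
  have hgJ' : ∀ {p : A}, p ∈ S.J → p ∈ Submodule.span k (({x, y} : Set A) ∪ ↑(S.J ^ 2)) :=
    fun hp => by rw [span_union_eq]; exact hgJ hp
  have hg3' : ∀ {p : A}, p ∈ S.J ^ 3 →
      p ∈ Submodule.span k (({x * y * x, y * x * y} : Set A) ∪ ↑(S.J ^ 4)) :=
    fun hp => by rw [span_union_eq]; exact hg3 hp
  have hg2' : ∀ {p : A}, p ∈ S.J ^ 2 →
      p ∈ Submodule.span k (({x * y, y * x} : Set A) ∪ ↑(S.J ^ 3)) :=
    fun hp => by rw [span_union_eq]; exact hg2 hp
  have hxyx : x * y * x ∈ S.J ^ 3 := S.mem_mul (i := 2) (j := 1) hxy (S.mem_one hx)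
  have hyxy : y * x * y ∈ S.J ^ 3 := S.mem_mul (i := 2) (j := 1) hyx (S.mem_one hy)
  have h13 : ∀ p ∈ S.J, ∀ q ∈ S.J ^ 3, p * q - q * p ∈ Q := by
    intro p hp q hq
    refine bracket_mem ?_ (hgJ' hp) (hg3' hq)
    rintro g (hg | hg) g' (hg' | hg')
    · rcases hg with rfl | rfl <;> rcases hg' with rfl | rfl
      · refine hQ5 le_rfl (sub_mem ?_ ?_)
        · have := S.mem_mul (i := 3) (j := 2) hXX' hyx
          simpa only [mul_assoc] using this
        · have := S.mem_mul (i := 2) (j := 3) hxy hXX'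
          simpa only [mul_assoc] using this
      · have e : x * (y * x * y) - y * x * y * x = P := by simp only [hP, mul_assoc]
        rw [e]; exact hPm
      · have e : y * (x * y * x) - x * y * x * y = -P := by simp only [hP, mul_assoc]; abel
        rw [e]; exact neg_mem hPm
      · refine hQ5 le_rfl (sub_mem ?_ ?_)
        · have := S.mem_mul (i := 3) (j := 2) hYY' hxy
          simpa only [mul_assoc] using this
        · have := S.mem_mul (i := 2) (j := 3) hyx hYY'
          simpa only [mul_assoc] using this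
    · have hgm : g ∈ S.J := by rcases hg with rfl | rfl <;> assumption
      exact hQ5 le_rfl (sub_mem (S.mem_mul (i := 1) (j := 4) (S.mem_one hgm) hg')
        (S.mem_mul (i := 4) (j := 1) hg' (S.mem_one hgm)))
    all_goals
      have hgm' : g' ∈ S.J ^ 3 := by
        first
          | (rcases hg' with rfl | rfl <;> assumption)
          | exact S.pow_succ_le (by norm_num) hg'
      exact hQ5 le_rfl (sub_mem (S.mem_mul (i := 2) (j := 3) hg hgm')
        (S.mem_mul (i := 3) (j := 2) hgm' hg))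
  have h22 : ∀ p ∈ S.J ^ 2, ∀ q ∈ S.J ^ 2, p * q - q * p ∈ Q := by
    intro p hp q hq
    refine bracket_mem ?_ (hg2' hp) (hg2' hq)
    have hb : x * y * (y * x) - y * x * (x * y) ∈ Q := by
      refine hQ5 le_rfl (sub_mem ?_ ?_)
      · have := S.mem_mul (i := 1) (j := 4) (S.mem_one hx) (m4' x hx _ hYY')
        simpa only [mul_assoc] using this
      · have := S.mem_mul (i := 1) (j := 4) (S.mem_one hy) (m4' y hy _ hXX')
        simpa only [mul_assoc] using this
    rintro g (hg | hg) g' (hg' | hg')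
    · rcases hg with rfl | rfl <;> rcases hg' with rfl | rfl
      · simp
      · exact hb
      · simpa using neg_mem hb
      · simp
    · have hgm : g ∈ S.J ^ 2 := by rcases hg with rfl | rfl <;> assumption
      exact hQ5 le_rfl (sub_mem (S.mem_mul (i := 2) (j := 3) hgm hg')
        (S.mem_mul (i := 3) (j := 2) hg' hgm))
    all_goals
      have hgm' : g' ∈ S.J ^ 2 := by
        first
          | (rcases hg' with rfl | rfl <;> assumption)
          | exact S.pow_succ_le (by norm_num) hg'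
      exact hQ5 le_rfl (sub_mem (S.mem_mul (i := 3) (j := 2) hg hgm')
        (S.mem_mul (i := 2) (j := 3) hgm' hg))
  have hD : S.D3 ≤ Submodule.span k {x * (x * y) - x * y * x, x * (y * x) - y * x * x,
      y * (x * y) - x * y * y, y * (y * x) - y * x * y} ⊔ Q := by
    refine Submodule.span_le.2 ?_
    rintro _ ⟨p, hp, q, hq, rfl⟩
    refine bracket_mem ?_ (hgJ' hp) (hg2' hq)
    rintro g (hg | hg) g' (hg' | hg')
    · refine Submodule.mem_sup_left (Submodule.subset_span ?_)
      rcases hg with rfl | rfl <;> rcases hg' with rfl | rfl <;> simp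
    · have hgm : g ∈ S.J := by rcases hg with rfl | rfl <;> assumption
      exact Submodule.mem_sup_right (h13 g hgm g' hg')
    all_goals
      have hgm' : g' ∈ S.J ^ 2 := by
        first
          | (rcases hg' with rfl | rfl <;> assumption)
          | exact S.pow_succ_le (by norm_num) hg'
      exact Submodule.mem_sup_right (h22 g hg g' hgm')
  have hc1 : x * y - y * x ∉ S.J ^ 3 := fun h => by
    have hle : BU U ≤ BU U ⊓ S.J ^ 3 :=
      le_inf le_rfl (hBUXY.trans ((Submodule.span_singleton_le_iff_mem _ _).2 h))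
    rw [hBU] at hle
    have h0 : X₀ * Y₀ - Y₀ * X₀ ∈ (⊥ : Submodule k A) :=
      hle (Submodule.subset_span ⟨_, (B 0).2, _, (B 1).2, rfl⟩)
    rw [Submodule.mem_bot] at h0
    exact hc0 (h0 ▸ zero_mem _)
  have hC4 : ∀ z ∈ (C : Submodule k A), z ∈ S.J ^ 4 → z ∈ Q := by
    intro z hz hz4
    obtain ⟨β, hβ, δ, hδ, rfl⟩ := Submodule.mem_sup.1 (S.C_le_BU hJU hz)
    have hβ3 : β ∈ S.J ^ 3 := by
      simpa using sub_mem (S.pow_succ_le (n := 3) (by norm_num) hz4) (S.D3_le hδ)
    have hβ0 : β = 0 := by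
      have hb : β ∈ BU U ⊓ S.J ^ 3 := ⟨hβ, hβ3⟩
      rwa [hBU, Submodule.mem_bot] at hb
    rw [hβ0, zero_add] at hz4 ⊢
    obtain ⟨_, h4, r, hr, rfl⟩ := Submodule.mem_sup.1 (hD hδ)
    simp only [Submodule.mem_span_insert, Submodule.mem_span_singleton] at h4
    obtain ⟨s1, _, ⟨s2, _, ⟨s3, _, ⟨s4, rfl⟩, rfl⟩, rfl⟩, rfl⟩ := h4
    have hQ4 : Q ≤ S.J ^ 4 := by
      refine sup_le ((Submodule.span_singleton_le_iff_mem _ _).2 ?_) (S.pow_succ_le (by norm_num))
      exact sub_mem (m4' y hy _ hxyx) (m4' x hx _ hyxy)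
    have hxxy : x * x * y - y * (x * x) ∈ Q := by
      simpa using neg_mem (h13 y hy _ hXX')
    have hyyx : y * y * x - x * (y * y) ∈ Q := by
      simpa using neg_mem (h13 x hx _ hYY')
    have e : (s2 - s1) • (x * y * x) + (s3 - s4) • (y * x * y) =
        (s1 • (x * (x * y) - x * y * x) + (s2 • (x * (y * x) - y * x * x) +
          (s3 • (y * (x * y) - x * y * y) + s4 • (y * (y * x) - y * x * y))) + r) - r
          - s1 • (x * x * y) + s2 • (y * x * x) + s3 • (x * y * y) - s4 • (y * y * x) := by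
      simp only [mul_assoc, smul_sub, sub_smul]
      abel
    obtain ⟨h12, h34⟩ := hind (s2 - s1) (s3 - s4) (by
      rw [e]
      refine sub_mem (add_mem (add_mem (sub_mem (sub_mem hz4 (hQ4 hr))
        (Submodule.smul_mem _ _ (m4' y hy _ hXX'))) (Submodule.smul_mem _ _ ?_))
        (Submodule.smul_mem _ _ ?_)) (Submodule.smul_mem _ _ (m4' x hx _ hYY'))
      · simpa only [mul_assoc] using m4 y hy _ hXX'
      · simpa only [mul_assoc] using m4 x hx _ hYY')
    rw [sub_eq_zero.1 h12, ← sub_eq_zero.1 h34]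
    have e' : s1 • (x * (x * y) - x * y * x) + (s1 • (x * (y * x) - y * x * x) +
          (s3 • (y * (x * y) - x * y * y) + s3 • (y * (y * x) - y * x * y))) + r =
        s1 • (x * x * y - y * (x * x)) + s3 • (y * y * x - x * (y * y)) + r := by
      simp only [mul_assoc, smul_sub]
      abel
    rw [e']
    exact add_mem (add_mem (Submodule.smul_mem _ _ hxxy) (Submodule.smul_mem _ _ hyyx)) hr
  have h4 : S.J ^ 4 ≤ (k ∙ P) ⊔ S.J ^ 5 := by
    intro z hz
    obtain ⟨c, hc, t, ht, rfl⟩ := Submodule.mem_sup.1 (h3 (S.pow_succ_le (by norm_num) hz))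
    have ht5 : t ∈ S.J ^ 5 := S.pow_anti (by norm_num) hL ht
    refine add_mem (hC4 c hc ?_) (Submodule.mem_sup_right ht5)
    simpa using sub_mem hz (S.pow_succ_le (n := 4) (by norm_num) ht5)
  have : Module.finrank k (S.J ^ 5 : Submodule k A) + 2 ≤ Module.finrank k (S.J ^ 4 : Submodule k A) := hone 4 (by norm_num) (by omega)
  have h5 := finrank_le_of_le_sup h4
  have h6 := finrank_line_le (k := k) P
  omega

/-- A local algebra with a trace form whose commutators have codimension at most five has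
dimension at most eight. -/
theorem finrank_le_eight [IsAlgClosed k] (S : LocalSym k A)
    (hC : Module.finrank k A ≤ Module.finrank k (C : Submodule k A) + 5) :
    Module.finrank k A ≤ 8 := by
  have hA := S.finrank_eq
  have hCsq := Submodule.finrank_mono S.C_le_sq
  have hsq := Submodule.finrank_mono S.sq_le
  have htop := S.finrank_top
  rcases le_or_gt S.L 2 with hL | hL
  · have h2 : Module.finrank k (S.J ^ 2 : Submodule k A) ≤ 1 := by
      rcases Nat.lt_or_ge S.L 2 with h | h
      · rw [S.pow_eq_bot h, finrank_bot]; omega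
      · have e : S.L = 2 := le_antisymm hL h
        rw [← e, htop]
    omega
  obtain ⟨hcs, hcs2⟩ := S.C_sup_top (by omega)
  have hc1 := Submodule.finrank_mono hcs2
  by_cases hd1 : Module.finrank k S.J ≤ Module.finrank k (S.J ^ 2 : Submodule k A) + 1
  · obtain ⟨x, -, hx⟩ := exists_line S.sq_le hd1
    have : (C : Submodule k A) = ⊥ := by
      rw [eq_bot_iff]
      refine Submodule.span_le.2 ?_
      rintro _ ⟨a, b, rfl⟩
      simp [S.comm_of_one_gen hx a b]
    rw [this, finrank_bot] at hC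
    omega
  by_cases hd3 : Module.finrank k (S.J ^ 2 : Submodule k A) + 3 ≤ Module.finrank k S.J
  · have hJ2 : S.J ^ 2 ≤ C ⊔ S.J ^ S.L :=
      le_of_eq (Submodule.eq_of_le_of_finrank_le hcs2 (by omega)).symm
    rcases Nat.lt_or_ge S.L 4 with h4 | h4
    · have := S.finrank_below_top (i := 2) (by omega)
      omega
    · exact (S.false_three h4 hJ2 (by omega)).elim
  rcases Nat.lt_or_ge S.L 4 with h4 | h4
  · have := S.finrank_below_top (i := 2) (by omega)
    omega
  obtain ⟨U, hUJ, hJU, hU⟩ := S.exists_compl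
  have hV : Module.finrank k U = 2 := by
    have := S.finrank_compl hUJ hJU hU
    omega
  let B := Module.finBasisOfFinrankEq k U hV
  have hUle : U ≤ Submodule.span k {((B 0 : U) : A), ((B 1 : U) : A)} := fun z hz => by
    have e := congrArg Subtype.val (B.sum_repr ⟨z, hz⟩)
    simp only [Fin.sum_univ_two, Submodule.coe_add, SetLike.val_smul] at e
    exact Submodule.mem_span_pair.2 ⟨_, _, e⟩
  have hC3 : C ⊔ S.J ^ 3 ≤ (k ∙ (((B 0 : U) : A) * (B 1 : U) - (B 1 : U) * (B 0 : U))) ⊔ S.J ^ 3 :=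
    sup_le ((S.C_le_BU hJU).trans (sup_le ((BU_le_line hUle).trans le_sup_left)
      (S.D3_le.trans le_sup_right))) le_sup_right
  have hle : C ⊔ S.J ^ S.L ≤ C ⊔ S.J ^ 3 :=
    sup_le_sup_left (S.pow_anti (by norm_num) (by omega)) _
  have hne : ¬ S.J ^ 2 ≤ C ⊔ S.J ^ 3 := fun h => by
    have h2 : Module.finrank k (S.J ^ 3 : Submodule k A) + 2 ≤ Module.finrank k (S.J ^ 2 : Submodule k A) := S.layer_ge_two (by omega) (Or.inl h) (n := 2) le_rfl (by omega)
    have h3 := finrank_le_of_le_sup (h.trans hC3)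
    have h4 := finrank_line_le (k := k) (((B 0 : U) : A) * (B 1 : U) - (B 1 : U) * (B 0 : U))
    omega
  have hlt : C ⊔ S.J ^ 3 < S.J ^ 2 :=
    lt_of_le_not_ge (sup_le S.C_le_sq (S.pow_succ_le (by norm_num))) hne
  have hlt' := Submodule.finrank_lt_finrank_of_lt hlt
  have hle' := Submodule.finrank_mono hle
  have h3 : S.J ^ 3 ≤ C ⊔ S.J ^ S.L :=
    le_sup_right.trans (le_of_eq (Submodule.eq_of_le_of_finrank_le hle (by omega)).symm)
  rcases Nat.lt_or_ge S.L 5 with h5 | h5
  · have h6 := S.finrank_below_top (i := 3) (by omega)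
    have h7 := finrank_le_of_le_sup (hle.trans hC3)
    have h8 := finrank_line_le (k := k) (((B 0 : U) : A) * (B 1 : U) - (B 1 : U) * (B 0 : U))
    omega
  · exact (S.false_two h5 (by omega) (by omega) h3).elim

end LocalSym

end Cfsg.Agent.BlockAlg
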