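/-
A symmetric corner with commutator quotient of dimension at most five has dimension at most eight.
-/
import Cfsg.Agent.Lib.BlockAlg.SmallCenter
import Cfsg.Agent.Lib.BlockAlg.LocalSymBound

set_option linter.unusedSectionVars false
set_option linter.style.haveILetI false

namespace Cfsg.Agent.BlockAlg

variable {k : Type*} [Field k] {R : Type*} [Ring R] [Algebra k R] [FiniteDimensional k R]

/-- The corner as a ring, with the idempotent as identity. -/
abbrev cornerRing {f : ℕ} {D : CornerData k R f} (φ : Frame D) : Ring φ.A :=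
  { (inferInstance : AddCommGroup φ.A) with
    mul := fun a b => ⟨(a : R) * b, φ.mulA a.2 b.2⟩
    one := ⟨φ.z, φ.zA⟩
    mul_assoc := fun a b c => Subtype.ext (mul_assoc (a : R) b c)
    one_mul := fun a => Subtype.ext (φ.left_id a.2)
    mul_one := fun a => Subtype.ext (φ.right_id a.2)
    left_distrib := fun a b c => Subtype.ext (mul_add (a : R) b c)
    right_distrib := fun a b c => Subtype.ext (add_mul (a : R) b c)
    zero_mul := fun a => Subtype.ext (zero_mul (a : R))
    mul_zero := fun a => Subtype.ext (mul_zero (a : R)) }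

theorem finrank_corner_le_eight [IsAlgClosed k] {f : ℕ} {D : CornerData k R f} (φ : Frame D)
    (τ : R →ₗ[k] k) (hτ : ∀ x y, τ (x * y) = τ (y * x))
    (hnd : ∀ a, (∀ x, τ (x * a) = 0) → a = 0)
    (hW : Module.finrank k (φ.A.map φ.comm.mkQ) ≤ 5) : Module.finrank k φ.A ≤ 8 := by
  classical
  letI := cornerRing φ
  letI : Algebra k φ.A := Algebra.ofModule
    (fun r x y => Subtype.ext (smul_mul_assoc r (x : R) (y : R)))
    (fun r x y => Subtype.ext (mul_smul_comm r (x : R) (y : R)))
  have hcomm : φ.comm ≤ φ.A := Submodule.span_le.2 (by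
    rintro _ ⟨a, ha, b, hb, rfl⟩
    exact sub_mem (φ.mulA ha hb) (φ.mulA hb ha))
  have hWC : Module.finrank k (φ.A.map φ.comm.mkQ) + Module.finrank k φ.comm =
      Module.finrank k φ.A := by
    have := finrank_map_mkQ_add φ.A φ.comm
    rwa [inf_eq_right.2 hcomm] at this
  let J : Submodule k φ.A := φ.N.comap φ.A.subtype
  have hsplit : ∀ a : φ.A, a - φ.eps (a : R) • 1 ∈ J := fun a => φ.subN a.2
  have hpow : ∀ n, ∀ x ∈ J ^ (n + 1), (x : R) ∈ φ.N ^ (n + 1) := by
    intro n
    induction n with
    | zero => intro x hx; rw [zero_add, pow_one] at *; exact hx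
    | succ n ih =>
      intro x hx
      rw [pow_succ] at hx ⊢
      induction hx using Submodule.mul_induction_on' with
      | mem_mul_mem y hy z hz => exact Submodule.mul_mem_mul (ih y hy) hz
      | add y _ z _ hy hz => exact add_mem hy hz
  have hnil : ∃ m, J ^ (m + 1) = ⊥ := ⟨D.nJ, eq_bot_iff.2 fun x hx => by
    have := hpow _ x hx
    rw [φ.N_pow_eq_bot, Submodule.mem_bot] at this
    exact (Submodule.mem_bot k).2 (Subtype.ext this)⟩
  by_cases hJ : J = ⊥
  · have hle : φ.A ≤ (k ∙ φ.z) := fun a ha => by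
      have h := hsplit ⟨a, ha⟩
      rw [hJ, Submodule.mem_bot, sub_eq_zero] at h
      exact Submodule.mem_span_singleton.2 ⟨_, (congrArg Subtype.val h).symm⟩
    refine (Submodule.finrank_mono hle).trans ?_
    have := finrank_span_le_card (R := k) ({φ.z} : Set R)
    simp at this
    omega
  have hL : 1 ≤ Nat.find hnil := by
    by_contra h
    have h0 := Nat.find_spec hnil
    rw [show Nat.find hnil = 0 by omega, zero_add, pow_one] at h0
    exact hJ h0
  have htop : J ^ Nat.find hnil ≠ ⊥ := fun h => by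
    refine Nat.find_min hnil (show Nat.find hnil - 1 < Nat.find hnil by omega) ?_
    rwa [Nat.sub_add_cancel hL]
  have hτA : ∀ a ∈ φ.A, ∀ x, τ (x * a) = τ (φ.z * x * φ.z * a) := fun a ha x => by
    conv_lhs => rw [← φ.memA.1 ha, hτ]
    rw [show φ.z * a * φ.z * x = φ.z * (a * (φ.z * x)) by simp only [mul_assoc], hτ,
      show a * (φ.z * x) * φ.z = a * (φ.z * x * φ.z) by simp only [mul_assoc], hτ]
  let S : LocalSym k φ.A :=
    { J := J
      τ := τ.comp φ.A.subtype
      eps := φ.eps.comp φ.A.subtype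
      mul_left := fun a x hx => φ.memN.2 ⟨φ.mulA a.2 x.2, by
        show D.F ((a : R) * x) = 0
        rw [map_mul, show D.F (x : R) = 0 from (φ.memN.1 hx).2, mul_zero]⟩
      mul_right := fun a x hx => φ.memN.2 ⟨φ.mulA x.2 a.2, by
        show D.F ((x : R) * a) = 0
        rw [map_mul, show D.F (x : R) = 0 from (φ.memN.1 hx).2, zero_mul]⟩
      split := hsplit
      comm := fun x y => hτ (x : R) (y : R)
      nd := fun m h => Subtype.ext (hnd _ fun x => by
        rw [hτA _ m.2 x]
        exact h ⟨φ.z * x * φ.z, φ.memA.2 (by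
          simp only [← mul_assoc, φ.hz]; simp only [mul_assoc, φ.hz])⟩)
      L := Nat.find hnil
      L_pos := hL
      top_ne := htop
      top_succ := Nat.find_spec hnil }
  refine S.finrank_le_eight ?_
  have hC : (LocalSym.C : Submodule k φ.A).map φ.A.subtype = φ.comm := by
    rw [LocalSym.C, Submodule.map_span, Frame.comm]
    congr 1
    ext x
    constructor
    · rintro ⟨_, ⟨a, b, rfl⟩, rfl⟩
      exact ⟨a, a.2, b, b.2, rfl⟩
    · rintro ⟨a, ha, b, hb, rfl⟩
      exact ⟨⟨a, ha⟩ * ⟨b, hb⟩ - ⟨b, hb⟩ * ⟨a, ha⟩, ⟨_, _, rfl⟩, rfl⟩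
  have e : Module.finrank k (LocalSym.C : Submodule k φ.A) = Module.finrank k φ.comm := by
    rw [← hC]; exact (Submodule.finrank_map_subtype_eq _ _).symm
  omega

end Cfsg.Agent.BlockAlg
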