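/-
The dimensions of the corner of a block of rank one.
-/
import Cfsg.Agent.Lib.BlockAlg.SmallBlock

set_option linter.unusedSectionVars false
set_option linter.style.haveILetI false

namespace Cfsg.Agent.BlockAlg

open Cfsg MonoidAlgebra Cfsg.Agent.Blocks Cfsg.Agent.BrauerPairs

universe u

/-- The algebra is a matrix algebra over its corner. -/
theorem corner_dims {k : Type*} [Field k] {R : Type*} [Ring R] [Algebra k R]
    [FiniteDimensional k R] {f : ℕ} {D : CornerData k R f} (φ : Frame D) :
    Module.finrank k (LinearMap.range (LinearMap.mulRight k φ.z)) =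
        f * Module.finrank k φ.A ∧
      Module.finrank k (LinearMap.range (LinearMap.mulRight k D.e)) =
        f * Module.finrank k (LinearMap.range (LinearMap.mulRight k φ.z)) := by
  classical
  obtain ⟨o, z, u, v, hz, hze, hFz, hu, hv, huv, hP⟩ := φ
  let Az : Submodule k R := LinearMap.range (LinearMap.mulLeft k z ∘ₗ LinearMap.mulRight k z)
  have memA : ∀ {a : R}, a ∈ Az ↔ z * a * z = a := by
    intro a
    constructor
    · rintro ⟨b, rfl⟩
      show z * (z * (b * z)) * z = z * (b * z)
      simp only [← mul_assoc, hz]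
      simp only [mul_assoc, hz]
    · exact fun h => ⟨a, by show z * (a * z) = a; rw [← mul_assoc, h]⟩
  have hAl : ∀ {a}, a ∈ Az → z * a = a := fun {a} h => by
    rw [← memA.1 h]; simp only [← mul_assoc, hz]
  have hAr : ∀ {a}, a ∈ Az → a * z = a := fun {a} h => by
    rw [← memA.1 h]; simp only [mul_assoc, hz]
  refine ⟨?_, ?_⟩
  · let ψ : (Fin f → Az) →ₗ[k] LinearMap.range (LinearMap.mulRight k z) :=
      { toFun := fun w => ⟨∑ l, u l * (w l : R), ⟨∑ l, u l * (w l : R), by
          simp only [LinearMap.mulRight_apply, Finset.sum_mul, mul_assoc, hAr (w _).2]⟩⟩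
        map_add' := fun a b => Subtype.ext (by simp [mul_add, Finset.sum_add_distrib])
        map_smul' := fun r a => Subtype.ext (by simp [Finset.smul_sum]) }
    have hψ : Function.Bijective ψ := by
      refine ⟨(injective_iff_map_eq_zero _).2 fun w hw => funext fun m => Subtype.ext ?_, ?_⟩
      · have h := congrArg (fun y : R => v m * y) (congrArg Subtype.val hw)
        simp only [ψ, LinearMap.coe_mk, AddHom.coe_mk, Submodule.coe_zero, mul_zero,
          Finset.mul_sum, ← mul_assoc, hP, ite_mul, zero_mul, Finset.sum_ite_eq,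
          Finset.mem_univ, if_true, hAl (w m).2] at h
        exact h
      · rintro ⟨_, b, rfl⟩
        refine ⟨fun l => ⟨v l * (b * z), memA.2 ?_⟩, Subtype.ext ?_⟩
        · rw [← mul_assoc z, (hv l).1]; simp only [mul_assoc, hz]
        · show ∑ l, u l * (v l * (b * z)) = b * z
          calc ∑ l, u l * (v l * (b * z)) = (∑ l, u l * v l) * (b * z) := by
                simp only [Finset.sum_mul, mul_assoc]
            _ = b * z := by rw [huv, D.e_comm, mul_assoc, hze]
    rw [← (LinearEquiv.ofBijective ψ hψ).finrank_eq, Module.finrank_pi_fintype]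
    rw [Finset.sum_const, Finset.card_univ, Fintype.card_fin, smul_eq_mul]
    rfl
  · let ψ : (Fin f → LinearMap.range (LinearMap.mulRight k z)) →ₗ[k]
        LinearMap.range (LinearMap.mulRight k D.e) :=
      { toFun := fun w => ⟨∑ l, (w l : R) * v l, ⟨∑ l, (w l : R) * v l, by
          simp only [LinearMap.mulRight_apply, Finset.sum_mul, mul_assoc, (hv _).2.1]⟩⟩
        map_add' := fun a b => Subtype.ext (by simp [add_mul, Finset.sum_add_distrib])
        map_smul' := fun r a => Subtype.ext (by simp [Finset.smul_sum]) }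
    have hψ : Function.Bijective ψ := by
      refine ⟨(injective_iff_map_eq_zero _).2 fun w hw => funext fun m => Subtype.ext ?_, ?_⟩
      · have h := congrArg (fun y : R => y * u m) (congrArg Subtype.val hw)
        simp only [ψ, LinearMap.coe_mk, AddHom.coe_mk, Submodule.coe_zero, zero_mul,
          Finset.sum_mul, mul_assoc, hP, mul_ite, mul_zero, Finset.sum_ite_eq',
          Finset.mem_univ, if_true] at h
        obtain ⟨b, hb⟩ := (w m).2
        rw [← hb] at h ⊢
        simpa [mul_assoc, hz] using h
      · rintro ⟨_, b, rfl⟩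
        refine ⟨fun l => ⟨b * u l, ⟨b * u l, ?_⟩⟩, Subtype.ext ?_⟩
        · simp only [LinearMap.mulRight_apply, mul_assoc, (hu l).1]
        · show ∑ l, b * u l * v l = b * D.e
          rw [← huv, Finset.mul_sum]
          simp only [mul_assoc]
    rw [← (LinearEquiv.ofBijective ψ hψ).finrank_eq, Module.finrank_pi_fintype]
    simp


variable {G : Type u} [Group G] [Fintype G] {p : ℕ} [Fact p.Prime] {M : Ideal AlgInt} [M.IsPrime]

/-- In a block of rank one the decomposition numbers are not zero, so there are at most as many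
characters as the order of the defect group. -/
theorem card_le_pow_defect (hM : IsPModular p M) {B : Set (IrrCharacter G)} (hB : IsPBlock M B)
    (hl : blockRank p B = 1) : Nat.card B ≤ p ^ blockDefect p B := by
  classical
  obtain ⟨φ, d, -, hd, hdsum⟩ := exists_cartan_rank_one hM hB hl
  rw [← hdsum, finsum_mem_eq_finite_toFinset_sum _ (Set.toFinite B),
    Nat.card_coe_set_eq, Set.ncard_eq_toFinset_card B (Set.toFinite B), Finset.card_eq_sum_ones]
  refine Finset.sum_le_sum fun χ hχ => Nat.one_le_pow _ _ (Nat.pos_of_ne_zero fun h0 => ?_)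
  have h := hd χ ((Set.toFinite B).mem_toFinset.1 hχ) 1 (by simp [IsPRegular, hM.1.ne_one])
  rw [h0] at h
  exact irr_one_ne_zero χ (by simpa using h)

/-- The order of the defect group divides the dimension of the corner. -/
theorem pow_defect_dvd_corner (hM : IsPModular p M) {B : Set (IrrCharacter G)} (hB : IsPBlock M B)
    (hl : blockRank p B = 1) {f : ℕ} (hf : 0 < f)
    {D : CornerData (resField M) (MonoidAlgebra (resField M) G) f} (hDe : D.e = Ek M B)
    (φc : Frame D) : p ^ blockDefect p B ∣ Module.finrank (resField M) φc.A := by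
  classical
  haveI : CharP (resField M) p := resField_charP hM
  obtain ⟨hdimU, hdimB⟩ := corner_dims φc
  rw [hDe] at hdimB
  set N := Module.finrank (resField M) φc.A with hNdef
  have hS : f * (f * N) = ∑ χ ∈ Finset.univ.filter (· ∈ B), charDegree (χ : G → ℂ) ^ 2 := by
    rw [← hdimU, ← hdimB]
    exact finrank_range_mulRight_Ek hB
  obtain ⟨φ, d, -, hd, hdsum⟩ := exists_cartan_rank_one hM hB hl
  obtain ⟨χ₀, hχ₀, h0⟩ := exists_heightZero hM hB
  rw [finsum_mem_eq_finite_toFinset_sum _ (Set.toFinite B),
    show (Set.toFinite B).toFinset = Finset.univ.filter (· ∈ B) from by ext; simp] at hdsum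
  have hone : IsPRegular p (1 : G) := by simp [IsPRegular, hM.1.ne_one]
  have hdeg : ∀ χ ∈ B, charDegree (χ : G → ℂ) * d χ₀ = d χ * charDegree (χ₀ : G → ℂ) := by
    intro χ hχ
    have e1 := hd χ hχ 1 hone
    have e2 := hd χ₀ hχ₀ 1 hone
    rw [irr_one_eq_charDegree] at e1 e2
    rw [← Nat.cast_inj (R := ℂ)]
    push_cast
    rw [e1, e2]; ring
  have hid : (f * (f * N)) * d χ₀ ^ 2 = p ^ blockDefect p B * charDegree (χ₀ : G → ℂ) ^ 2 := by
    rw [hS, ← hdsum, Finset.sum_mul, Finset.sum_mul]
    refine Finset.sum_congr rfl fun χ hχ => ?_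
    rw [← mul_pow, hdeg χ (Finset.mem_filter.1 hχ).2, mul_pow]
  have hd0 : d χ₀ ≠ 0 := fun h => by
    have := hd χ₀ hχ₀ 1 hone
    rw [h] at this
    exact irr_one_ne_zero χ₀ (by simpa using this)
  have hdeg0 := degExp_eq_add_height hM hB hχ₀
  rw [h0] at hdeg0
  have hdle := blockDefect_le (p := p) B
  set a := (Nat.card G).factorization p
  obtain ⟨Q⟩ := (inferInstance : Nonempty (Sylow p G))
  have hQ : Nat.card (Q : Subgroup G) = p ^ a := Q.card_eq_multiplicity
  have hdvd : p ^ a ∣ f * N := by
    rw [← hQ, ← hdimU]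
    exact card_dvd_finrank Q.2 φc.hz
  rcases Nat.eq_zero_or_pos N with h | hN
  · rw [h]; exact dvd_zero _
  have hfN : f * N ≠ 0 := (Nat.mul_pos hf hN).ne'
  have hv1 : a ≤ (f * N).factorization p := (hM.1.pow_dvd_iff_le_factorization hfN).1 hdvd
  rw [Nat.factorization_mul hf.ne' hN.ne', Finsupp.add_apply] at hv1
  have hv2 := congrArg (fun m : ℕ => m.factorization p) hid
  simp only [Nat.factorization_mul (Nat.mul_ne_zero hf.ne' hfN) (pow_ne_zero 2 hd0),
    Nat.factorization_mul hf.ne' hfN, Nat.factorization_mul hf.ne' hN.ne',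
    Nat.factorization_mul (pow_ne_zero _ hM.1.ne_zero) (pow_ne_zero 2 (charDegree_pos χ₀).ne'),
    Nat.factorization_pow, hM.1.factorization_pow, Finsupp.add_apply, Finsupp.smul_apply,
    Finsupp.single_eq_same, smul_eq_mul] at hv2
  have hvN : blockDefect p B ≤ N.factorization p := by
    omega
  exact (hM.1.pow_dvd_iff_le_factorization hN.ne').2 hvN

end Cfsg.Agent.BlockAlg
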