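/-
An algebra with one simple module and a uniserial corner: maps out of the simple module and
annihilators of the central generator of the radical.
-/
import Cfsg.Agent.Lib.BlockAlg.Corner
import Mathlib.LinearAlgebra.Matrix.ToLin
import Mathlib.RingTheory.Nilpotent.Basic

set_option linter.unusedSectionVars false
set_option linter.style.haveILetI false

namespace Cfsg.Agent.BlockAlg

open Matrix

/-- A central idempotent with one simple module, whose corner is spanned by the powers of a
central element. -/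
structure Uniserial (k : Type*) [Field k] (R : Type*) [Ring R] [Algebra k R] (f : ℕ) where
  o : Fin f
  N : ℕ
  N_pos : 0 < N
  ε : R
  η : R
  z : R
  u : Fin f → R
  v : Fin f → R
  F : R →ₐ[k] Matrix (Fin f) (Fin f) k
  ε_idem : ε * ε = ε
  ε_comm : ∀ x, ε * x = x * ε
  η_comm : ∀ x, η * x = x * η
  η_ε : η * ε = η
  η_pow : η ^ N = 0
  F_ε : F ε = 1
  F_η : F η = 0
  hFz : F z = Matrix.single o o 1
  hz : z * z = z
  hze : z * ε = z
  hu : ∀ l, u l * z = u l ∧ u l * ε = u l ∧ F (u l) = Matrix.single l o 1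
  hv : ∀ l, z * v l = v l ∧ v l * ε = v l
  huv : ∑ l, u l * v l = ε
  hP : ∀ l m, v l * u m = if l = m then z else 0
  span : ∀ x l m, ∃ c : Fin N → k, v l * x * u m = ∑ i, c i • (η ^ (i : ℕ) * z) ∧
    F x l m = c ⟨0, N_pos⟩
  indep : LinearIndependent k fun i : Fin N => η ^ (i : ℕ) * z

namespace Uniserial

variable {k : Type*} [Field k] {R : Type*} [Ring R] [Algebra k R] {f : ℕ} (U : Uniserial k R f)

theorem ε_u (l : Fin f) : U.ε * U.u l = U.u l := by rw [U.ε_comm, (U.hu l).2.1]

theorem decomp (x : R) :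
    U.ε * x = ∑ l, ∑ m, U.u l * (U.v l * x * U.u m) * U.v m := by
  calc U.ε * x = U.ε * (x * U.ε) := by rw [← U.ε_comm x, ← mul_assoc, U.ε_idem]
    _ = (∑ l, U.u l * U.v l) * (x * ∑ m, U.u m * U.v m) := by rw [U.huv]
    _ = _ := by
      simp only [Finset.sum_mul, Finset.mul_sum, mul_assoc]
      exact Finset.sum_comm

theorem F_uv (i j : Fin f) : U.F (U.u i * U.v j) = Matrix.single i j 1 := by
  classical
  have h1 : ∀ l, U.F (U.v j) U.o l = if j = l then 1 else 0 := fun l => by
    have := congrArg U.F (U.hP j l)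
    rw [map_mul, (U.hu l).2.2, apply_ite U.F, map_zero, U.hFz] at this
    have := congrFun (congrFun this U.o) U.o
    simp only [Matrix.mul_single_apply_same, mul_one] at this
    rw [this]
    split_ifs <;> simp
  rw [map_mul, (U.hu i).2.2]
  ext a b
  by_cases ha : a = i
  · subst ha
    rw [Matrix.single_mul_apply_same, h1, one_mul, Matrix.single_apply]
    simp
  · rw [Matrix.single_mul_apply_of_ne _ _ _ _ _ ha, Matrix.single_apply,
      if_neg (fun h => ha h.1.symm)]

theorem F_surj : Function.Surjective U.F := fun X => by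
  classical
  refine ⟨∑ i, ∑ j, X i j • (U.u i * U.v j), ?_⟩
  conv_rhs => rw [Matrix.matrix_eq_sum_single X]
  simp only [map_sum, map_smul, U.F_uv, Matrix.smul_single, smul_eq_mul, mul_one]

/-- Elements killed by the generator of the radical are multiples of its last power. -/
theorem exists_eq_pow_mul {x : R} (hx : x * U.ε = x) (h : U.η * x = 0) :
    ∃ y, x = U.η ^ (U.N - 1) * y := by
  classical
  have hN := U.N_pos
  have key : ∀ l m, ∃ c : k, U.v l * x * U.u m = c • (U.η ^ (U.N - 1) * U.z) := by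
    intro l m
    obtain ⟨c, hc, -⟩ := U.span x l m
    have h0 : ∑ i : Fin U.N, c i • (U.η ^ ((i : ℕ) + 1) * U.z) = 0 := by
      have e : U.η * (U.v l * x * U.u m) = 0 := by
        rw [show U.η * (U.v l * x * U.u m) = U.v l * (U.η * x) * U.u m by
          rw [← mul_assoc, ← mul_assoc, U.η_comm (U.v l)]; simp only [mul_assoc], h]
        simp
      rw [← e, hc, Finset.mul_sum]
      exact Finset.sum_congr rfl fun i _ => by rw [mul_smul_comm, ← mul_assoc, pow_succ']
    let d : Fin U.N → k := fun j => if hj : 0 < (j : ℕ) then c ⟨(j : ℕ) - 1, by omega⟩ else 0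
    have hd : ∑ j, d j • (U.η ^ (j : ℕ) * U.z) = 0 := by
      rw [← h0]
      refine Finset.sum_bij_ne_zero (fun j _ _ => (⟨(j : ℕ) - 1, by omega⟩ : Fin U.N))
        (fun _ _ _ => Finset.mem_univ _) (fun j _ hj j' _ hj' e => ?_) (fun i _ hi => ?_)
        (fun j _ hj => ?_)
      · have a1 : 0 < (j : ℕ) := by by_contra hh; simp [d, hh] at hj
        have a2 : 0 < (j' : ℕ) := by by_contra hh; simp [d, hh] at hj'
        have := congrArg Fin.val e
        simp only at this
        exact Fin.ext (by omega)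
      · have hiN : (i : ℕ) + 1 < U.N := by
          by_contra hh
          apply hi
          rw [show U.η ^ ((i : ℕ) + 1) = 0 from pow_eq_zero_of_le (by omega) U.η_pow]
          simp
        refine ⟨⟨(i : ℕ) + 1, hiN⟩, Finset.mem_univ _, ?_, Fin.ext (by simp)⟩
        simpa [d] using hi
      · have a1 : 0 < (j : ℕ) := by by_contra hh; simp [d, hh] at hj
        simp only [d, dif_pos a1, Nat.sub_add_cancel a1]
    have hd0 := Fintype.linearIndependent_iff.1 U.indep d hd
    refine ⟨c ⟨U.N - 1, by omega⟩, ?_⟩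
    rw [hc, Finset.sum_eq_single (⟨U.N - 1, by omega⟩ : Fin U.N)]
    · intro i _ hi
      have hiN : (i : ℕ) + 1 < U.N := by
        by_contra hh
        exact hi (Fin.ext (by simp only; omega))
      have := hd0 ⟨(i : ℕ) + 1, hiN⟩
      simp [d] at this
      rw [this, zero_smul]
    · simp
  choose c hc using key
  refine ⟨∑ l, ∑ m, c l m • (U.u l * U.z * U.v m), ?_⟩
  conv_lhs => rw [← hx, ← U.ε_comm, U.decomp x]
  simp only [Finset.mul_sum, hc, mul_smul_comm, smul_mul_assoc]
  refine Finset.sum_congr rfl fun l _ => Finset.sum_congr rfl fun m _ => ?_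
  have hc' : Commute (U.η ^ (U.N - 1)) (U.u l) :=
    (show Commute U.η (U.u l) from U.η_comm _).pow_left _
  congr 1
  rw [← mul_assoc, ← hc'.eq]
  simp only [mul_assoc]

/-- Central nilpotent elements are multiples of the generator of the radical. -/
theorem exists_eq_mul {y : R} (hy : ∀ x, y * x = x * y) (hnil : IsNilpotent y) (hye : y * U.ε = y) :
    ∃ w, y = U.η * w := by
  classical
  have hN := U.N_pos
  have hF : U.F y = 0 := by
    have hcomm : ∀ i j, Commute (Matrix.single i j (1 : k)) (U.F y) := by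
      intro i j
      have e := U.F_uv i j
      rw [← e, commute_iff_eq, ← map_mul, ← map_mul, hy]
    obtain ⟨c, hc⟩ := Matrix.mem_range_scalar_of_commute_single fun i j _ => hcomm i j
    have hn := hnil.map U.F
    rw [← hc] at hn
    haveI : Nonempty (Fin f) := ⟨U.o⟩
    have hc0 := ((IsNilpotent.map_iff (f := Matrix.scalar (Fin f))
      (fun a b h => Matrix.scalar_inj.1 h)).1 hn).eq_zero
    rw [← hc, hc0, map_zero]
  choose c hc hc0 using fun l m => U.span y l m
  have hci : ∀ l m, c l m ⟨0, U.N_pos⟩ = 0 := fun l m => by rw [← hc0, hF]; rfl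
  refine ⟨∑ l, ∑ m, U.u l * (∑ i, c l m i • (U.η ^ ((i : ℕ) - 1) * U.z)) * U.v m, ?_⟩
  conv_lhs => rw [← hye, ← U.ε_comm, U.decomp y]
  simp only [hc, Finset.mul_sum]
  refine Finset.sum_congr rfl fun l _ => Finset.sum_congr rfl fun m _ => ?_
  simp only [Finset.sum_mul, Finset.mul_sum, mul_smul_comm, smul_mul_assoc]
  refine Finset.sum_congr rfl fun i _ => ?_
  rcases Nat.eq_zero_or_pos (i : ℕ) with hi | hi
  · rw [show i = ⟨0, U.N_pos⟩ from Fin.ext hi, hci]
    simp
  · congr 1
    conv_lhs => rw [← Nat.sub_add_cancel hi, pow_succ']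
    rw [← mul_assoc U.η (U.u l * (U.η ^ ((i : ℕ) - 1) * U.z)) (U.v m), ← mul_assoc U.η (U.u l),
      U.η_comm (U.u l)]
    simp only [mul_assoc]

variable {V : Type*} [AddCommGroup V] [Module k V] (r : R →ₐ[k] Module.End k V)

/-- The map out of the simple module determined by a vector. -/
def phi (w : V) : (Fin f → k) →ₗ[k] V :=
  Fintype.linearCombination k fun l => r (U.u l) w

theorem phi_apply (w : V) (t : Fin f → k) : U.phi r w t = ∑ l, t l • r (U.u l) w :=
  Fintype.linearCombination_apply k _ t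

theorem phi_single (w : V) (l : Fin f) : U.phi r w (Pi.single l 1) = r (U.u l) w := by
  simp [phi, Fintype.linearCombination_apply_single]

theorem phi_sub (w w' : V) : U.phi r (w - w') = U.phi r w - U.phi r w' := by
  refine LinearMap.ext fun t => ?_
  simp [phi_apply, map_sub, smul_sub, Finset.sum_sub_distrib]

theorem phi_smul (c : k) (w : V) : U.phi r (c • w) = c • U.phi r w := by
  refine LinearMap.ext fun t => ?_
  simp [phi_apply, Finset.smul_sum, smul_comm c]

/-- The corner acts by scalars on a vector killed by the radical. -/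
theorem corner_act {w : V} (hw : r U.z w = w) (hη : r U.η w = 0) (x : R) (l m : Fin f) :
    r (U.v l * x * U.u m) w = U.F x l m • w := by
  classical
  obtain ⟨c, hc, hc0⟩ := U.span x l m
  rw [hc, map_sum, LinearMap.sum_apply, Finset.sum_eq_single (⟨0, U.N_pos⟩ : Fin U.N), hc0]
  · simp [hw]
  · intro i _ hi
    have : 0 < (i : ℕ) := Nat.pos_of_ne_zero fun h => hi (Fin.ext h)
    obtain ⟨j, hj⟩ := Nat.exists_eq_succ_of_ne_zero this.ne'
    rw [map_smul, LinearMap.smul_apply, map_mul, Module.End.mul_apply, hw, hj, pow_succ, map_mul,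
      Module.End.mul_apply, hη, map_zero, smul_zero]
  · simp

/-- A vector of the corner killed by the radical gives an equivariant map. -/
theorem phi_equiv {w : V} (hw : r U.z w = w) (hη : r U.η w = 0) (x : R) (t : Fin f → k) :
    U.phi r w (U.F x *ᵥ t) = r x (U.phi r w t) := by
  classical
  have h1 := fun l m => U.corner_act r hw hη x l m
  have h2 : ∀ m, r x (r (U.u m) w) = ∑ l, U.F x l m • r (U.u l) w := by
    intro m
    have e : x * U.u m = ∑ l, U.u l * (U.v l * x * U.u m) := by
      calc x * U.u m = U.ε * (x * U.u m) := by rw [← mul_assoc, U.ε_comm, mul_assoc, U.ε_u]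
        _ = _ := by rw [← U.huv, Finset.sum_mul]; simp only [mul_assoc]
    rw [← Module.End.mul_apply, ← map_mul, e, map_sum, LinearMap.sum_apply]
    refine Finset.sum_congr rfl fun l _ => ?_
    rw [map_mul, Module.End.mul_apply, h1, map_smul]
  simp only [phi_apply, map_sum, map_smul, h2, Matrix.mulVec, dotProduct, Finset.sum_smul,
    Finset.smul_sum, smul_smul]
  rw [Finset.sum_comm]
  exact Finset.sum_congr rfl fun m _ => Finset.sum_congr rfl fun l _ => by rw [mul_comm]

/-- The map determined by a vector sends the first basis vector to it. -/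
theorem phi_o {w : V} (hw : r U.z w = w) (hη : r U.η w = 0) :
    U.phi r w (Pi.single U.o 1) = w := by
  classical
  have e : U.F U.z *ᵥ Pi.single U.o 1 = Pi.single U.o (1 : k) := by
    rw [U.hFz]
    funext a
    simp [Matrix.mulVec_single, Pi.single_apply, Matrix.single_apply, eq_comm]
  rw [← e, U.phi_equiv r hw hη, phi_single, ← Module.End.mul_apply, ← map_mul,
    show U.z * U.u U.o = U.v U.o * U.u U.o * U.u U.o by rw [U.hP, if_pos rfl],
    U.corner_act r hw hη, (U.hu U.o).2.2]
  simp

/-- Every equivariant map out of the simple module comes from a vector of the corner. -/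
theorem eq_phi {α : (Fin f → k) →ₗ[k] V} (h : ∀ x t, α (U.F x *ᵥ t) = r x (α t)) :
    r U.z (α (Pi.single U.o 1)) = α (Pi.single U.o 1) ∧ r U.η (α (Pi.single U.o 1)) = 0 ∧
      α = U.phi r (α (Pi.single U.o 1)) := by
  classical
  have e : ∀ l, U.F (U.u l) *ᵥ Pi.single U.o 1 = Pi.single l (1 : k) := fun l => by
    rw [(U.hu l).2.2]
    funext a
    simp [Matrix.mulVec_single, Pi.single_apply, Matrix.single_apply, eq_comm]
  refine ⟨?_, ?_, ?_⟩
  · rw [← h, U.hFz]
    congr 1
    funext a
    simp [Matrix.mulVec_single, Pi.single_apply, Matrix.single_apply, eq_comm]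
  · rw [← h, U.F_η, Matrix.zero_mulVec, map_zero]
  · refine LinearMap.pi_ext' fun l => LinearMap.ext_ring ?_
    simp only [LinearMap.comp_apply, LinearMap.coe_single]
    rw [phi_single, ← h, e]

/-- An endomorphism of the corner commuting with the radical extends. -/
theorem exists_extend_end (E : Module.End k V) (hE : ∀ v, E (r U.η v) = r U.η (E v))
    (hEz : ∀ v, r U.z (E v) = E v) :
    ∃ E' : Module.End k V, (∀ x, Commute E' (r x)) ∧ E' * r U.ε = E' ∧
      ∀ (w : V) (m : Fin f), r U.z w = w → E' (r (U.u m) w) = r (U.u m) (E w) := by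
  classical
  let E' : Module.End k V := ∑ l, r (U.u l) * E * r (U.v l)
  have hpow : ∀ (i : ℕ) v, E (r (U.η ^ i) v) = r (U.η ^ i) (E v) := by
    intro i
    induction i with
    | zero => intro v; simp
    | succ i ih => intro v; rw [pow_succ, map_mul, Module.End.mul_apply, Module.End.mul_apply, ih, hE]
  have hcorner : ∀ x l m (w : V), r U.z w = w →
      E (r (U.v l * x * U.u m) w) = r (U.v l * x * U.u m) (E w) := by
    intro x l m w hw
    obtain ⟨c, hc, -⟩ := U.span x l m
    simp only [hc, map_sum, LinearMap.sum_apply, map_smul, LinearMap.smul_apply, map_mul,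
      Module.End.mul_apply, hw, hEz, hpow]
  have happ : ∀ v, E' v = ∑ l, r (U.u l) (E (r (U.v l) v)) := fun v => by
    simp [E', LinearMap.sum_apply, Module.End.mul_apply]
  refine ⟨E', fun x => ?_, ?_, fun w m hw => ?_⟩
  · refine LinearMap.ext fun v => ?_
    simp only [Module.End.mul_apply, happ]
    have e1 : ∀ l, U.v l * x = ∑ m, U.v l * x * U.u m * U.v m := fun l => by
      calc U.v l * x = U.v l * x * U.ε := by
            rw [mul_assoc, ← U.ε_comm, ← mul_assoc, (U.hv l).2]
        _ = _ := by rw [← U.huv, Finset.mul_sum]; simp only [mul_assoc]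
    have hvz : ∀ m, r U.z (r (U.v m) v) = r (U.v m) v := fun m => by
      rw [← Module.End.mul_apply, ← map_mul, (U.hv m).1]
    calc ∑ l, r (U.u l) (E (r (U.v l) (r x v)))
        = ∑ l, ∑ m, r (U.u l) (r (U.v l * x * U.u m) (E (r (U.v m) v))) := by
          refine Finset.sum_congr rfl fun l _ => ?_
          have h2 : r (U.v l) (r x v) = ∑ m, r (U.v l * x * U.u m) (r (U.v m) v) := by
            conv_lhs => rw [← Module.End.mul_apply, ← map_mul, e1 l, map_sum, LinearMap.sum_apply]
            exact Finset.sum_congr rfl fun m _ => by rw [map_mul, Module.End.mul_apply]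
          rw [h2, map_sum, map_sum]
          exact Finset.sum_congr rfl fun m _ => by rw [hcorner x l m _ (hvz m)]
      _ = ∑ m, r ((∑ l, U.u l * U.v l) * (x * U.u m)) (E (r (U.v m) v)) := by
          rw [Finset.sum_comm]
          refine Finset.sum_congr rfl fun m _ => ?_
          rw [Finset.sum_mul, map_sum, LinearMap.sum_apply]
          refine Finset.sum_congr rfl fun l _ => ?_
          rw [← Module.End.mul_apply, ← map_mul]
          simp only [mul_assoc]
      _ = r x (∑ m, r (U.u m) (E (r (U.v m) v))) := by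
          rw [map_sum]
          refine Finset.sum_congr rfl fun m _ => ?_
          rw [U.huv, ← mul_assoc, U.ε_comm, mul_assoc, U.ε_u, map_mul, Module.End.mul_apply]
  · refine LinearMap.ext fun v => ?_
    simp only [Module.End.mul_apply, happ, ← Module.End.mul_apply (r (U.v _)), ← map_mul,
      (U.hv _).2]
  · rw [happ, Finset.sum_eq_single m]
    · rw [← Module.End.mul_apply (r (U.v m)), ← map_mul, U.hP, if_pos rfl, hw]
    · intro l _ hl
      rw [← Module.End.mul_apply (r (U.v l)), ← map_mul, U.hP, if_neg hl, map_zero,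
        LinearMap.zero_apply, map_zero, map_zero]
    · simp

end Uniserial

/-- A radical with one generator gives a uniserial corner. -/
theorem exists_uniserial {k : Type*} [Field k] {R : Type*} [Ring R] [Algebra k R]
    [FiniteDimensional k R] {f : ℕ} {D : CornerData k R f} (φ : Frame D)
    (hd1 : Module.finrank k (φ.N.map ((k ∙ φ.z) ⊔ φ.N * φ.N).mkQ) ≤ 1) :
    ∃ U : Uniserial k R f, U.ε = D.e ∧ U.F = D.F := by
  classical
  let L : Submodule k R := (k ∙ φ.z) ⊔ φ.N * φ.N
  obtain ⟨⟨w0, hw0⟩, hw⟩ := finrank_le_one_iff.1 hd1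
  obtain ⟨x, hxN, rfl⟩ := hw0
  have hN1 : φ.N ≤ (k ∙ x) ⊔ φ.N * φ.N := by
    intro a ha
    obtain ⟨c, hc⟩ := hw ⟨L.mkQ a, a, ha, rfl⟩
    have hc' : a - c • x ∈ L := by
      rw [← Submodule.Quotient.eq]
      exact (congrArg Subtype.val hc).symm
    obtain ⟨_, hcz, r, hr, hsum⟩ := Submodule.mem_sup.1 hc'
    obtain ⟨d, rfl⟩ := Submodule.mem_span_singleton.1 hcz
    have hF := congrArg D.F hsum
    rw [map_add, map_smul, map_sub, map_smul, (φ.memN.1 (φ.N_mul_le hr)).2, (φ.memN.1 ha).2,
      (φ.memN.1 hxN).2, φ.hFz, smul_zero, sub_zero, add_zero] at hF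
    have hd : d = 0 := by
      simpa using congrArg (fun X : Matrix (Fin f) (Fin f) k => X φ.o φ.o) hF
    rw [hd, zero_smul, zero_add] at hsum
    refine Submodule.mem_sup.2 ⟨c • x, Submodule.mem_span_singleton.2 ⟨c, rfl⟩, r, hr, ?_⟩
    rw [hsum]; abel
  have hstep : ∀ j : ℕ, φ.N ^ (j + 1) ≤ (k ∙ x ^ (j + 1)) ⊔ φ.N ^ (j + 2) := by
    intro j
    induction j with
    | zero => rwa [zero_add, pow_one, pow_one, pow_two]
    | succ j ih =>
      rw [pow_succ _ (j + 1)]
      refine (mul_le_mul' ih (le_refl φ.N)).trans ?_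
      rw [Submodule.sup_mul]
      refine sup_le ?_ (le_sup_of_le_right (by rw [← pow_succ]))
      refine (mul_le_mul' (le_refl (k ∙ x ^ (j + 1))) hN1).trans ?_
      rw [Submodule.mul_sup, Submodule.span_mul_span, Set.singleton_mul_singleton, ← pow_succ]
      refine sup_le le_sup_left (le_sup_of_le_right ?_)
      rw [show φ.N ^ (j + 1 + 2) = φ.N ^ (j + 1) * (φ.N * φ.N) by rw [← pow_two, ← pow_add]]
      refine mul_le_mul' ?_ le_rfl
      rw [Submodule.span_singleton_le_iff_mem]
      exact Submodule.pow_mem_pow φ.N hxN _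
  let Φ : Submodule k R := Submodule.span k (Set.range fun i : ℕ => x ^ (i + 1))
  have hΦ : ∀ j, φ.N ≤ Φ ⊔ φ.N ^ (j + 1) := by
    intro j
    induction j with
    | zero => rw [zero_add, pow_one]; exact le_sup_right
    | succ j ih =>
      refine ih.trans (sup_le le_sup_left ((hstep j).trans (sup_le ?_ le_sup_right)))
      rw [Submodule.span_singleton_le_iff_mem]
      exact Submodule.mem_sup_left (Submodule.subset_span ⟨j, rfl⟩)
  have hNΦ : φ.N ≤ Φ := by
    refine (hΦ D.nJ).trans (sup_le le_rfl ?_)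
    rw [φ.N_pow_eq_bot]
    exact bot_le
  have hxnil : IsNilpotent x := D.isNilpotent_of_mem (φ.N_le_J hxN)
  have hex : ∃ n, x ^ n * φ.z = 0 := ⟨hxnil.choose, by rw [hxnil.choose_spec, zero_mul]⟩
  let N := Nat.find hex
  have hNz : x ^ N * φ.z = 0 := Nat.find_spec hex
  have hz0 : φ.z ≠ 0 := fun h => by
    have h1 := φ.hFz
    rw [h, map_zero] at h1
    simpa using congrArg (fun X : Matrix (Fin f) (Fin f) k => X φ.o φ.o) h1
  have hNpos : 0 < N := by
    rcases Nat.eq_zero_or_pos N with h | h
    · rw [h, pow_zero, one_mul] at hNz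
      exact absurd hNz hz0
    · exact h
  have hxA := (φ.memN.1 hxN).1
  have hxpowA : ∀ i, x ^ i * φ.z ∈ φ.A := by
    intro i
    induction i with
    | zero => simpa using φ.zA
    | succ i ih => rw [pow_succ', mul_assoc]; exact φ.mulA hxA ih
  have hspanA : ∀ a ∈ φ.A, ∃ c : Fin N → k, a = ∑ i, c i • (x ^ (i : ℕ) * φ.z) ∧
      φ.eps a = c ⟨0, hNpos⟩ := by
    intro a ha
    let W : Submodule k R := Submodule.span k (Set.range fun i : Fin N => x ^ (i : ℕ) * φ.z)
    have hpow : ∀ i : ℕ, x ^ i * φ.z ∈ W := by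
      intro i
      by_cases hi : i < N
      · exact Submodule.subset_span ⟨⟨i, hi⟩, rfl⟩
      · rw [show x ^ i = x ^ (i - N) * x ^ N by rw [← pow_add]; congr 1; omega, mul_assoc, hNz,
          mul_zero]
        exact zero_mem _
    have hW : a ∈ W := by
      have h1 : a - φ.eps a • φ.z ∈ W := by
        have hle : Φ ≤ W.comap (LinearMap.mulRight k φ.z) := by
          refine Submodule.span_le.2 ?_
          rintro _ ⟨i, rfl⟩
          exact hpow (i + 1)
        have := hle (hNΦ (φ.subN ha))
        simp only [Submodule.mem_comap, LinearMap.mulRight_apply] at this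
        rwa [φ.right_id (φ.memN.1 (φ.subN ha)).1] at this
      have h2 : φ.eps a • φ.z ∈ W := W.smul_mem _ (by simpa using hpow 0)
      simpa using add_mem h1 h2
    obtain ⟨c, hc⟩ := (Submodule.mem_span_range_iff_exists_fun k).1 hW
    refine ⟨c, hc.symm, ?_⟩
    conv_lhs => rw [← hc]
    show D.F _ φ.o φ.o = _
    rw [map_sum, Matrix.sum_apply, Finset.sum_eq_single ⟨0, hNpos⟩]
    · simp [φ.hFz]
    · intro i _ hi
      have : 0 < (i : ℕ) := Nat.pos_of_ne_zero fun h => hi (Fin.ext h)
      simp [map_mul, map_pow, (φ.memN.1 hxN).2, zero_pow this.ne']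
    · simp
  have hcomm : ∀ a ∈ φ.A, ∀ b ∈ φ.A, a * b = b * a := comm_of_rad_le_one φ hd1
  let c : R → R := fun a => ∑ l, φ.u l * a * φ.v l
  have hcc : ∀ a ∈ φ.A, ∀ b, b * c a = c a * b := by
    intro a ha b
    calc b * c a = ∑ j, b * D.e * (φ.u j * a * φ.v j) := by
          simp only [c, Finset.mul_sum]
          refine Finset.sum_congr rfl fun j _ => ?_
          rw [mul_assoc b, ← mul_assoc D.e, ← mul_assoc D.e, D.e_comm, (φ.hu j).2.1]
      _ = ∑ j, ∑ l, φ.u l * ((φ.v l * b * φ.u j) * a) * φ.v j := by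
          refine Finset.sum_congr rfl fun j _ => ?_
          rw [← D.e_comm, ← φ.huv]
          simp only [Finset.sum_mul, mul_assoc]
      _ = ∑ j, ∑ l, φ.u l * (a * (φ.v l * b * φ.u j)) * φ.v j := by
          simp only [hcomm _ (φ.sandwich b _ _) _ ha]
      _ = ∑ l, φ.u l * a * φ.v l * b * (∑ j, φ.u j * φ.v j) := by
          rw [Finset.sum_comm]
          simp only [Finset.mul_sum, mul_assoc]
      _ = c a * b := by
          rw [φ.huv]
          simp only [c, Finset.sum_mul]
          refine Finset.sum_congr rfl fun l _ => ?_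
          rw [mul_assoc (φ.u l * a * φ.v l), ← D.e_comm, ← mul_assoc, mul_assoc (φ.u l * a),
            (φ.hv l).2.1]
  have hce : ∀ a, c a * D.e = c a := fun a => by
    simp only [c, Finset.sum_mul, mul_assoc, (φ.hv _).2.1]
  have hcz : ∀ a ∈ φ.A, c a * φ.z = a := by
    intro a ha
    have h1 : c a * φ.z = φ.z * c a * φ.z := by rw [hcc a ha, mul_assoc, φ.hz]
    rw [h1]
    simp only [c, Finset.mul_sum, Finset.sum_mul]
    calc ∑ l, φ.z * (φ.u l * a * φ.v l) * φ.z
        = ∑ l, (φ.z * φ.u l) * a * (φ.v l * φ.z) := by simp only [mul_assoc]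
      _ = ∑ l, a * ((φ.z * φ.u l) * (φ.v l * φ.z)) := by
          refine Finset.sum_congr rfl fun l _ => ?_
          have : φ.z * φ.u l ∈ φ.A := φ.memA.2 (by
            rw [← mul_assoc φ.z φ.z, φ.hz, mul_assoc, (φ.hu l).1])
          rw [hcomm _ this _ ha, mul_assoc]
      _ = a * (φ.z * (∑ l, φ.u l * φ.v l) * φ.z) := by
          simp only [Finset.mul_sum, Finset.sum_mul, mul_assoc]
      _ = a := by rw [φ.huv, φ.hze, φ.hz, φ.right_id ha]
  have hzx : φ.z * x = x := φ.left_id hxA
  have hxz : x * φ.z = x := φ.right_id hxA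
  set η := c x with hη
  have hηz : ∀ i : ℕ, η ^ i * φ.z = x ^ i * φ.z := by
    intro i
    induction i with
    | zero => simp
    | succ i ih =>
      rw [pow_succ, mul_assoc, hη, hcz x hxA, pow_succ x i, mul_assoc, hxz]
      calc c x ^ i * x = c x ^ i * φ.z * x := by rw [mul_assoc, hzx]
        _ = x ^ i * φ.z * x := by rw [← hη, ih]
        _ = x ^ i * x := by rw [mul_assoc, hzx]
  have hηcomm : ∀ b, η * b = b * η := fun b => (hcc x hxA b).symm
  have hηpow : η ^ N = 0 := by
    have e : η ^ N * D.e = η ^ N := by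
      obtain ⟨m, hm⟩ := Nat.exists_eq_succ_of_ne_zero hNpos.ne'
      rw [hm, pow_succ, mul_assoc, hce]
    rw [← e, ← φ.huv, Finset.mul_sum]
    refine Finset.sum_eq_zero fun l _ => ?_
    have hc' : Commute (η ^ N) (φ.u l) := (show Commute η (φ.u l) from hηcomm _).pow_left N
    rw [← mul_assoc, hc'.eq, mul_assoc (φ.u l)]
    conv_lhs => rw [← (φ.hv l).1, ← mul_assoc (η ^ N), hηz, hNz, zero_mul, mul_zero]
  refine ⟨{ o := φ.o, N := N, N_pos := hNpos, ε := D.e, η := η, z := φ.z, u := φ.u, v := φ.v,
            F := D.F, ε_idem := D.e_idem, ε_comm := D.e_comm, η_comm := hηcomm, η_ε := hce x,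
            η_pow := hηpow, F_ε := D.F_e, F_η := ?_, hFz := φ.hFz, hz := φ.hz, hze := φ.hze,
            hu := φ.hu, hv := fun l => ⟨(φ.hv l).1, (φ.hv l).2.1⟩, huv := φ.huv, hP := φ.hP,
            span := ?_, indep := ?_ }, rfl, rfl⟩
  · simp [η, c, map_sum, map_mul, (φ.memN.1 hxN).2]
  · intro b l m
    obtain ⟨cf, hcf, hcf0⟩ := hspanA _ (φ.sandwich b l m)
    refine ⟨cf, by simp only [hηz]; exact hcf, ?_⟩
    rw [← hcf0]
    show D.F b l m = D.F (φ.v l * b * φ.u m) φ.o φ.o
    rw [map_mul, map_mul, (φ.hv l).2.2, (φ.hu m).2.2, Matrix.single_mul_mul_single]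
    simp
  · simp only [hηz]
    rw [Fintype.linearIndependent_iff]
    intro g hg
    by_contra hne
    push Not at hne
    obtain ⟨i, hi, hmin⟩ := Finset.exists_min_image (Finset.univ.filter fun i => g i ≠ 0)
      (fun i : Fin N => (i : ℕ))
      (by obtain ⟨i, hi⟩ := hne; exact ⟨i, Finset.mem_filter.2 ⟨Finset.mem_univ _, hi⟩⟩)
    have hne' : x ^ (N - 1) * φ.z ≠ 0 := Nat.find_min hex (by omega)
    have h := congrArg (fun y => x ^ (N - 1 - (i : ℕ)) * y) hg
    simp only [Finset.mul_sum, mul_smul_comm, ← mul_assoc, ← pow_add, mul_zero] at h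
    rw [Finset.sum_eq_single i] at h
    · rw [show N - 1 - (i : ℕ) + i = N - 1 by omega, smul_eq_zero] at h
      exact (Finset.mem_filter.1 hi).2 (h.resolve_right hne')
    · intro j _ hji
      by_cases hgj : g j = 0
      · rw [hgj, zero_smul]
      · have hij : (i : ℕ) < j := lt_of_le_of_ne
          (hmin j (Finset.mem_filter.2 ⟨Finset.mem_univ _, hgj⟩)) fun h => hji (Fin.ext h.symm)
        rw [show x ^ (N - 1 - (i : ℕ) + j) = x ^ (N - 1 - (i : ℕ) + j - N) * x ^ N by
          rw [← pow_add]; congr 1; omega, mul_assoc, hNz, mul_zero, smul_zero]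
    · simp

end Cfsg.Agent.BlockAlg
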