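/-
A block algebra of least dimension is a single orbit of the two-sided action of a Sylow
`p`-subgroup; automorphisms of subgroups of the Sylow subgroup seen by the block are inner in it.
-/
import Cfsg.Agent.Lib.Stable.Basic
import Cfsg.Agent.Lib.BlockAlg.RankLift
import Cfsg.Agent.Lib.BrauerPairs.Bridge

set_option linter.unusedSectionVars false
set_option linter.style.haveILetI false

namespace Cfsg.Agent.BlockAlg

open MonoidAlgebra Cfsg.Agent.Blocks Cfsg.Agent.BrauerPairs
open Cfsg.Agent.Stable (sg sg_mul sg_one cj_sg cj_eq_conj)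

universe u v

/-- A finite `p`-group acting on a nonzero space over the prime field fixes a nonzero element. -/
theorem exists_fixed_ne_zmod {p : ℕ} [Fact p.Prime] {Γ : Type u} [Group Γ] [Finite Γ]
    (hΓ : IsPGroup p Γ) {W : Type v} [AddCommGroup W] [Module (ZMod p) W] [DistribMulAction Γ W]
    {w₀ : W} (hw₀ : w₀ ≠ 0) (S : AddSubgroup W) (hS : w₀ ∈ S)
    (hSinv : ∀ γ : Γ, ∀ w ∈ S, γ • w ∈ S) : ∃ w ∈ S, w ≠ 0 ∧ ∀ γ : Γ, γ • w = w := by
  classical
  have hW : ∀ w : W, p • w = 0 := fun w => by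
    rw [← Nat.cast_smul_eq_nsmul (ZMod p), ZMod.natCast_self, zero_smul]
  let U : Submodule (ZMod p) W := Submodule.span (ZMod p) (Set.range fun γ : Γ => γ • w₀)
  haveI : Module.Finite (ZMod p) U :=
    Module.Finite.span_of_finite (ZMod p) (Set.finite_range _)
  haveI : Finite U := Module.finite_of_finite (ZMod p)
  have hUS : ∀ w ∈ U, w ∈ S := by
    intro w hw
    induction hw using Submodule.span_induction with
    | mem w h => obtain ⟨γ, rfl⟩ := h; exact hSinv γ _ hS
    | zero => exact S.zero_mem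
    | add _ _ _ _ h1 h2 => exact S.add_mem h1 h2
    | smul c w _ h =>
      rw [← ZMod.natCast_zmod_val c, Nat.cast_smul_eq_nsmul]
      exact S.nsmul_mem h _
  have hUinv : ∀ (γ : Γ), ∀ w ∈ U, γ • w ∈ U := by
    intro γ w hw
    induction hw using Submodule.span_induction with
    | mem w h =>
      obtain ⟨δ, rfl⟩ := h
      exact Submodule.subset_span ⟨γ * δ, (mul_smul γ δ w₀)⟩
    | zero => rw [smul_zero]; exact U.zero_mem
    | add _ _ _ _ h1 h2 => rw [smul_add]; exact U.add_mem h1 h2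
    | smul c w _ h =>
      rw [← ZMod.natCast_zmod_val c, Nat.cast_smul_eq_nsmul, smul_comm,
        ← Nat.cast_smul_eq_nsmul (ZMod p)]
      exact U.smul_mem _ h
  letI : MulAction Γ U :=
    { smul := fun γ w => ⟨γ • (w : W), hUinv γ w w.2⟩
      one_smul := fun w => Subtype.ext (one_smul Γ (w : W))
      mul_smul := fun a b w => Subtype.ext (mul_smul a b (w : W)) }
  have hdvd : p ∣ Nat.card U := by
    have hmem : w₀ ∈ U := Submodule.subset_span ⟨1, one_smul Γ w₀⟩
    have hord : addOrderOf (⟨w₀, hmem⟩ : U) = p :=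
      addOrderOf_eq_prime (Subtype.ext (hW w₀)) fun h => hw₀ (congrArg Subtype.val h)
    have h := addOrderOf_dvd_natCard (⟨w₀, hmem⟩ : U)
    rwa [hord] at h
  obtain ⟨w, hw, hne⟩ := hΓ.exists_fixed_point_of_prime_dvd_card_of_fixed_point U hdvd
    (a := (0 : U)) (fun γ => Subtype.ext (smul_zero γ))
  exact ⟨w, hUS w w.2, fun h => hne (Subtype.ext h.symm),
    fun γ => congrArg Subtype.val (hw γ)⟩

/-- A finite `p`-group acting on a nonzero group of exponent `p` fixes a nonzero element. -/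
theorem exists_fixed_ne {p : ℕ} [Fact p.Prime] {Γ : Type u} [Group Γ] [Finite Γ]
    (hΓ : IsPGroup p Γ) {W : Type v} [AddCommGroup W] [DistribMulAction Γ W]
    (hW : ∀ w : W, p • w = 0) {w₀ : W} (hw₀ : w₀ ≠ 0) (S : AddSubgroup W) (hS : w₀ ∈ S)
    (hSinv : ∀ γ : Γ, ∀ w ∈ S, γ • w ∈ S) : ∃ w ∈ S, w ≠ 0 ∧ ∀ γ : Γ, γ • w = w :=
  letI : Module (ZMod p) W := AddCommGroup.zmodModule hW
  exists_fixed_ne_zmod hΓ hw₀ S hS hSinv

variable {G : Type u} [Group G] [Fintype G] {k : Type} [Field k] {p : ℕ} [Fact p.Prime] [CharP k p]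
  [SplitCenter k G]

/-- The coefficients after multiplying by group elements. -/
theorem coeff_sg_mul_mul_sg (a b : G) (x : MonoidAlgebra k G) (g : G) :
    (sg k a * x * sg k b).coeff g = x.coeff (a⁻¹ * g * b⁻¹) := by
  classical
  rw [coeff_mul_univ, Finset.sum_eq_single (g * b⁻¹)]
  · rw [coeff_mul_univ, Finset.sum_eq_single a]
    · simp [sg, mul_assoc]
    · intro c _ hc
      simp [sg, Ne.symm hc]
    · simp
  · intro c _ hc
    have : b ≠ c⁻¹ * g := fun h => hc (by rw [h]; group)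
    simp [sg, this]
  · simp

/-- The idempotent of a block is a trace from a defect group. -/
theorem exists_trace_elt {e : MonoidAlgebra k G} (he : IsBlk ⊤ e) {D : Subgroup G}
    (hD : IsDefGrp p ⊤ e D) [Fintype (G ⧸ D)] :
    ∃ c : MonoidAlgebra k G, (∀ u ∈ D, cj u c = c) ∧ e * c = c ∧
      ∑ q : G ⧸ D, cj q.out c = e := by
  classical
  obtain ⟨t, -, -, hlam, hS⟩ := hD
  have hec : IsClassElt e := fun g h => he.inZ.inv h (Subgroup.mem_top h) g
  set K := classSum k t with hK
  have hKin : classSumIn k ⊤ t = K := by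
    refine gaExt fun g => ?_
    by_cases h : ∃ n ∈ (⊤ : Subgroup G), n * t * n⁻¹ = g
    · obtain ⟨n, -, rfl⟩ := h
      rw [coeff_classSumIn_pos ⟨n, Subgroup.mem_top n, rfl⟩, hK, coeff_classSum,
        if_pos (isConj_iff.2 ⟨n, rfl⟩)]
    · rw [coeff_classSumIn_neg h, hK, coeff_classSum, if_neg]
      intro hc
      obtain ⟨n, hn⟩ := isConj_iff.1 hc
      exact h ⟨n, Subgroup.mem_top n, hn⟩
  rw [hKin] at hlam
  set lm := lam e K with hlm
  have hnil : IsNilpotent ((K - lm • 1) * e) :=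
    lam_spec he (hKin ▸ inZ_classSumIn le_rfl Subgroup.le_normalizer (Subgroup.mem_top t))
  set N := (K - lm • 1) * e with hN
  set V : MonoidAlgebra k G := lm • e + (1 - e) with hV
  have hVunit : IsUnit V := by
    have key : ∀ a b : k, a * b = 1 → (a • e + (1 - e)) * (b • e + (1 - e)) = 1 := by
      intro a b hab
      simp only [add_mul, mul_add, smul_mul_assoc, mul_smul_comm, mul_sub, sub_mul,
        mul_one, one_mul, he.idem, sub_self, add_zero]
      rw [smul_smul, mul_comm b, hab, one_smul]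
      abel
    exact ⟨⟨V, lm⁻¹ • e + (1 - e), key _ _ (mul_inv_cancel₀ hlam),
      key _ _ (inv_mul_cancel₀ hlam)⟩, rfl⟩
  have hVc : ∀ y, Commute V y := fun y =>
    (Commute.smul_left (hec.comm y) lm).add_left ((Commute.one_left y).sub_left (hec.comm y))
  obtain ⟨U, hU⟩ := hnil.isUnit_add_left_of_commute hVunit ((hVc N).symm)
  have hUe : e * (U : MonoidAlgebra k G) = e * K := by
    have e1 : e * N = e * K - lm • e := by
      rw [hN, ← mul_assoc, mul_sub, mul_smul_comm, mul_one, sub_mul, smul_mul_assoc, he.idem,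
        mul_assoc, ← hec.comm K, ← mul_assoc, he.idem]
    have e2 : e * V = lm • e := by
      rw [hV, mul_add, mul_smul_comm, he.idem, mul_sub, mul_one, he.idem, sub_self, add_zero]
    rw [hU, mul_add, e1, e2, add_sub_cancel]
  have hKc : ∀ y, Commute K y := fun y => IsClassElt.comm (fun g h => by
    rw [hK, coeff_classSum, coeff_classSum]
    refine if_congr ⟨fun hc => hc.trans (isConj_iff.2 ⟨h⁻¹, by group⟩),
      fun hc => hc.trans (isConj_iff.2 ⟨h, rfl⟩)⟩ rfl rfl) y
  have hUc : ∀ y, Commute (U : MonoidAlgebra k G) y := fun y => by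
    rw [hU]
    exact (hVc y).add_left (((hKc y).sub_left (Commute.smul_left (Commute.one_left y) lm)).mul_left
      (hec.comm y))
  have hUic : ∀ y, Commute (↑U⁻¹ : MonoidAlgebra k G) y := fun y => (hUc y).units_inv_left
  have hDC : D ≤ Subgroup.centralizer ({t} : Set G) := hS.le.trans inf_le_right
  set idx : k := (D.relIndex (Subgroup.centralizer ({t} : Set G)) : k) with hidx
  have hidx0 : idx ≠ 0 := by
    rw [hidx]
    intro h
    let Cs := Subgroup.centralizer ({t} : Set G)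
    have hmax : ∀ {R : Subgroup Cs}, IsPGroup p R → D.subgroupOf Cs ≤ R → R = D.subgroupOf Cs := by
      intro R hR hle
      have h1 := hS.max (R.map Cs.subtype) (fun d hd => ⟨⟨d, hDC hd⟩, hle hd, rfl⟩)
        (by rw [top_inf_eq]; exact Subgroup.map_subtype_le R) (hR.map _)
      rw [← h1, Subgroup.subgroupOf, Subgroup.comap_map_eq_self_of_injective Cs.subtype_injective]
    let S : Sylow p Cs := ⟨D.subgroupOf Cs, hS.pgroup.comap_of_injective _ Cs.subtype_injective, hmax⟩
    exact S.not_dvd_index ((CharP.cast_eq_zero_iff k p _).1 h)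
  set a := idx⁻¹ • (e * (↑U⁻¹ : MonoidAlgebra k G)) with ha
  have hac : ∀ g, cj g a = a := fun g => by
    rw [cj_eq_conj, ha, mul_smul_comm, smul_mul_assoc,
      ← ((Commute.mul_left (hec.comm (sg k g)) (hUic (sg k g)))).eq, mul_assoc, ← sg_mul,
      mul_inv_cancel, sg_one, mul_one]
  refine ⟨a * sg k t, fun u hu => ?_, ?_, ?_⟩
  · rw [map_mul, hac, cj_sg, Subgroup.mem_centralizer_singleton_iff.1 (hDC hu),
      mul_inv_cancel_right]
  · rw [← mul_assoc, ha, mul_smul_comm, ← mul_assoc, he.idem]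
  · rw [Finset.sum_congr rfl fun q _ => by rw [map_mul, hac, cj_sg], ← Finset.mul_sum]
    simp only [sg]
    rw [sum_quotient_conj hDC, ← Nat.cast_smul_eq_nsmul k, ← hidx, ha, smul_mul_assoc,
      mul_smul_comm, smul_smul, inv_mul_cancel₀ hidx0, one_smul, mul_assoc, (hUic _).eq,
      ← hK, ← mul_assoc, ← hUe, mul_assoc, Units.mul_inv, mul_one]

variable {e : MonoidAlgebra k G} {P D : Subgroup G}

/-- In a block algebra of least dimension, automorphisms of subgroups of a Sylow subgroup seen by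
the block come from the Sylow subgroup. -/
theorem twist_inner (he : IsBlk ⊤ e) (hD : IsDefGrp p ⊤ e D) (hP : IsPGroup p P) (hDP : D ≤ P)
    (hdim : Module.finrank k (LinearMap.range (LinearMap.mulRight k e)) * Nat.card D ≤
      Nat.card P * Nat.card P)
    {Q : Subgroup G} (hQP : Q ≤ P) (hQ : brTrunc Q e ≠ 0) {x : G}
    (hx : ∀ q ∈ Q, x * q * x⁻¹ ∈ P) :
    ∃ w ∈ P, ∀ q ∈ Q, w * q * w⁻¹ = x * q * x⁻¹ := by
  classical
  haveI : Fintype (G ⧸ D) := Fintype.ofFinite _
  have hec : IsClassElt e := fun g h => he.inZ.inv h (Subgroup.mem_top h) g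
  obtain ⟨c, hcD, hec', hsum⟩ := exists_trace_elt he hD
  let cq : G ⧸ D → MonoidAlgebra k G := Quotient.lift (fun g => cj g c) fun g g' h => by
    obtain ⟨u, hu, rfl⟩ : ∃ u ∈ D, g' = g * u :=
      ⟨g⁻¹ * g', QuotientGroup.leftRel_apply.1 h, by group⟩
    show cj g c = cj (g * u) c
    rw [← cj_cj, hcD u hu]
  have hcq : ∀ (y : G) (s : G ⧸ D), cq (y • s) = cj y (cq s) := fun y s =>
    Quotient.inductionOn s fun g => by
      show cj (y * g) c = cj y (cj g c)
      rw [cj_cj]
  have hcqe : ∀ s, e * cq s = cq s := fun s => Quotient.inductionOn s fun g => by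
    show e * cj g c = cj g c
    conv_lhs => rw [show e = cj g e from (cj_eq_of_inZ he.inZ (Subgroup.mem_top g)).symm]
    rw [← map_mul, hec']
  have hsum' : ∑ s, cq s = e := by
    rw [← hsum]
    exact Finset.sum_congr rfl fun s _ => (congrArg cq (Quotient.out_eq s)).symm.trans rfl
  -- the action
  letI : MulAction (P × P) ((G ⧸ D) × G) :=
    { smul := fun γ w => ((γ.1 : G) • w.1, (γ.1 : G) * w.2 * ((γ.2 : G))⁻¹)
      one_smul := fun w => Prod.ext (one_smul G w.1) (by show (1 : G) * w.2 * (1 : G)⁻¹ = w.2; group)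
      mul_smul := fun γ δ w => Prod.ext (mul_smul (γ.1 : G) (δ.1 : G) w.1) (by
        show (γ.1 : G) * δ.1 * w.2 * ((γ.2 : G) * δ.2)⁻¹ =
          (γ.1 : G) * ((δ.1 : G) * w.2 * (δ.2 : G)⁻¹) * (γ.2 : G)⁻¹
        group) }
  have hsmul : ∀ (γ : P × P) (w : (G ⧸ D) × G),
      γ • w = ((γ.1 : G) • w.1, (γ.1 : G) * w.2 * ((γ.2 : G))⁻¹) := fun _ _ => rfl
  let F : (G ⧸ D) × G → MonoidAlgebra k G := fun w => cq w.1 * sg k w.2
  let act : P × P → MonoidAlgebra k G → MonoidAlgebra k G := fun γ v =>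
    sg k (γ.1 : G) * v * sg k ((γ.2 : G))⁻¹
  have hF : ∀ γ w, F (γ • w) = act γ (F w) := fun γ w => by
    simp only [F, act, hsmul, hcq, cj_eq_conj, sg_mul, mul_assoc]
    rw [← mul_assoc (sg k (γ.1 : G)⁻¹), ← sg_mul, inv_mul_cancel, sg_one, one_mul]
  have hact : ∀ γ v (g : G), (act γ v).coeff ((γ.1 : G) * g * (γ.2 : G)⁻¹) = v.coeff g :=
    fun γ v g => by
      show (sg k (γ.1 : G) * v * sg k ((γ.2 : G))⁻¹).coeff _ = _
      rw [coeff_sg_mul_mul_sg]
      congr 1
      group
  have hpair : IsPGroup p (P × P) := by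
    obtain ⟨n, hn⟩ := hP.exists_card_eq
    exact IsPGroup.of_card (n := n + n) (by rw [Nat.card_prod, hn, pow_add])
  set M := LinearMap.range (LinearMap.mulRight k e) with hM
  have hMe : ∀ {v}, v ∈ M → e * v = v := fun {v} hv => by
    obtain ⟨b, rfl⟩ := hv
    rw [LinearMap.mulRight_apply, ← mul_assoc, hec.comm, mul_assoc, he.idem]
  have hFM : ∀ w, F w ∈ M := fun w => ⟨F w, by
    show F w * e = F w
    rw [← hec.comm]
    show e * (cq w.1 * sg k w.2) = _
    rw [← mul_assoc, hcqe]⟩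
  have hactM : ∀ γ, ∀ v ∈ M, act γ v ∈ M := fun γ v hv => ⟨act γ v, by
    show act γ v * e = act γ v
    rw [← hec.comm]
    show e * (sg k (γ.1 : G) * v * sg k ((γ.2 : G))⁻¹) = _
    rw [← mul_assoc, ← mul_assoc, hec.comm, mul_assoc (sg k _) e, hMe hv]⟩
  letI : DistribMulAction (P × P) (MonoidAlgebra k G) :=
    { smul := act
      one_smul := fun v => by
        show sg k ((1 : P × P).1 : G) * v * sg k (((1 : P × P).2 : G))⁻¹ = v
        simp [sg_one]
      mul_smul := fun γ δ v => by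
        show sg k (((γ * δ).1 : P) : G) * v * sg k ((((γ * δ).2 : P) : G))⁻¹ =
          sg k (γ.1 : G) * (sg k (δ.1 : G) * v * sg k ((δ.2 : G))⁻¹) * sg k ((γ.2 : G))⁻¹
        simp only [Prod.fst_mul, Prod.snd_mul, Subgroup.coe_mul, _root_.mul_inv_rev, sg_mul,
          mul_assoc]
      smul_zero := fun γ => by show sg k _ * 0 * sg k _ = 0; simp
      smul_add := fun γ v w => by show sg k _ * (v + w) * sg k _ = _; rw [mul_add, add_mul]; rfl }
  have hpz : ∀ v : MonoidAlgebra k G, p • v = 0 := fun v => by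
    rw [← Nat.cast_smul_eq_nsmul k, CharP.cast_eq_zero, zero_smul]
  have heM : e ∈ M := ⟨e, he.idem⟩
  obtain ⟨m, hmM, hm0, hmfix⟩ := exists_fixed_ne hpair hpz he.ne_zero M.toAddSubgroup heM
    fun γ v hv => hactM γ v hv
  -- an orbit with nonzero sum
  have hmco : ∀ (γ : P × P) (g : G), m.coeff ((γ.1 : G) * g * (γ.2 : G)⁻¹) = m.coeff g :=
    fun γ g => by
      conv_lhs => rw [← hmfix γ]
      exact hact γ m g
  have hmsum : ∑ w : (G ⧸ D) × G, m.coeff w.2 • F w = m := by
    rw [Fintype.sum_prod_type_right]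
    conv_rhs => rw [← hMe hmM, ← sum_coeff_single' m, Finset.mul_sum]
    refine Finset.sum_congr rfl fun g _ => ?_
    simp only [F]
    rw [← Finset.smul_sum, ← Finset.sum_mul, hsum', mul_smul_comm]
    rfl
  let orb : (G ⧸ D) × G → Quotient (MulAction.orbitRel (P × P) ((G ⧸ D) × G)) :=
    fun w => Quotient.mk _ w
  haveI : Fintype (Quotient (MulAction.orbitRel (P × P) ((G ⧸ D) × G))) := Fintype.ofFinite _
  obtain ⟨w₀, hw₀⟩ : ∃ w₀, ∑ w ∈ Finset.univ.filter (fun w => w ∈ MulAction.orbit (P × P) w₀),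
      F w ≠ 0 := by
    by_contra hcon
    push Not at hcon
    apply hm0
    rw [← hmsum, ← Finset.sum_fiberwise Finset.univ orb]
    refine Finset.sum_eq_zero fun o _ => ?_
    obtain ⟨w₁, rfl⟩ := Quotient.exists_rep o
    have hset : Finset.univ.filter (fun w => orb w = Quotient.mk _ w₁) =
        Finset.univ.filter (fun w => w ∈ MulAction.orbit (P × P) w₁) :=
      Finset.filter_congr fun w _ => Quotient.eq
    rw [hset, Finset.sum_congr rfl fun w hw => show m.coeff w.2 • F w = m.coeff w₁.2 • F w by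
      obtain ⟨γ, hγ⟩ := (Finset.mem_filter.1 hw).2
      rw [← hγ]
      show m.coeff ((γ.1 : G) * w₁.2 * (γ.2 : G)⁻¹) • _ = _
      rw [hmco], ← Finset.smul_sum, hcon, smul_zero]
  -- its functions give the whole algebra
  let O := MulAction.orbit (P × P) w₀
  haveI : Fintype O := Fintype.ofFinite _
  let Φ : (O → k) →ₗ[k] MonoidAlgebra k G := Fintype.linearCombination k fun o => F o.1
  letI : DistribMulAction (P × P) (O → k) :=
    { smul := fun γ a o => a (γ⁻¹ • o)
      one_smul := fun a => funext fun o => by show a ((1 : P × P)⁻¹ • o) = a o; rw [inv_one, one_smul]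
      mul_smul := fun γ δ a => funext fun o => by
        show a ((γ * δ)⁻¹ • o) = a (δ⁻¹ • γ⁻¹ • o)
        rw [_root_.mul_inv_rev, mul_smul]
      smul_zero := fun γ => rfl
      smul_add := fun γ a b => rfl }
  have hΦ : ∀ (γ : P × P) (a : O → k), Φ (γ • a) = γ • Φ a := by
    intro γ a
    show _ = act γ (Φ a)
    simp only [Φ, Fintype.linearCombination_apply, act, Finset.mul_sum, Finset.sum_mul,
      mul_smul_comm, smul_mul_assoc]
    refine (Fintype.sum_equiv (MulAction.toPerm γ) _ _ fun o => ?_).symm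
    show _ = a (γ⁻¹ • γ • o) • F (γ • o.1)
    rw [inv_smul_smul, hF]
  have hinj : Function.Injective Φ := by
    rw [← LinearMap.ker_eq_bot, Submodule.eq_bot_iff]
    intro a ha
    by_contra ha0
    obtain ⟨a', ha'k, ha'0, ha'fix⟩ := exists_fixed_ne hpair (W := O → k)
      (fun b => funext fun o => by
        simp [Pi.smul_apply, ← Nat.cast_smul_eq_nsmul k, CharP.cast_eq_zero])
      ha0 (LinearMap.ker Φ).toAddSubgroup ha fun γ b hb => by
        show Φ (γ • b) = 0
        rw [hΦ, show Φ b = 0 from hb, smul_zero]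
    have hconst : ∀ o : O, a' o = a' ⟨w₀, MulAction.mem_orbit_self _⟩ := by
      rintro ⟨_, γ, rfl⟩
      have := congrFun (ha'fix γ⁻¹) ⟨w₀, MulAction.mem_orbit_self _⟩
      rw [← this]
      show _ = a' ((γ⁻¹)⁻¹ • _)
      rw [inv_inv]
      exact congrArg a' (Subtype.ext rfl)
    have h0 : Φ a' = 0 := ha'k
    simp only [Φ, Fintype.linearCombination_apply, hconst, ← Finset.smul_sum] at h0
    rcases smul_eq_zero.1 h0 with h | h
    · exact ha'0 (funext fun o => (hconst o).trans h)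
    · refine hw₀ (Eq.trans ?_ h)
      exact Finset.sum_subtype (p := fun w => w ∈ O) _ (fun w => by simp [O]) F
  have hstab : ∀ w : O, Nat.card (MulAction.stabilizer (P × P) w.1) ≤ Nat.card D := by
    intro w
    obtain ⟨g, hg⟩ := QuotientGroup.mk_surjective w.1.1
    refine Nat.card_le_card_of_injective (fun γ => (⟨g⁻¹ * (γ.1.1 : G) * g, ?_⟩ : D))
      fun γ δ h => ?_
    · have h1 : (γ.1.1 : G) • w.1.1 = w.1.1 := congrArg Prod.fst γ.2
      rw [← hg] at h1
      have h2 := D.inv_mem (QuotientGroup.eq.1 (h1 : QuotientGroup.mk ((γ.1.1 : G) * g) = _))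
      simpa [mul_assoc] using h2
    · have h1 : (γ.1.1 : G) = δ.1.1 := mul_left_cancel (mul_right_cancel (congrArg Subtype.val h))
      have hγ : (γ.1.1 : G) * w.1.2 * (γ.1.2 : G)⁻¹ = w.1.2 := congrArg Prod.snd γ.2
      have hδ : (δ.1.1 : G) * w.1.2 * (δ.1.2 : G)⁻¹ = w.1.2 := congrArg Prod.snd δ.2
      rw [h1] at hγ
      exact Subtype.ext (Prod.ext (Subtype.ext h1) (Subtype.ext
        (inv_injective (mul_left_cancel (hγ.trans hδ.symm)))))
  have hrange : LinearMap.range Φ = M := by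
    refine Submodule.eq_of_le_of_finrank_le ?_ ?_
    · rintro _ ⟨a, rfl⟩
      simp only [Φ, Fintype.linearCombination_apply]
      exact M.sum_mem fun o _ => M.smul_mem _ (hFM _)
    · rw [LinearMap.finrank_range_of_inj hinj, Module.finrank_pi, ← Nat.card_eq_fintype_card]
      have h1 := Nat.card_congr (MulAction.orbitProdStabilizerEquivGroup (P × P) w₀)
      rw [Nat.card_prod, Nat.card_prod] at h1
      have h2 := hstab ⟨w₀, MulAction.mem_orbit_self _⟩
      refine Nat.le_of_mul_le_mul_right ?_ (Nat.card_pos (α := D))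
      exact hdim.trans (h1 ▸ Nat.mul_le_mul_left _ h2)
  -- fixed points of twisted subgroups
  have key : ∀ (R : Subgroup G) (hR : R ≤ P) (_ : brTrunc R e ≠ 0) (y : G)
      (hy : ∀ r ∈ R, y * r * y⁻¹ ∈ P),
      ∃ o : O, ∀ (r : G) (hr : r ∈ R), ((⟨_, hy r hr⟩, ⟨r, hR hr⟩) : P × P) • o.1 = o.1 := by
    intro R hR hRe y hy
    obtain ⟨h, hh⟩ : ∃ h, (brTrunc R e).coeff h ≠ 0 := by
      by_contra hcon
      push Not at hcon
      exact hRe (gaExt fun g => by rw [hcon g]; simp)
    have hhC : h ∈ Subgroup.centralizer (R : Set G) := by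
      by_contra hn
      exact hh (coeff_brTrunc_neg hn)
    rw [coeff_brTrunc_pos hhC] at hh
    let ψ : R →* P × P :=
      { toFun := fun r => (⟨_, hy r r.2⟩, ⟨r, hR r.2⟩)
        map_one' := Prod.ext (Subtype.ext (by simp)) (Subtype.ext rfl)
        map_mul' := fun r s => Prod.ext (Subtype.ext (by simp [mul_assoc])) (Subtype.ext rfl) }
    letI : MulAction R O := MulAction.compHom O ψ
    set v := sg k y * e with hv
    have hvM : v ∈ M := ⟨sg k y, rfl⟩
    obtain ⟨a, ha⟩ := hrange.ge hvM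
    have hvfix : ∀ r : R, ψ r • v = v := fun r => by
      show sg k (y * (r : G) * y⁻¹) * (sg k y * e) * sg k ((r : G))⁻¹ = _
      rw [← mul_assoc, mul_assoc _ e, hec.comm (sg k ((r : G))⁻¹), ← mul_assoc, ← sg_mul,
        ← sg_mul, show y * (r : G) * y⁻¹ * y * (r : G)⁻¹ = y by group]
    have ha2 : ∀ (r : R) (o : O), a (r • o) = a o := by
      intro r o
      have e1 : ψ r • a = a := hinj (by rw [hΦ, ha, hvfix r])
      have := congrFun e1 (r • o)
      rw [← this]
      show a ((ψ r)⁻¹ • ψ r • o) = a o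
      rw [inv_smul_smul]
    have hval : v.coeff (y * h) ≠ 0 := by
      have := coeff_sg_mul_mul_sg y 1 e (y * h)
      rw [sg_one, mul_one, inv_one, mul_one, inv_mul_cancel_left] at this
      rwa [hv, this]
    by_contra hcon
    push Not at hcon
    apply hval
    rw [← ha]
    simp only [Φ, Fintype.linearCombination_apply, MonoidAlgebra.coeff_sum, Finset.sum_apply',
      MonoidAlgebra.coeff_smul, Finsupp.smul_apply, smul_eq_mul]
    rw [sum_eq_sum_fixed (hP.to_le hR) (fun o => a o * (F o.1).coeff (y * h)) fun r o => ?_]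
    · refine Finset.sum_eq_zero fun o ho => ?_
      obtain ⟨r, hr, hne⟩ := hcon o
      exact absurd (congrArg Subtype.val ((Finset.mem_filter.1 ho).2 ⟨r, hr⟩)) hne
    · rw [ha2]
      congr 1
      show (F (ψ r • o.1)).coeff (y * h) = _
      rw [hF]
      conv_lhs => rw [show y * h = ((ψ r).1 : G) * (y * h) * ((ψ r).2 : G)⁻¹ by
        show y * h = y * (r : G) * y⁻¹ * (y * h) * (r : G)⁻¹
        have := Subgroup.mem_centralizer_iff.1 hhC r r.2
        rw [show y * (r : G) * y⁻¹ * (y * h) * (r : G)⁻¹ = y * ((r : G) * h) * (r : G)⁻¹ by group,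
          this]
        group]
      exact hact _ _ _
  obtain ⟨o₁, ho₁⟩ := key D hDP hD.brTrunc_ne_zero 1 (fun r hr => by simpa using hDP hr)
  obtain ⟨o₂, ho₂⟩ := key Q hQP hQ x hx
  have hdiag : ∀ γ : P × P, γ • o₁.1 = o₁.1 → (γ.1 : G) = γ.2 := by
    intro γ hγ
    let f : D → MulAction.stabilizer (P × P) o₁.1 := fun d => ⟨_, ho₁ d d.2⟩
    have hfi : Function.Injective f := fun d d' h => Subtype.ext
      (congrArg (fun s : MulAction.stabilizer (P × P) o₁.1 => (s.1.2 : G)) h)
    have hfs := ((Nat.bijective_iff_injective_and_card f).2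
      ⟨hfi, le_antisymm (Nat.card_le_card_of_injective f hfi) (hstab o₁)⟩).2
    obtain ⟨d, hd⟩ := hfs ⟨γ, hγ⟩
    have := congrArg Subtype.val hd
    simp only [f] at this
    rw [← this]
    simp
  obtain ⟨γ, hγ⟩ : ∃ γ : P × P, γ • o₁.1 = o₂.1 := by
    obtain ⟨a, ha⟩ := o₁.2
    obtain ⟨b, hb⟩ := o₂.2
    exact ⟨b * a⁻¹, by rw [← ha, ← hb, smul_smul, inv_mul_cancel_right]⟩
  refine ⟨(γ.1 : G) * (γ.2 : G)⁻¹, P.mul_mem γ.1.2 (P.inv_mem γ.2.2), fun q hq => ?_⟩
  have h1 := ho₂ q hq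
  rw [← hγ, smul_smul] at h1
  have h2 := hdiag (γ⁻¹ * (_ * γ)) (by rw [mul_smul, h1, inv_smul_smul])
  simp only [Prod.fst_mul, Prod.snd_mul, Prod.fst_inv, Prod.snd_inv, Subgroup.coe_mul,
    Subgroup.coe_inv] at h2
  calc (γ.1 : G) * (γ.2 : G)⁻¹ * q * ((γ.1 : G) * (γ.2 : G)⁻¹)⁻¹
      = (γ.1 : G) * ((γ.2 : G)⁻¹ * (q * γ.2)) * (γ.1 : G)⁻¹ := by group
    _ = (γ.1 : G) * ((γ.1 : G)⁻¹ * (x * q * x⁻¹ * γ.1)) * (γ.1 : G)⁻¹ := by rw [h2]
    _ = x * q * x⁻¹ := by group

end Cfsg.Agent.BlockAlg
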